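import Cfsg.Agent.Lib.Cores.Basic
import Cfsg.Prelude.Def_Transfer

/-!
Minimal normal subgroups, stated with the hypotheses
`M ≠ ⊥` and `∀ K, K.Normal → K ≤ M → K = ⊥ ∨ K = M`.
-/

set_option autoImplicit false

namespace Cfsg.Agent.Hall

variable {G : Type*} [Group G]

theorem exists_minimal_normal [Finite G] (N : Subgroup G) [N.Normal] (hN : N ≠ ⊥) :
    ∃ M : Subgroup G, M.Normal ∧ M ≤ N ∧ M ≠ ⊥ ∧
      ∀ K : Subgroup G, K.Normal → K ≤ M → K = ⊥ ∨ K = M := by
  obtain ⟨M, hMN, ⟨hMn, hM⟩, hmin⟩ := exists_minimal_le_of_wellFoundedLT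
    (fun K : Subgroup G => K.Normal ∧ K ≠ ⊥) N ⟨(inferInstance : N.Normal), hN⟩
  exact ⟨M, hMn, hMN, hM, fun K hK hKM =>
    or_iff_not_imp_left.2 fun hne => le_antisymm hKM (hmin ⟨hK, hne⟩ hKM)⟩

theorem minimal_normal_inf_eq_bot {M K : Subgroup G} [M.Normal] [K.Normal]
    (hmin : ∀ L : Subgroup G, L.Normal → L ≤ M → L = ⊥ ∨ L = M) (h : ¬ M ≤ K) : M ⊓ K = ⊥ :=
  (hmin (M ⊓ K) inferInstance inf_le_left).resolve_right fun he => h (he ▸ inf_le_right)

theorem minimal_normal_isMulCommutative {M : Subgroup G} [M.Normal] [hs : Group.IsSolvable M]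
    (hmin : ∀ K : Subgroup G, K.Normal → K ≤ M → K = ⊥ ∨ K = M) : IsMulCommutative M := by
  rcases eq_or_ne M ⊥ with rfl | hM
  · infer_instance
  refine Subgroup.commutator_self_eq_bot_iff.1
    ((hmin ⁅M, M⁆ inferInstance M.commutator_le_self).resolve_right fun h => ?_)
  haveI : Nontrivial M := M.nontrivial_iff_ne_bot.2 hM
  refine (Group.IsSolvable.commutator_lt_top_of_nontrivial M).ne ?_
  refine (Subgroup.map_injective M.subtype_injective) ?_
  rw [Subgroup.map_subtype_commutator, h, ← MonoidHom.range_eq_map, Subgroup.range_subtype]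

theorem minimal_normal_isElementaryAbelian [Finite G] {M : Subgroup G} [M.Normal]
    [hs : Group.IsSolvable M] (hM : M ≠ ⊥)
    (hmin : ∀ K : Subgroup G, K.Normal → K ≤ M → K = ⊥ ∨ K = M) :
    ∃ p : ℕ, p.Prime ∧ p ∣ Nat.card M ∧ IsPGroup p M ∧ Cfsg.IsElementaryAbelian p M := by
  haveI hc := minimal_normal_isMulCommutative hmin
  obtain ⟨p, hp, hd⟩ := Nat.exists_prime_and_dvd
    (fun h => hM (M.eq_bot_of_card_eq h) : Nat.card M ≠ 1)
  haveI : Fact p.Prime := ⟨hp⟩
  obtain ⟨P⟩ : Nonempty (Sylow p M) := inferInstance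
  have hPn : (P : Subgroup M).Normal := by
    constructor
    intro n hn g
    rwa [mul_comm' g n, mul_inv_cancel_right]
  haveI : (P : Subgroup M).Characteristic := P.characteristic_of_normal hPn
  have hP : (P : Subgroup M).map M.subtype = M := by
    refine (hmin _ inferInstance (Subgroup.map_subtype_le _)).resolve_left fun h => ?_
    rw [Subgroup.map_eq_bot_iff_of_injective _ M.subtype_injective] at h
    exact P.ne_bot_of_dvd_card hd h
  have hpg : IsPGroup p M := hP ▸ P.isPGroup'.map M.subtype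
  let Ω : Subgroup G :=
    { carrier := {x | x ∈ M ∧ x ^ p = 1}
      one_mem' := ⟨M.one_mem, one_pow p⟩
      mul_mem' := fun {a b} ha hb => ⟨M.mul_mem ha.1 hb.1, by
        have hab : Commute a b := congrArg Subtype.val (mul_comm' (⟨a, ha.1⟩ : M) ⟨b, hb.1⟩)
        rw [hab.mul_pow, ha.2, hb.2, one_mul]⟩
      inv_mem' := fun {a} ha => ⟨M.inv_mem ha.1, by rw [inv_pow, ha.2, inv_one]⟩ }
  have hΩn : Ω.Normal := ⟨fun x hx g => ⟨Subgroup.Normal.conj_mem inferInstance x hx.1 g, by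
    rw [conj_pow, hx.2, mul_one, mul_inv_cancel]⟩⟩
  obtain ⟨x, hx⟩ := exists_prime_orderOf_dvd_card' p hd
  have hΩ : Ω = M := (hmin Ω hΩn fun x hx => hx.1).resolve_left fun h => by
    have hmem : (x : G) ∈ Ω := ⟨x.2, by
      rw [← SubmonoidClass.coe_pow, ← hx, pow_orderOf_eq_one, OneMemClass.coe_one]⟩
    rw [h, Subgroup.mem_bot, OneMemClass.coe_eq_one] at hmem
    rw [hmem, orderOf_one] at hx
    exact hp.one_lt.ne hx
  refine ⟨p, hp, hd, hpg, hc, fun a => ?_⟩
  intro ha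
  rw [← hΩ] at ha
  exact ha.2

end Cfsg.Agent.Hall
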