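import Cfsg.Agent.Lib.Hall.MinimalNormal
import Cfsg.Agent.Lib.Coprime.SchurZassenhaus
import Cfsg.Prelude.Def_HallClasses

/-!
Hall's theorems for finite solvable groups (E, C and D), with `Cfsg.IsPiHall`.
-/

set_option autoImplicit false

open scoped Pointwise

namespace Cfsg.Agent.Hall

open Cfsg Cores

variable {G H : Type*} [Group G] [Group H]

theorem isPi_conj_smul {π : Set ℕ} {K : Subgroup G} (h : IsPi π K) (g : G) :
    IsPi π (MulAut.conj g • K) :=
  fun p hp hd => h p hp (by rwa [Coprime.card_conj_smul] at hd)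

theorem isPiHall_conj_smul [Finite G] {π : Set ℕ} {K : Subgroup G} (h : IsPiHall π K) (g : G) :
    IsPiHall π (MulAut.conj g • K) := by
  refine ⟨isPi_conj_smul h.1 g, fun p hp hπ hd => h.2 p hp hπ ?_⟩
  have hi : (MulAut.conj g • K).index = K.index := by
    have h1 := (MulAut.conj g • K).card_mul_index
    rw [Coprime.card_conj_smul, ← K.card_mul_index] at h1
    exact Nat.eq_of_mul_eq_mul_left Nat.card_pos h1
  rwa [hi] at hd

theorem isPiHall_coprime [Finite G] {π : Set ℕ} {K U : Subgroup G} (h : IsPiHall π K)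
    (hU : IsPi π U) : (Nat.card U).Coprime K.index :=
  Nat.coprime_of_dvd fun p hp hd hd' => h.2 p hp (hU p hp hd) hd'

theorem card_dvd_of_isPiHall [Finite G] {π : Set ℕ} {K U : Subgroup G} (h : IsPiHall π K)
    (hU : IsPi π U) : Nat.card U ∣ Nat.card K :=
  (isPiHall_coprime h hU).dvd_of_dvd_mul_right (K.card_mul_index.symm ▸ U.card_subgroup_dvd_card)

theorem card_eq_of_isPiHall [Finite G] {π : Set ℕ} {K L : Subgroup G} (h : IsPiHall π K)
    (h' : IsPiHall π L) : Nat.card K = Nat.card L :=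
  Nat.dvd_antisymm (card_dvd_of_isPiHall h' h.1) (card_dvd_of_isPiHall h h'.1)

theorem isPiHall_eq_of_le [Finite G] {π : Set ℕ} {K U : Subgroup G} (h : IsPiHall π K)
    (hU : IsPi π U) (hle : K ≤ U) : K = U :=
  Subgroup.eq_of_le_of_card_ge hle (Nat.le_of_dvd Nat.card_pos (card_dvd_of_isPiHall h hU))

theorem isPiHall_map {π : Set ℕ} {K : Subgroup G} (h : IsPiHall π K) {f : G →* H}
    (hf : Function.Surjective f) : IsPiHall π (K.map f) :=
  ⟨fun p hp hd => h.1 p hp (hd.trans (K.card_map_dvd f)),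
    fun p hp hπ hd => h.2 p hp hπ (hd.trans (K.index_map_dvd hf))⟩

theorem isPiHall_subgroupOf_normal [Finite G] {π : Set ℕ} {K : Subgroup G} (h : IsPiHall π K)
    (N : Subgroup G) [N.Normal] : IsPiHall π (K.subgroupOf N) :=
  ⟨IsPi.subgroupOf h.1 N, fun p hp hπ hd =>
    h.2 p hp hπ (hd.trans (relIndex_dvd_index_right_normal K N))⟩

/-- Hall's theorem: existence of a Hall `π`-subgroup dominating all `π`-subgroups up to
conjugation. -/
theorem exists_hall_dominating (π : Set ℕ) (G : Type*) [Group G] [Finite G]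
    [Group.IsSolvable G] :
    ∃ K : Subgroup G, IsPiHall π K ∧
      ∀ U : Subgroup G, IsPi π U → ∃ g : G, U ≤ MulAut.conj g • K := by
  induction hn : Nat.card G using Nat.strong_induction_on generalizing G with
  | _ n ih =>
    subst hn
    rcases subsingleton_or_nontrivial G with hG | hG
    · exact ⟨⊥, ⟨isPi_bot π, fun p hp _ hd => hp.ne_one (Nat.dvd_one.1 (by
        simpa [Subgroup.index_bot] using hd))⟩, fun U _ => ⟨1, by simp [U.eq_bot_of_subsingleton]⟩⟩
    obtain ⟨M, hMn, -, hM, hmin⟩ := exists_minimal_normal (⊤ : Subgroup G) top_ne_bot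
    obtain ⟨p, hp, -, hpg, -⟩ := minimal_normal_isElementaryAbelian hM hmin
    haveI : Fact p.Prime := ⟨hp⟩
    have hlt : Nat.card (G ⧸ M) < Nat.card G := by
      rw [M.card_eq_card_quotient_mul_card_subgroup]
      exact lt_mul_of_one_lt_right Nat.card_pos (M.one_lt_card_iff_ne_bot.2 hM)
    obtain ⟨Kb, ⟨hKbπ, hKbi⟩, hdom⟩ := ih _ hlt (G ⧸ M) rfl
    let f := QuotientGroup.mk' M
    have hf : Function.Surjective f := QuotientGroup.mk'_surjective M
    have hMK : M ≤ Kb.comap f := by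
      intro x hx
      rw [Subgroup.mem_comap, show f x = 1 from (QuotientGroup.eq_one_iff x).2 hx]
      exact Kb.one_mem
    have hidx : (Kb.comap f).index = Kb.index := Subgroup.index_comap_of_surjective _ hf
    have hstep : ∀ U : Subgroup G, IsPi π U → ∃ g : G, U ≤ MulAut.conj g • Kb.comap f := by
      intro U hU
      obtain ⟨gb, hg⟩ := hdom (U.map f) (hU.map f)
      obtain ⟨g, rfl⟩ := hf gb
      refine ⟨g, fun x hx => ?_⟩
      have h1 := hg (Subgroup.mem_map_of_mem f hx)
      rw [Coprime.mem_conj_smul] at h1 ⊢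
      rw [Subgroup.mem_comap, map_mul, map_mul, map_inv]
      exact h1
    by_cases hpπ : p ∈ π
    · refine ⟨Kb.comap f, ⟨isPi_comap_mk' (IsPi.mono ((isPi_iff_isPGroup M).2 hpg)
        (by simpa using hpπ)) hKbπ, fun q hq hπ hd => hKbi q hq hπ (by rwa [hidx] at hd)⟩, hstep⟩
    -- `p ∉ π`: complement `M` inside the preimage.
    set K := Kb.comap f
    have hMpi : ∀ q : ℕ, q.Prime → q ∣ Nat.card M → q ∉ π := by
      intro q hq hd
      rwa [Set.mem_singleton_iff.1 ((isPi_iff_isPGroup M).2 hpg q hq hd)]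
    have hcop : (Nat.card M).Coprime (Nat.card Kb) :=
      Nat.coprime_of_dvd fun q hq hd hd' => hMpi q hq hd (hKbπ q hq hd')
    have hcardK : Nat.card K = Nat.card M * Nat.card Kb := card_comap_mk' M Kb
    have hMidx : (M.subgroupOf K).index = Nat.card Kb := by
      have h1 := (M.subgroupOf K).card_mul_index
      rw [Nat.card_congr (Subgroup.subgroupOfEquivOfLe hMK).toEquiv, hcardK] at h1
      exact Nat.eq_of_mul_eq_mul_left Nat.card_pos h1
    obtain ⟨C, hC⟩ := Subgroup.exists_right_complement'_of_coprime (N := M.subgroupOf K) (by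
      rwa [hMidx, Nat.card_congr (Subgroup.subgroupOfEquivOfLe hMK).toEquiv])
    let Hh : Subgroup G := C.map K.subtype
    have hHK : Hh ≤ K := Subgroup.map_subtype_le C
    have hcardH : Nat.card Hh = Nat.card Kb := by
      rw [Subgroup.card_map_of_injective K.subtype_injective, ← hC.symm.index_eq_card, hMidx]
    have hsup : M ⊔ Hh = K := by
      have h1 := congrArg (Subgroup.map K.subtype) hC.sup_eq_top
      rwa [Subgroup.map_sup, Subgroup.map_subgroupOf_eq_of_le hMK, ← MonoidHom.range_eq_map,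
        Subgroup.range_subtype] at h1
    have hHi : Hh.index = Nat.card M * Kb.index := by
      have h1 := Hh.card_mul_index
      rw [← K.card_mul_index, hcardK, hidx, hcardH, mul_comm (Nat.card M), mul_assoc] at h1
      exact Nat.eq_of_mul_eq_mul_left Nat.card_pos h1
    refine ⟨Hh, ⟨fun q hq hd => hKbπ q hq (hcardH ▸ hd), fun q hq hπ hd => ?_⟩, fun U hU => ?_⟩
    · rw [hHi] at hd
      exact (hq.dvd_mul.1 hd).elim (fun h => hMpi q hq h hπ) (hKbi q hq hπ)
    obtain ⟨g, hg⟩ := hstep U hU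
    let U' : Subgroup G := MulAut.conj g⁻¹ • U
    have hU'K : U' ≤ K := by
      have h1 : U' ≤ MulAut.conj g⁻¹ • (MulAut.conj g • K) :=
        Subgroup.pointwise_smul_le_pointwise_smul_iff.2 hg
      rwa [Coprime.conj_inv_smul_smul] at h1
    let H₁ : Subgroup G := (M ⊔ U') ⊓ Hh
    have heq : M ⊔ H₁ = M ⊔ U' := by
      refine le_antisymm (sup_le le_sup_left inf_le_left) fun x hx => ?_
      have hxK : x ∈ M ⊔ Hh := hsup.symm ▸ (sup_le hMK hU'K hx)
      obtain ⟨m, hm, y, hy, rfl⟩ :=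
        (Coprime.mem_sup_of_le_normalizer Subgroup.le_normalizer_of_normal).1 hxK
      refine Subgroup.mul_mem_sup hm ⟨?_, hy⟩
      have h2 := (M ⊔ U').mul_mem ((M ⊔ U').inv_mem (Subgroup.mem_sup_left hm)) hx
      simpa using h2
    obtain ⟨x, -, hx⟩ := Coprime.exists_conj_eq_of_sup_eq (N := M) (H := H₁) (K := U')
      Subgroup.le_normalizer_of_normal Subgroup.le_normalizer_of_normal heq
      (hcop.coprime_dvd_right (hcardH ▸ Subgroup.card_dvd_of_le inf_le_right))
      (Nat.coprime_of_dvd fun q hq hd hd' =>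
        hMpi q hq hd (isPi_conj_smul hU g⁻¹ q hq hd'))
      (Or.inl inferInstance)
    refine ⟨g * x, ?_⟩
    rw [Coprime.conj_smul_mul]
    calc U = MulAut.conj g • U' := by
          simp only [U', ← Coprime.conj_smul_mul, mul_inv_cancel, Coprime.conj_smul_one]
      _ ≤ MulAut.conj g • (MulAut.conj x • Hh) := by
          rw [← hx]
          exact Subgroup.pointwise_smul_le_pointwise_smul_iff.2
            (Subgroup.pointwise_smul_le_pointwise_smul_iff.2 inf_le_right)

theorem exists_hall (π : Set ℕ) (G : Type*) [Group G] [Finite G] [Group.IsSolvable G] :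
    ∃ K : Subgroup G, IsPiHall π K :=
  (exists_hall_dominating π G).imp fun _ h => h.1

theorem exists_conj_eq_of_isPiHall [Finite G] [Group.IsSolvable G] {π : Set ℕ}
    {K L : Subgroup G} (hK : IsPiHall π K) (hL : IsPiHall π L) :
    ∃ g : G, MulAut.conj g • K = L := by
  obtain ⟨K₀, hK₀, hdom⟩ := exists_hall_dominating π G
  obtain ⟨a, ha⟩ := hdom K hK.1
  obtain ⟨b, hb⟩ := hdom L hL.1
  have ha' := isPiHall_eq_of_le hK (isPi_conj_smul hK₀.1 a) ha
  have hb' := isPiHall_eq_of_le hL (isPi_conj_smul hK₀.1 b) hb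
  refine ⟨b * a⁻¹, ?_⟩
  rw [Coprime.conj_smul_mul, ha', Coprime.conj_inv_smul_smul, hb']

theorem exists_conj_le_hall [Finite G] [Group.IsSolvable G] {π : Set ℕ} {K U : Subgroup G}
    (hK : IsPiHall π K) (hU : IsPi π U) : ∃ g : G, U ≤ MulAut.conj g • K := by
  obtain ⟨K₀, hK₀, hdom⟩ := exists_hall_dominating π G
  obtain ⟨a, ha⟩ := hdom U hU
  obtain ⟨b, rfl⟩ := exists_conj_eq_of_isPiHall hK hK₀
  exact ⟨a * b, by rwa [Coprime.conj_smul_mul]⟩

theorem exists_le_hall [Finite G] [Group.IsSolvable G] {π : Set ℕ} {U : Subgroup G}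
    (hU : IsPi π U) : ∃ K : Subgroup G, IsPiHall π K ∧ U ≤ K := by
  obtain ⟨K, hK⟩ := exists_hall π G
  obtain ⟨g, hg⟩ := exists_conj_le_hall hK hU
  exact ⟨_, isPiHall_conj_smul hK g, hg⟩

theorem isDPiGroup_of_isSolvable [Finite G] [Group.IsSolvable G] (π : Set ℕ) : IsDPiGroup π G := by
  intro A B hA hB
  obtain ⟨A', hA', hAA'⟩ := exists_le_hall (π := π) hA.1
  obtain ⟨B', hB', hBB'⟩ := exists_le_hall (π := π) hB.1
  obtain ⟨g, hg⟩ := exists_conj_eq_of_isPiHall hA' hB'
  refine ⟨g, ?_⟩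
  rw [le_antisymm (hBB') (hB.2 hB'.1 hBB'), le_antisymm (hAA') (hA.2 hA'.1 hAA'), ← hg]
  rfl

/-- Frattini argument for Hall subgroups of solvable normal subgroups. -/
theorem sup_normalizer_eq_top [Finite G] {π : Set ℕ} (N : Subgroup G) [N.Normal]
    [Group.IsSolvable N] {K : Subgroup N} (hK : IsPiHall π K) :
    N ⊔ Subgroup.normalizer ((K.map N.subtype : Subgroup G) : Set G) = ⊤ := by
  refine top_le_iff.1 fun g _ => ?_
  let e : N ≃* N := MulAut.conjNormal g
  have he : IsPiHall π (K.map e.toMonoidHom) := isPiHall_map hK e.surjective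
  obtain ⟨n, hn⟩ := exists_conj_eq_of_isPiHall he hK
  have hmem : (n : G) * g ∈ Subgroup.normalizer ((K.map N.subtype : Subgroup G) : Set G) := by
    rw [← Coprime.conj_smul_eq_self_iff]
    conv_rhs => rw [← hn]
    rw [Coprime.map_conj_smul, Coprime.conj_smul_mul]
    congr 1
    ext x
    simp only [Subgroup.mem_map, Coprime.mem_conj_smul]
    constructor
    · rintro ⟨y, hy, hyx⟩
      exact ⟨e y, ⟨y, hy, rfl⟩, by simp [e, MulAut.conjNormal_apply, ← mul_assoc, show (y : G) = _ from hyx]⟩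
    · rintro ⟨_, ⟨y, hy, rfl⟩, hyx⟩
      refine ⟨y, hy, ?_⟩
      rw [← hyx]
      simp [e, MulAut.conjNormal_apply, mul_assoc]
  have h2 := Subgroup.mul_mem_sup (N.inv_mem n.2) hmem
  simpa using h2

end Cfsg.Agent.Hall
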