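import Cfsg.Agent.Lib.Coprime.Basic

/-!
Products of two subgroups: orders, factorisations `G = AB` (as `∀ g, ∃ a ∈ A, ∃ b ∈ B, g = a * b`).
-/

set_option autoImplicit false

open scoped Pointwise

namespace Cfsg.Agent.Hall

variable {G : Type*} [Group G]

theorem card_image_mk (A B : Subgroup G) :
    Nat.card ↥((QuotientGroup.mk : G → G ⧸ B) '' (A : Set G)) = B.relIndex A := by
  let f : A ⧸ B.subgroupOf A → G ⧸ B := Quotient.map' Subtype.val fun a b h => by
    rw [QuotientGroup.leftRel_apply] at h ⊢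
    exact h
  have hinj : Function.Injective f := by
    rintro ⟨a⟩ ⟨b⟩ h
    refine Quotient.sound' ?_
    rw [QuotientGroup.leftRel_apply, Subgroup.mem_subgroupOf]
    exact QuotientGroup.eq.1 h
  have hrange : Set.range f = (QuotientGroup.mk : G → G ⧸ B) '' (A : Set G) := by
    ext x
    constructor
    · rintro ⟨⟨a⟩, rfl⟩
      exact ⟨a, a.2, rfl⟩
    · rintro ⟨a, ha, rfl⟩
      exact ⟨((⟨a, ha⟩ : A) : A ⧸ B.subgroupOf A), rfl⟩
  rw [← hrange, Nat.card_congr (Equiv.ofInjective f hinj).symm]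
  rfl

theorem card_mul_inf (A B : Subgroup G) :
    Nat.card ↥((A : Set G) * (B : Set G)) * Nat.card ↥(A ⊓ B) = Nat.card A * Nat.card B := by
  rw [Subgroup.card_mul_eq_card_subgroup_mul_card_quotient B (A : Set G), card_image_mk]
  have h : Nat.card ↥(A ⊓ B) * B.relIndex A = Nat.card A := by
    rw [← Subgroup.relIndex_bot_left, ← Subgroup.relIndex_bot_left, ← Subgroup.inf_relIndex_right B A,
      inf_comm B A, Subgroup.relIndex_mul_relIndex ⊥ (A ⊓ B) A bot_le inf_le_left]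
  calc Nat.card B * B.relIndex A * Nat.card ↥(A ⊓ B)
      = (Nat.card ↥(A ⊓ B) * B.relIndex A) * Nat.card B := by ring
    _ = _ := by rw [h]

theorem mul_eq_univ {A B : Subgroup G} (h : ∀ g : G, ∃ a ∈ A, ∃ b ∈ B, g = a * b) :
    (A : Set G) * (B : Set G) = Set.univ :=
  Set.eq_univ_of_forall fun g => by
    obtain ⟨a, ha, b, hb, rfl⟩ := h g
    exact Set.mul_mem_mul ha hb

theorem card_factorization {A B : Subgroup G} (h : ∀ g : G, ∃ a ∈ A, ∃ b ∈ B, g = a * b) :
    Nat.card G * Nat.card ↥(A ⊓ B) = Nat.card A * Nat.card B := by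
  rw [← card_mul_inf, mul_eq_univ h, Nat.card_univ]

theorem factorization_symm {A B : Subgroup G} (h : ∀ g : G, ∃ a ∈ A, ∃ b ∈ B, g = a * b) :
    ∀ g : G, ∃ b ∈ B, ∃ a ∈ A, g = b * a := fun g => by
  obtain ⟨a, ha, b, hb, hg⟩ := h g⁻¹
  exact ⟨b⁻¹, B.inv_mem hb, a⁻¹, A.inv_mem ha, by rw [← inv_inv g, hg, mul_inv_rev]⟩

/-- Conjugates of the factors of a factorisation factorise, and are conjugate simultaneously. -/
theorem factorization_conj {H K A B : Subgroup G} (hHK : ∀ g : G, ∃ h ∈ H, ∃ k ∈ K, g = h * k)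
    {x y : G} (hA : A = MulAut.conj x • H) (hB : B = MulAut.conj y • K) :
    (∀ g : G, ∃ a ∈ A, ∃ b ∈ B, g = a * b) ∧
      ∃ g : G, A = MulAut.conj g • H ∧ B = MulAut.conj g • K := by
  obtain ⟨h, hh, k, hk, hxy⟩ := hHK (x⁻¹ * y)
  have hA' : A = MulAut.conj (x * h) • H := by
    rw [hA, Coprime.conj_smul_mul, Coprime.conj_smul_eq_self_iff.2 (Subgroup.le_normalizer hh)]
  have hB' : B = MulAut.conj (x * h) • K := by
    rw [hB, show x * h = y * k⁻¹ by rw [eq_mul_inv_iff_mul_eq, mul_assoc, ← hxy,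
      mul_inv_cancel_left], Coprime.conj_smul_mul,
      Coprime.conj_smul_eq_self_iff.2 (Subgroup.le_normalizer (K.inv_mem hk))]
  refine ⟨fun z => ?_, x * h, hA', hB'⟩
  obtain ⟨a, ha, b, hb, hab⟩ := hHK ((x * h)⁻¹ * z * (x * h))
  refine ⟨(x * h) * a * (x * h)⁻¹, ?_, (x * h) * b * (x * h)⁻¹, ?_, ?_⟩
  · rw [hA']; exact Coprime.conj_mem_conj_smul ha
  · rw [hB']; exact Coprime.conj_mem_conj_smul hb
  · calc z = (x * h) * ((x * h)⁻¹ * z * (x * h)) * (x * h)⁻¹ := by group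
      _ = _ := by rw [hab]; group

/-- Two permuting subgroups multiply to a subgroup. -/
theorem exists_subgroup_eq_mul {A B : Subgroup G}
    (h : (B : Set G) * (A : Set G) ⊆ (A : Set G) * (B : Set G)) :
    ∃ S : Subgroup G, (S : Set G) = (A : Set G) * (B : Set G) := by
  refine ⟨
    { carrier := (A : Set G) * (B : Set G)
      one_mem' := ⟨1, A.one_mem, 1, B.one_mem, one_mul 1⟩
      mul_mem' := ?_
      inv_mem' := ?_ }, rfl⟩
  · rintro _ _ ⟨a, ha, b, hb, rfl⟩ ⟨a', ha', b', hb', rfl⟩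
    obtain ⟨a'', ha'', b'', hb'', he⟩ := h (Set.mul_mem_mul hb ha')
    refine ⟨a * a'', A.mul_mem ha ha'', b'' * b', B.mul_mem hb'' hb', ?_⟩
    have he' : a'' * b'' = b * a' := he
    calc a * a'' * (b'' * b') = a * (a'' * b'') * b' := by group
      _ = a * b * (a' * b') := by rw [he']; group
  · rintro _ ⟨a, ha, b, hb, rfl⟩
    rw [mul_inv_rev]
    exact h (Set.mul_mem_mul (B.inv_mem hb) (A.inv_mem ha))

end Cfsg.Agent.Hall
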