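import Cfsg.Agent.Lib.Hall.MinimalNormal
import Cfsg.Agent.SolvStruct.Basic
import Cfsg.Prelude.Def_SolvableStructure

/-!
Supersolvable groups: closure properties and the structure results proved by induction along a
normal subgroup of prime order.
-/

set_option autoImplicit false

open scoped commutatorElement

namespace Cfsg.Agent.Hall.Supersolvable

universe u v

variable {G : Type u} {H : Type v} [Group G] [Group H]

theorem of_surjective (hG : Cfsg.IsSupersolvable G) {f : G →* H} (hf : Function.Surjective f) :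
    Cfsg.IsSupersolvable H := by
  obtain ⟨n, S, h0, h1, hn, hs⟩ := hG
  refine ⟨n, fun i => (S i).map f, by simp [h0], ?_, fun i => (hn i).map f hf, fun i => ?_⟩
  · simp only [h1]
    exact Subgroup.map_top_of_surjective f hf
  · obtain ⟨g, hg⟩ := hs i
    refine ⟨f g, ?_⟩
    simp only [hg, Subgroup.map_sup, MonoidHom.map_zpowers]

theorem of_mulEquiv (hG : Cfsg.IsSupersolvable G) (e : G ≃* H) : Cfsg.IsSupersolvable H :=
  of_surjective hG (f := e.toMonoidHom) e.surjective

theorem quotient (hG : Cfsg.IsSupersolvable G) (N : Subgroup G) [N.Normal] :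
    Cfsg.IsSupersolvable (G ⧸ N) :=
  of_surjective hG (QuotientGroup.mk'_surjective N)

theorem to_subgroup (hG : Cfsg.IsSupersolvable G) (K : Subgroup G) : Cfsg.IsSupersolvable K := by
  obtain ⟨n, S, h0, h1, hn, hs⟩ := hG
  refine ⟨n, fun i => (S i).subgroupOf K, by simp [h0], by simp [h1], fun i => (hn i).subgroupOf K,
    fun i => ?_⟩
  obtain ⟨g, hg⟩ := hs i
  haveI := hn i.castSucc
  let f : K →* G ⧸ S i.castSucc := (QuotientGroup.mk' (S i.castSucc)).comp K.subtype
  have hker : f.ker = (S i.castSucc).subgroupOf K := by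
    rw [← MonoidHom.comap_ker, QuotientGroup.ker_mk']
    rfl
  have hle : ((S i.succ).subgroupOf K).map f ≤ Subgroup.zpowers ((g : G ⧸ S i.castSucc)) := by
    rintro _ ⟨x, hx, rfl⟩
    have hx' : (x : G) ∈ S i.castSucc ⊔ Subgroup.zpowers g := hg ▸ hx
    rw [← SetLike.mem_coe, Subgroup.normal_mul] at hx'
    obtain ⟨a, ha, b, ⟨m, rfl⟩, hab⟩ := hx'
    refine ⟨m, ?_⟩
    simp only [f, MonoidHom.coe_comp, Function.comp_apply, Subgroup.coe_subtype, ← hab,
      map_mul, map_zpow, QuotientGroup.mk'_apply]
    rw [(QuotientGroup.eq_one_iff a).2 ha, one_mul]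
  obtain ⟨y, hy⟩ := Subgroup.isCyclic_iff_exists_zpowers_eq_top _ |>.1
    (Subgroup.isCyclic_of_le hle)
  have hy' : y ∈ ((S i.succ).subgroupOf K).map f := hy ▸ Subgroup.mem_zpowers y
  obtain ⟨x, hx, rfl⟩ := hy'
  refine ⟨x, ?_⟩
  have hle2 : (S i.castSucc).subgroupOf K ≤ (S i.succ).subgroupOf K := fun z hz => by
    rw [Subgroup.mem_subgroupOf, hg]
    exact Subgroup.mem_sup_left hz
  refine le_antisymm ?_ (sup_le hle2 (Subgroup.zpowers_le.2 hx))
  intro z hz
  have hz' : z ∈ (((S i.castSucc).subgroupOf K ⊔ Subgroup.zpowers x).map f).comap f := by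
    rw [Subgroup.mem_comap, Subgroup.map_sup, MonoidHom.map_zpowers]
    exact Subgroup.mem_sup_right (hy ▸ Subgroup.mem_map_of_mem f hz)
  rwa [Subgroup.comap_map_eq, hker, sup_comm, ← sup_assoc, sup_idem] at hz'

/-- An extension of a cyclic normal subgroup by a supersolvable group is supersolvable. -/
theorem of_normal_cyclic (N : Subgroup G) [N.Normal] [IsCyclic N]
    (h : Cfsg.IsSupersolvable (G ⧸ N)) : Cfsg.IsSupersolvable G := by
  obtain ⟨n, S, h0, h1, hn, hs⟩ := h
  let f := QuotientGroup.mk' N
  have hf : Function.Surjective f := QuotientGroup.mk'_surjective N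
  refine ⟨n + 1, Fin.cases ⊥ (fun i => (S i).comap f), rfl, ?_, ?_, ?_⟩
  · dsimp only
    rw [show Fin.last (n + 1) = (Fin.last n).succ from rfl, Fin.cases_succ]
    simp only [h1, Subgroup.comap_top]
  · intro i
    induction i using Fin.cases with
    | zero => exact inferInstanceAs (⊥ : Subgroup G).Normal
    | succ i => exact (hn i).comap f
  · intro i
    induction i using Fin.cases with
    | zero =>
      obtain ⟨g, hg⟩ := Subgroup.isCyclic_iff_exists_zpowers_eq_top N |>.1 inferInstance
      refine ⟨g, ?_⟩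
      dsimp only
      rw [Fin.cases_succ, h0, Fin.castSucc_zero, Fin.cases_zero, bot_sup_eq, MonoidHom.comap_bot,
        QuotientGroup.ker_mk', hg]
    | succ i =>
      obtain ⟨gb, hg⟩ := hs i
      obtain ⟨g, rfl⟩ := hf gb
      refine ⟨g, ?_⟩
      dsimp only
      rw [Fin.cases_succ, ← Fin.succ_castSucc, Fin.cases_succ, hg,
        ← MonoidHom.map_zpowers, ← Subgroup.comap_sup_eq f _ _ hf, Subgroup.comap_map_eq,
        sup_comm (Subgroup.zpowers g), ← sup_assoc, sup_eq_left.2 (f.ker_le_comap _)]

theorem of_subsingleton [Subsingleton G] : Cfsg.IsSupersolvable G :=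
  ⟨0, fun _ => ⊥, rfl, Subsingleton.elim _ _, fun _ => inferInstance, fun i => i.elim0⟩

/-- A characteristic-in-normal argument: a cyclic normal subgroup contains a normal subgroup of
each prime order dividing its order. -/
theorem exists_prime_normal_le {N : Subgroup G} [N.Normal] [IsCyclic N] [Finite G] {p : ℕ}
    (hp : p.Prime) (hd : p ∣ Nat.card N) :
    ∃ P : Subgroup G, P.Normal ∧ P ≤ N ∧ Nat.card P = p := by
  haveI : Fact p.Prime := ⟨hp⟩
  obtain ⟨x, hx⟩ := exists_prime_orderOf_dvd_card' p hd
  let K : Subgroup N := Subgroup.zpowers x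
  have hK : Nat.card K = p := by rw [Nat.card_zpowers, hx]
  haveI : K.Characteristic := by
    rw [Subgroup.characteristic_iff_map_eq]
    intro φ
    classical
    letI := Fintype.ofFinite N
    have hcard : Nat.card (K.map φ.toMonoidHom) = p :=
      (Subgroup.card_map_of_injective φ.injective).trans hK
    let S : Finset N := Finset.univ.filter fun a => a ^ p = 1
    have hS : S.card ≤ p := IsCyclic.card_pow_eq_one_le hp.pos
    have hfill : ∀ L : Subgroup N, Nat.card L = p → (L : Set N) = (S : Set N) := by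
      intro L hL
      refine Set.eq_of_subset_of_ncard_le (fun a ha => ?_) ?_ (Set.toFinite _)
      · simp only [S, Finset.coe_filter, Finset.mem_univ, true_and, Set.mem_setOf_eq]
        rw [← hL]
        exact congrArg Subtype.val (pow_card_eq_one' (x := (⟨a, ha⟩ : L)))
      · rw [Set.ncard_coe_finset, ← Nat.card_coe_set_eq]
        exact hS.trans hL.ge
    exact SetLike.coe_injective ((hfill _ hcard).trans (hfill K hK).symm)
  exact ⟨K.map N.subtype, inferInstance, Subgroup.map_subtype_le _, by
    rw [Subgroup.card_map_of_injective N.subtype_injective, hK]⟩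

theorem exists_normal_cyclic (hG : Cfsg.IsSupersolvable G) (M : Subgroup G) [M.Normal]
    (hM : M ≠ ⊥) : ∃ N : Subgroup G, N.Normal ∧ N ≤ M ∧ N ≠ ⊥ ∧ IsCyclic N := by
  obtain ⟨n, S, h0, h1, hn, hs⟩ := hG
  by_contra hne
  push Not at hne
  suffices h : ∀ i, M ⊓ S i = ⊥ by
    have := h (Fin.last n)
    rw [h1, inf_top_eq] at this
    exact hM this
  intro i
  induction i using Fin.induction with
  | zero => rw [h0, inf_bot_eq]
  | succ i ih =>
    by_contra hb
    obtain ⟨g, hg⟩ := hs i
    haveI := hn i.succ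
    haveI := hn i.castSucc
    refine hne (M ⊓ S i.succ) inferInstance inf_le_left hb ?_
    let f : ↥(M ⊓ S i.succ) →* G ⧸ S i.castSucc :=
      (QuotientGroup.mk' (S i.castSucc)).comp (M ⊓ S i.succ).subtype
    have hf : Function.Injective f := by
      rw [injective_iff_map_eq_one]
      intro x hx
      have h2 : (x : G) ∈ M ⊓ S i.castSucc := ⟨x.2.1, (QuotientGroup.eq_one_iff _).1 hx⟩
      rw [ih, Subgroup.mem_bot] at h2
      exact Subtype.ext h2
    have hr : f.range ≤ Subgroup.zpowers ((g : G ⧸ S i.castSucc)) := by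
      rintro _ ⟨x, rfl⟩
      have hx' : (x : G) ∈ S i.castSucc ⊔ Subgroup.zpowers g := hg ▸ x.2.2
      rw [← SetLike.mem_coe, Subgroup.normal_mul] at hx'
      obtain ⟨a, ha, b, ⟨m, rfl⟩, hab⟩ := hx'
      refine ⟨m, ?_⟩
      simp only [f, MonoidHom.coe_comp, Function.comp_apply, Subgroup.coe_subtype, ← hab,
        map_mul, map_zpow, QuotientGroup.mk'_apply]
      rw [(QuotientGroup.eq_one_iff a).2 ha, one_mul]
    haveI : IsCyclic f.range := Subgroup.isCyclic_of_le hr
    exact (MulEquiv.isCyclic (MonoidHom.ofInjective hf)).2 inferInstance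

/-- A nontrivial normal subgroup of a supersolvable group contains a normal subgroup of prime
order. -/
theorem exists_normal_prime_le [Finite G] (hG : Cfsg.IsSupersolvable G) (M : Subgroup G)
    [M.Normal] (hM : M ≠ ⊥) :
    ∃ P : Subgroup G, P.Normal ∧ P ≤ M ∧ (Nat.card P).Prime := by
  obtain ⟨N, hN, hNM, hN0, hc⟩ := exists_normal_cyclic hG M hM
  haveI := hN
  obtain ⟨p, hp, hd⟩ := Nat.exists_prime_and_dvd (fun h => hN0 (N.eq_bot_of_card_eq h))
  obtain ⟨P, hP, hPN, hPc⟩ := exists_prime_normal_le (N := N) hp hd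
  exact ⟨P, hP, hPN.trans hNM, hPc ▸ hp⟩

theorem minimal_normal_card_prime [Finite G] (hG : Cfsg.IsSupersolvable G) {M : Subgroup G}
    [M.Normal] (hM : M ≠ ⊥) (hmin : ∀ K : Subgroup G, K.Normal → K ≤ M → K = ⊥ ∨ K = M) :
    (Nat.card M).Prime := by
  obtain ⟨P, hP, hPM, hp⟩ := exists_normal_prime_le hG M hM
  rcases hmin P hP hPM with rfl | rfl
  · rw [Subgroup.card_bot] at hp
    exact absurd hp Nat.not_prime_one
  · exact hp

theorem card_quotient_lt [Finite G] {P : Subgroup G} (hp : 1 < Nat.card P) :
    Nat.card (G ⧸ P) < Nat.card G := by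
  rw [P.card_eq_card_quotient_mul_card_subgroup]
  exact lt_mul_of_one_lt_right Nat.card_pos hp

/-- Induction along normal subgroups of prime order. -/
theorem induction_prime {motive : ∀ (G : Type u) [Group G], Prop}
    (base : ∀ (G : Type u) [Group G] [Finite G], Subsingleton G → motive G)
    (step : ∀ (G : Type u) [Group G] [Finite G], Cfsg.IsSupersolvable G → ∀ (P : Subgroup G) [P.Normal],
      (Nat.card P).Prime → motive (G ⧸ P) → motive G)
    (G : Type u) [Group G] [Finite G] (hG : Cfsg.IsSupersolvable G) : motive G := by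
  induction hn : Nat.card G using Nat.strong_induction_on generalizing G with
  | _ n ih =>
    rcases subsingleton_or_nontrivial G with h | h
    · exact base G h
    · obtain ⟨P, hP, -, hp⟩ := exists_normal_prime_le hG (⊤ : Subgroup G) top_ne_bot
      exact step G hG P hp (ih _ (hn ▸ card_quotient_lt hp.one_lt) (G ⧸ P) (quotient hG P) rfl)

theorem isSolvable [Finite G] (hG : Cfsg.IsSupersolvable G) : Group.IsSolvable G := by
  refine induction_prime (motive := fun G _ => Group.IsSolvable G) ?_ ?_ G hG
  · intro G _ _ h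
    exact Group.isSolvable_of_comm fun a b => Subsingleton.elim _ _
  · intro G _ _ _ P _ hp h
    haveI := Fact.mk hp
    haveI : IsCyclic P := isCyclic_of_prime_card rfl
    exact (Group.isSolvable_iff_subgroup_quotient P).2
      ⟨Group.isSolvable_of_comm fun a b => IsCyclic.commGroup.mul_comm a b, h⟩

theorem prod [Finite G] [Finite H] (hG : Cfsg.IsSupersolvable G) (hH : Cfsg.IsSupersolvable H) :
    Cfsg.IsSupersolvable (G × H) := by
  refine induction_prime (motive := fun G _ => Cfsg.IsSupersolvable (G × H)) ?_ ?_ G hG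
  · intro G _ _ h
    exact of_surjective hH (f := MonoidHom.inr G H) fun x => ⟨x.2, Prod.ext (Subsingleton.elim _ _) rfl⟩
  · intro G _ _ _ P _ hp h
    let f : G × H →* (G ⧸ P) × H := (QuotientGroup.mk' P).prodMap (MonoidHom.id H)
    have hf : Function.Surjective f := fun ⟨a, b⟩ => by
      obtain ⟨a, rfl⟩ := QuotientGroup.mk'_surjective P a
      exact ⟨(a, b), rfl⟩
    haveI := Fact.mk hp
    haveI : IsCyclic f.ker := by
      refine isCyclic_of_prime_card (p := Nat.card P) ?_
      have : f.ker = P.map (MonoidHom.inl G H) := by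
        ext ⟨a, b⟩
        simp only [f, MonoidHom.mem_ker, MonoidHom.coe_prodMap, Prod.map_apply, Prod.mk_eq_one,
          Subgroup.mem_map, MonoidHom.inl_apply, Prod.mk.injEq, MonoidHom.id_apply,
          QuotientGroup.mk'_apply, QuotientGroup.eq_one_iff]
        exact ⟨fun ⟨h1, h2⟩ => ⟨a, h1, rfl, h2.symm⟩,
          fun ⟨c, hc, hca, hb⟩ => ⟨hca ▸ hc, hb.symm⟩⟩
      rw [this, Subgroup.card_map_of_injective fun _ _ e => (congrArg Prod.fst e :)]
    exact of_normal_cyclic f.ker
      (of_mulEquiv h (QuotientGroup.quotientKerEquivOfSurjective f hf).symm)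

theorem isNilpotent_commutator [Finite G] (hG : Cfsg.IsSupersolvable G) :
    Group.IsNilpotent (commutator G) := by
  refine induction_prime (motive := fun G _ => Group.IsNilpotent (commutator G)) ?_ ?_ G hG
  · intro G _ _ h
    infer_instance
  · intro G _ _ _ P _ hp h
    haveI := Fact.mk hp
    haveI : IsCyclic P := isCyclic_of_prime_card rfl
    haveI := h
    let f : commutator G →* commutator (G ⧸ P) :=
      ((QuotientGroup.mk' P).comp (commutator G).subtype).codRestrict _ fun x => by
        have hx : QuotientGroup.mk' P (x : G) ∈ (commutator G).map (QuotientGroup.mk' P) :=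
          Subgroup.mem_map_of_mem _ x.2
        simp only [commutator_def, Subgroup.map_commutator] at hx
        exact Subgroup.commutator_mono le_top le_top hx
    refine Subgroup.isNilpotent_of_ker_le_center f (fun x hx => ?_)
    have hxP : (x : G) ∈ P := (QuotientGroup.eq_one_iff _).1 (congrArg Subtype.val hx)
    rw [Subgroup.mem_center_iff]
    exact fun y => Subtype.ext
      ((SolvStruct.commutator_le_centralizer_of_isCyclic P y.2) (x : G) hxP).symm

theorem index_coatom_prime [Finite G] (hG : Cfsg.IsSupersolvable G) {M : Subgroup G}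
    (hM : IsCoatom M) : M.index.Prime := by
  refine induction_prime (motive := fun G _ => ∀ M : Subgroup G, IsCoatom M → M.index.Prime)
    ?_ ?_ G hG M hM
  · intro G _ _ h M hM
    exact absurd (Subsingleton.elim M ⊤) hM.1
  · intro G _ _ _ P _ hp h M hM
    by_cases hPM : P ≤ M
    · have hk : (QuotientGroup.mk' P).ker ≤ M := by rwa [QuotientGroup.ker_mk']
      rw [← Subgroup.index_map_eq _ (QuotientGroup.mk'_surjective P) hk]
      refine h _ ⟨fun ht => hM.1 ?_, fun L hL => ?_⟩
      · rw [← Subgroup.comap_map_eq_self hk, ht, Subgroup.comap_top]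
      · rw [← Subgroup.map_comap_eq_self_of_surjective (QuotientGroup.mk'_surjective P) L,
          hM.2 (L.comap (QuotientGroup.mk' P)) ?_,
          Subgroup.map_top_of_surjective _ (QuotientGroup.mk'_surjective P)]
        refine lt_of_le_of_ne ((Subgroup.le_comap_map _ _).trans (Subgroup.comap_mono hL.le))
          fun he => hL.ne ?_
        rw [he, Subgroup.map_comap_eq_self_of_surjective (QuotientGroup.mk'_surjective P)]
    · have htop : M ⊔ P = ⊤ := hM.2 _ (lt_of_le_of_ne le_sup_left fun h => hPM (h ▸ le_sup_right))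
      have hdvd : M.index ∣ Nat.card P := by
        have h2 := Cores.card_sup_mul_card_inf M P
        rw [htop, Subgroup.card_top, ← M.card_mul_index, mul_assoc] at h2
        exact Dvd.intro _ (Nat.eq_of_mul_eq_mul_left Nat.card_pos h2)
      exact ((Nat.dvd_prime hp).1 hdvd).resolve_left (fun h1 => hM.1 (Subgroup.index_eq_one.1 h1)) ▸ hp

/-- Finite abelian groups are supersolvable. -/
theorem of_isMulCommutative (G : Type u) [Group G] [Finite G] [IsMulCommutative G] :
    Cfsg.IsSupersolvable G := by
  induction hn : Nat.card G using Nat.strong_induction_on generalizing G with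
  | _ n ih =>
    rcases subsingleton_or_nontrivial G with h | h
    · exact of_subsingleton
    obtain ⟨x, hx⟩ := exists_ne (1 : G)
    let N := Subgroup.zpowers x
    haveI : N.Normal := ⟨fun y hy g => by rwa [mul_comm' g y, mul_inv_cancel_right]⟩
    haveI : IsCyclic N := Subgroup.isCyclic_iff_exists_zpowers_eq_top _ |>.2 ⟨x, rfl⟩
    haveI : IsMulCommutative (G ⧸ N) := ⟨⟨fun a b => by
      obtain ⟨a, rfl⟩ := QuotientGroup.mk_surjective a
      obtain ⟨b, rfl⟩ := QuotientGroup.mk_surjective b
      rw [← QuotientGroup.mk_mul, ← QuotientGroup.mk_mul, mul_comm' a b]⟩⟩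
    refine of_normal_cyclic N (ih _ (hn ▸ card_quotient_lt ?_) (G ⧸ N) rfl)
    exact N.one_lt_card_iff_ne_bot.2 (fun e => hx (Subgroup.mem_bot.1 (e ▸ Subgroup.mem_zpowers x)))

end Cfsg.Agent.Hall.Supersolvable
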