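import Cfsg.Agent.Lib.Hall.Solvable

/-!
Hall's theorems for extensions, granted the solvability of groups of odd order
(passed as a hypothesis).
-/

set_option autoImplicit false

open scoped Pointwise

namespace Cfsg.Agent.Hall.OddExt

open Cfsg Cores

universe u

/-- Groups of odd order in the universe `u` are solvable. -/
def OddSolvable : Prop :=
  ∀ (K : Type u) [Group K] [Finite K], Odd (Nat.card K) → Group.IsSolvable K

/-- A Hall `π`-subgroup containing every `π`-subgroup up to conjugation. -/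
def Dominant (π : Set ℕ) (G : Type u) [Group G] : Prop :=
  ∃ K : Subgroup G, IsPiHall π K ∧ ∀ U : Subgroup G, IsPi π U → ∃ g : G, U ≤ MulAut.conj g • K

variable {G : Type u} [Group G] [Finite G] {π : Set ℕ}

theorem solvable_or (hodd : OddSolvable.{u}) {H K : Subgroup G}
    (hcop : (Nat.card H).Coprime (Nat.card K)) :
    Group.IsSolvable H ∨ Group.IsSolvable K := by
  rcases Nat.even_or_odd (Nat.card H) with h | h
  · refine Or.inr (hodd K ?_)
    exact Nat.coprime_two_left.1 (hcop.coprime_dvd_left h.two_dvd)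
  · exact Or.inl (hodd H h)

/-- Schur–Zassenhaus conjugacy. -/
theorem conj_of_sup_eq (hodd : OddSolvable.{u}) {N H K : Subgroup G}
    (hHN : H ≤ Subgroup.normalizer (N : Set G)) (hKN : K ≤ Subgroup.normalizer (N : Set G))
    (heq : N ⊔ H = N ⊔ K) (hcH : (Nat.card N).Coprime (Nat.card H))
    (hcK : (Nat.card N).Coprime (Nat.card K)) :
    ∃ x ∈ N, MulAut.conj x • H = K :=
  Coprime.exists_conj_eq_of_sup_eq hHN hKN heq hcH hcK (solvable_or hodd hcH)

theorem dominant_ext (hodd : OddSolvable.{u}) (A : Subgroup G) [A.Normal]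
    (hA : IsPi π A ∨ ∀ q : ℕ, q.Prime → q ∣ Nat.card A → q ∉ π) (hQ : Dominant π (G ⧸ A)) :
    Dominant π G := by
  obtain ⟨Kb, ⟨hKbπ, hKbi⟩, hdom⟩ := hQ
  let f := QuotientGroup.mk' A
  have hf : Function.Surjective f := QuotientGroup.mk'_surjective A
  have hMK : A ≤ Kb.comap f := fun x hx => by
    rw [Subgroup.mem_comap, show f x = 1 from (QuotientGroup.eq_one_iff x).2 hx]
    exact Kb.one_mem
  have hidx : (Kb.comap f).index = Kb.index := Subgroup.index_comap_of_surjective _ hf
  have hstep : ∀ U : Subgroup G, IsPi π U → ∃ g : G, U ≤ MulAut.conj g • Kb.comap f := by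
    intro U hU
    obtain ⟨gb, hg⟩ := hdom (U.map f) (hU.map f)
    obtain ⟨g, rfl⟩ := hf gb
    refine ⟨g, fun x hx => ?_⟩
    have h1 := hg (Subgroup.mem_map_of_mem f hx)
    rw [Coprime.mem_conj_smul] at h1 ⊢
    rw [Subgroup.mem_comap, map_mul, map_mul, map_inv]
    exact h1
  rcases hA with hApi | hMpi
  · exact ⟨Kb.comap f, ⟨isPi_comap_mk' hApi hKbπ,
      fun q hq hπ hd => hKbi q hq hπ (by rwa [hidx] at hd)⟩, hstep⟩
  -- `A` is a `π'`-group: complement it inside the preimage.
  set K := Kb.comap f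
  have hcop : (Nat.card A).Coprime (Nat.card Kb) :=
    Nat.coprime_of_dvd fun q hq hd hd' => hMpi q hq hd (hKbπ q hq hd')
  have hcardK : Nat.card K = Nat.card A * Nat.card Kb := card_comap_mk' A Kb
  have hMidx : (A.subgroupOf K).index = Nat.card Kb := by
    have h1 := (A.subgroupOf K).card_mul_index
    rw [Nat.card_congr (Subgroup.subgroupOfEquivOfLe hMK).toEquiv, hcardK] at h1
    exact Nat.eq_of_mul_eq_mul_left Nat.card_pos h1
  obtain ⟨C, hC⟩ := Subgroup.exists_right_complement'_of_coprime (N := A.subgroupOf K) (by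
    rwa [hMidx, Nat.card_congr (Subgroup.subgroupOfEquivOfLe hMK).toEquiv])
  let Hh : Subgroup G := C.map K.subtype
  have hcardH : Nat.card Hh = Nat.card Kb := by
    rw [Subgroup.card_map_of_injective K.subtype_injective, ← hC.symm.index_eq_card, hMidx]
  have hsup : A ⊔ Hh = K := by
    have h1 := congrArg (Subgroup.map K.subtype) hC.sup_eq_top
    rwa [Subgroup.map_sup, Subgroup.map_subgroupOf_eq_of_le hMK, ← MonoidHom.range_eq_map,
      Subgroup.range_subtype] at h1
  have hHi : Hh.index = Nat.card A * Kb.index := by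
    have h1 := Hh.card_mul_index
    rw [← K.card_mul_index, hcardK, hidx, hcardH, mul_comm (Nat.card A), mul_assoc] at h1
    exact Nat.eq_of_mul_eq_mul_left Nat.card_pos h1
  refine ⟨Hh, ⟨fun q hq hd => hKbπ q hq (hcardH ▸ hd), fun q hq hπ hd => ?_⟩, fun U hU => ?_⟩
  · rw [hHi] at hd
    exact (hq.dvd_mul.1 hd).elim (fun h => hMpi q hq h hπ) (hKbi q hq hπ)
  obtain ⟨g, hg⟩ := hstep U hU
  let U' : Subgroup G := MulAut.conj g⁻¹ • U
  have hU'K : U' ≤ K := by
    have h1 : U' ≤ MulAut.conj g⁻¹ • (MulAut.conj g • K) :=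
      Subgroup.pointwise_smul_le_pointwise_smul_iff.2 hg
    rwa [Coprime.conj_inv_smul_smul] at h1
  let H₁ : Subgroup G := (A ⊔ U') ⊓ Hh
  have heq : A ⊔ H₁ = A ⊔ U' := by
    refine le_antisymm (sup_le le_sup_left inf_le_left) fun x hx => ?_
    have hxK : x ∈ A ⊔ Hh := hsup.symm ▸ (sup_le hMK hU'K hx)
    obtain ⟨m, hm, y, hy, rfl⟩ :=
      (Coprime.mem_sup_of_le_normalizer Subgroup.le_normalizer_of_normal).1 hxK
    refine Subgroup.mul_mem_sup hm ⟨?_, hy⟩
    have h2 := (A ⊔ U').mul_mem ((A ⊔ U').inv_mem (Subgroup.mem_sup_left hm)) hx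
    simpa using h2
  obtain ⟨x, -, hx⟩ := conj_of_sup_eq hodd (N := A) (H := H₁) (K := U')
    Subgroup.le_normalizer_of_normal Subgroup.le_normalizer_of_normal heq
    (hcop.coprime_dvd_right (hcardH ▸ Subgroup.card_dvd_of_le inf_le_right))
    (Nat.coprime_of_dvd fun q hq hd hd' => hMpi q hq hd (isPi_conj_smul hU g⁻¹ q hq hd'))
  refine ⟨g * x, ?_⟩
  rw [Coprime.conj_smul_mul]
  calc U = MulAut.conj g • U' := by
        simp only [U', ← Coprime.conj_smul_mul, mul_inv_cancel, Coprime.conj_smul_one]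
    _ ≤ MulAut.conj g • (MulAut.conj x • Hh) := by
        rw [← hx]
        exact Subgroup.pointwise_smul_le_pointwise_smul_iff.2
          (Subgroup.pointwise_smul_le_pointwise_smul_iff.2 inf_le_right)

theorem dominant_of_subsingleton [Subsingleton G] : Dominant π G :=
  ⟨⊥, ⟨isPi_bot π, fun p hp _ hd => hp.ne_one (Nat.dvd_one.1 (by
    simpa [Subgroup.index_bot] using hd))⟩, fun U _ => ⟨1, by simp [U.eq_bot_of_subsingleton]⟩⟩

theorem dominant_congr {G' : Type u} [Group G'] [Finite G'] (e : G ≃* G') (h : Dominant π G) :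
    Dominant π G' := by
  obtain ⟨K, hK, hdom⟩ := h
  refine ⟨K.map e.toMonoidHom, isPiHall_map hK e.surjective, fun U hU => ?_⟩
  obtain ⟨g, hg⟩ := hdom (U.map e.symm.toMonoidHom) (hU.map _)
  refine ⟨e g, fun x hx => ?_⟩
  have h1 := hg (Subgroup.mem_map_of_mem e.symm.toMonoidHom hx)
  rw [Coprime.mem_conj_smul] at h1 ⊢
  exact ⟨_, h1, by simp⟩

/-- `π`-separable groups have dominant Hall `π`-subgroups. -/
theorem dominant_of_separable (hodd : OddSolvable.{u})
    (hsep : ∃ (n : ℕ) (H : Fin (n + 1) → Subgroup G), H 0 = ⊥ ∧ H (Fin.last n) = ⊤ ∧ Monotone H ∧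
      (∀ i, (H i).Normal) ∧
      ∀ i : Fin n, (∀ q : ℕ, q.Prime → q ∣ (H i.castSucc).relIndex (H i.succ) → q ∈ π) ∨
        (∀ q : ℕ, q.Prime → q ∣ (H i.castSucc).relIndex (H i.succ) → q ∉ π)) :
    Dominant π G := by
  obtain ⟨n, H, h0, hlast, hmono, hnorm, hstep⟩ := hsep
  haveI := hnorm
  suffices h : ∀ i : Fin (n + 1), Dominant π (G ⧸ H i) by
    exact dominant_congr ((QuotientGroup.quotientMulEquivOfEq h0).trans QuotientGroup.quotientBot) (h 0)
  intro i
  induction i using Fin.reverseInduction with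
  | last =>
    haveI : Subsingleton (G ⧸ H (Fin.last n)) := by
      rw [QuotientGroup.subsingleton_iff]
      exact hlast
    exact dominant_of_subsingleton
  | cast i ih =>
    set A := (H i.succ).map (QuotientGroup.mk' (H i.castSucc)) with hA
    have hle : H i.castSucc ≤ H i.succ := hmono (Fin.castSucc_lt_succ (i := i)).le
    have hcard : Nat.card A = (H i.castSucc).relIndex (H i.succ) := by
      rw [hA, ← Subgroup.relIndex_ker, QuotientGroup.ker_mk']
    refine dominant_ext hodd A ?_ ?_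
    · rcases hstep i with h | h
      · exact Or.inl fun q hq hd => h q hq (hcard ▸ hd)
      · exact Or.inr fun q hq hd => h q hq (hcard ▸ hd)
    · exact dominant_congr
        (QuotientGroup.quotientQuotientEquivQuotient (H i.castSucc) (H i.succ) hle).symm ih

theorem hall_data (h : Dominant π G) :
    (∃ K : Subgroup G, IsPiHall π K) ∧
      (∀ K L : Subgroup G, IsPiHall π K → IsPiHall π L →
        ∃ g : G, L = K.map (MulAut.conj g).toMonoidHom) ∧
      ∀ U : Subgroup G, IsPi π U → ∃ K : Subgroup G, IsPiHall π K ∧ U ≤ K := by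
  obtain ⟨K₀, hK₀, hdom⟩ := h
  refine ⟨⟨K₀, hK₀⟩, fun K L hK hL => ?_, fun U hU => ?_⟩
  · obtain ⟨a, ha⟩ := hdom K hK.1
    obtain ⟨b, hb⟩ := hdom L hL.1
    have ha' := isPiHall_eq_of_le hK (isPi_conj_smul hK₀.1 a) ha
    have hb' := isPiHall_eq_of_le hL (isPi_conj_smul hK₀.1 b) hb
    exact ⟨b * a⁻¹, by
      show L = MulAut.conj (b * a⁻¹) • K
      rw [Coprime.conj_smul_mul, ha', Coprime.conj_inv_smul_smul, hb']⟩
  · obtain ⟨g, hg⟩ := hdom U hU
    exact ⟨_, isPiHall_conj_smul hK₀ g, hg⟩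

end Cfsg.Agent.Hall.OddExt
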