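import Cfsg.Agent.S0799
import Cfsg.Agent.S0806
import Cfsg.Agent.Lib.Classical.Linear
import Cfsg.Agent.Lib.Classical.GL2
import Cfsg.Agent.Lib.Classical.SL2Rep

/-!
Orders which are not Hall numbers: counterexamples from `PSL(2, r) × C`.
-/

set_option autoImplicit false

namespace Cfsg.Agent.Hall.Numbers

open Matrix

/-- The order of `PSL(2, r)`. -/
theorem two_mul_card_psl {r : ℕ} [Fact r.Prime] (hr : r ≠ 2) :
    2 * Nat.card (ProjectiveSpecialLinearGroup (Fin 2) (ZMod r)) = r * (r - 1) * (r + 1) := by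
  have hpr : r.Prime := Fact.out
  have h := Classical.Linear.gcd_mul_natCard_PSL_fin (F := ZMod r) (k := 2) (by norm_num)
  obtain ⟨k, hk⟩ := hpr.odd_of_ne_two hr
  have hg : Nat.gcd 2 (r - 1) = 2 := Nat.gcd_eq_left ⟨k, by omega⟩
  rw [ZMod.card, hg, Classical.GL2.natCard_SL_two, ZMod.card] at h
  rw [h, mul_assoc]

/-- Small subgroups of `PSL(2, r)`. -/
theorem psl_subgroup_card {r : ℕ} [Fact r.Prime] (hr : 11 < r) {d : ℕ} (hd0 : d < r)
    (h1 : ¬ d ∣ r - 1) (h2 : ¬ d ∣ r + 1) (h12 : d ≠ 12) (h24 : d ≠ 24) (h60 : d ≠ 60)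
    (H : Subgroup (ProjectiveSpecialLinearGroup (Fin 2) (ZMod r))) : Nat.card H ≠ d := by
  intro hd
  have hpr : r.Prime := Fact.out
  have hg : Nat.gcd 2 (r - 1) = 2 := by
    obtain ⟨k, hk⟩ := hpr.odd_of_ne_two (by omega)
    exact Nat.gcd_eq_left ⟨k, by omega⟩
  have hcard := two_mul_card_psl (r := r) (by omega)
  have hhalf : ∀ k, (k ∣ (r + 1) / 2 ∨ k ∣ (r - 1) / 2) → 2 * k ∣ r + 1 ∨ 2 * k ∣ r - 1 := by
    obtain ⟨j, hj⟩ := hpr.odd_of_ne_two (show r ≠ 2 by omega)
    rintro k (h | h)
    · left
      obtain ⟨c, hc⟩ := h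
      exact ⟨c, by rw [mul_assoc, ← hc]; omega⟩
    · right
      obtain ⟨c, hc⟩ := h
      exact ⟨c, by rw [mul_assoc, ← hc]; omega⟩
  rcases S0799.result (ZMod.card r) r H with ⟨k, hk, hH⟩ | ⟨P, K, hK, ⟨e⟩⟩ | ⟨⟨e⟩⟩ | ⟨⟨e⟩⟩ | ⟨⟨e⟩⟩ |
    ⟨K, _, _, m, hm, hH⟩
  · rw [hg] at hk
    rcases hH with ⟨-, hkd⟩ | ⟨⟨e⟩⟩
    · have : d ∣ r + 1 ∨ d ∣ r - 1 := by
        rw [← hd, hkd]
        exact (hhalf k hk).imp (fun h => (dvd_mul_left k 2).trans h) fun h => (dvd_mul_left k 2).trans h
      tauto
    · have hcd : Nat.card H = 2 * k := by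
        rw [Nat.card_congr e.toEquiv, DihedralGroup.nat_card]
      rw [hcd] at hd
      subst hd
      rcases hhalf k hk with h | h <;> contradiction
  · -- the normaliser of a Sylow subgroup
    set G := ProjectiveSpecialLinearGroup (Fin 2) (ZMod r)
    set N := Subgroup.normalizer ((P : Subgroup G) : Set G) with hN
    have hNne : N ≠ ⊤ → r + 1 ≤ N.index := (S0806.result (ZMod.card r) (by
      simp only [Finset.mem_insert, Finset.mem_singleton]; omega)).1 N
    have hPdvd : r ∣ Nat.card G := by
      have : r ∣ 2 * Nat.card G := hcard ▸ (dvd_mul_right r _).trans (dvd_mul_right _ _)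
      rcases hpr.dvd_mul.1 this with h | h
      · have := Nat.le_of_dvd two_pos h; omega
      · exact h
    have hsy : Nat.card (Sylow r G) = N.index := P.card_eq_index_normalizer
    have hmod : N.index % r = 1 := by
      rw [← hsy]
      have := card_sylow_modEq_one r G
      rw [Nat.ModEq, Nat.one_mod_eq_one.2 hpr.ne_one] at this
      exact this
    -- the index of the normaliser is `r + 1`
    have hrN : r ∣ Nat.card N :=
      (dvd_trans (by
        have h := P.card_eq_multiplicity
        rw [h]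
        exact dvd_pow_self r (hpr.factorization_pos_of_dvd Nat.card_pos.ne' hPdvd).ne')
        (Subgroup.card_dvd_of_le Subgroup.le_normalizer))
    obtain ⟨j, hj⟩ := hrN
    have hmul : 2 * j * N.index = (r - 1) * (r + 1) := by
      refine Nat.eq_of_mul_eq_mul_left hpr.pos ?_
      rw [← mul_assoc r (r - 1), ← hcard, ← N.card_mul_index, hj]
      ring
    have hKd : Nat.card K = d := by rw [← Nat.card_congr e.toEquiv, hd]
    have hdN : d ∣ Nat.card N := hKd ▸ Subgroup.card_dvd_of_le hK
    have hdco : d.Coprime r := by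
      refine ((hpr.coprime_iff_not_dvd).2 fun h => ?_).symm
      have := Nat.le_of_dvd (hKd ▸ Nat.card_pos) h
      omega
    rw [hj] at hdN
    have hdj : d ∣ j := hdco.dvd_of_dvd_mul_left hdN
    rcases eq_or_ne N ⊤ with h | h
    · -- the group is simple
      rw [h, Subgroup.index_top] at hmul
      have hsim : IsSimpleGroup G := Classical.Linear.isSimpleGroup_PSL_of_perfect
        (Classical.SL2Rep.commutator_two_eq_top (by rw [ZMod.card]; omega))
      have hPn : (P : Subgroup G).Normal := Subgroup.normalizer_eq_top_iff.1 h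
      rcases hPn.eq_bot_or_eq_top with hb | ht
      · have := P.card_eq_multiplicity
        rw [hb, Subgroup.card_bot] at this
        exact absurd this (Nat.one_lt_pow
          (hpr.factorization_pos_of_dvd Nat.card_pos.ne' hPdvd).ne' hpr.one_lt).ne
      · have hp : IsPGroup r G := P.isPGroup'.of_equiv
          ((MulEquiv.subgroupCongr ht).trans Subgroup.topEquiv)
        obtain ⟨a, ha⟩ := hp.exists_card_eq
        have h2 : 2 ∣ Nat.card G := by
          obtain ⟨i, hi⟩ := hpr.odd_of_ne_two (show r ≠ 2 by omega)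
          have : 4 ∣ 2 * Nat.card G := by
            rw [hcard, show r - 1 = 2 * i by omega, show r + 1 = 2 * (i + 1) by omega]
            exact ⟨r * i * (i + 1), by ring⟩
          omega
        rw [ha] at h2
        have := (Nat.prime_dvd_prime_iff_eq Nat.prime_two hpr).1 (Nat.prime_two.dvd_of_dvd_pow h2)
        omega
    · have hNi := hNne h
      have hj2 : 2 * j ≤ r - 1 := by
        by_contra hc
        push Not at hc
        have : (r - 1) * (r + 1) < 2 * j * N.index :=
          Nat.mul_lt_mul_of_lt_of_le hc hNi (by omega)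
        omega
      have hz : ((2 * j + 1 : ℕ) : ZMod r) = 0 := by
        have h1 : ((2 * j * N.index : ℕ) : ZMod r) = (((r - 1) * (r + 1) : ℕ) : ZMod r) := by rw [hmul]
        have hi : (N.index : ZMod r) = 1 := by
          rw [← ZMod.natCast_mod, hmod, Nat.cast_one]
        simp only [Nat.cast_mul, Nat.cast_ofNat, Nat.cast_add, Nat.cast_one,
          Nat.cast_sub hpr.one_lt.le, hi, ZMod.natCast_self, mul_one, zero_add, zero_sub] at h1
        push_cast
        rw [h1, neg_add_cancel]
      have hle : 2 * j + 1 = r := by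
        have hdvd := (ZMod.natCast_eq_zero_iff _ _).1 hz
        have := Nat.le_of_dvd (by omega) hdvd
        omega
      exact h1 (hdj.trans ⟨2, by omega⟩)
  · rw [Nat.card_congr e.toEquiv, nat_card_alternatingGroup, Nat.card_eq_fintype_card] at hd
    simp [Nat.factorial] at hd
    omega
  · rw [Nat.card_congr e.toEquiv, Nat.card_perm, Nat.card_eq_fintype_card] at hd
    simp [Nat.factorial] at hd
    omega
  · rw [Nat.card_congr e.toEquiv, nat_card_alternatingGroup, Nat.card_eq_fintype_card] at hd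
    simp [Nat.factorial] at hd
    omega
  · have hcK : Fintype.card K = r ^ 1 := by
      have hm1 : m = 1 := by
        have hp := hm ▸ hpr
        exact Nat.Prime.eq_one_of_pow hp
      rw [hm1, pow_one] at hm
      rw [hm, pow_one]
    have hsl : r ∣ Nat.card (SpecialLinearGroup (Fin 2) K) := by
      rw [Classical.GL2.natCard_SL_two, hcK, pow_one]
      exact dvd_mul_right r _
    have hdvd : r ∣ Nat.card H := by
      rcases hH with ⟨⟨e⟩⟩ | ⟨⟨e⟩⟩
      · rw [← Classical.Linear.gcd_mul_natCard_PSL_fin (by norm_num), hcK, pow_one, hg] at hsl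
        rw [Nat.card_congr e.toEquiv]
        rcases hpr.dvd_mul.1 hsl with h | h
        · have := Nat.le_of_dvd two_pos h; omega
        · exact h
      · rw [Nat.card_congr e.toEquiv, Classical.Linear.natCard_PGL]
        exact hsl
    have := Nat.le_of_dvd Nat.card_pos hdvd
    omega

/-- Numbers which are not Hall numbers. -/
theorem counterexample {m : ℕ} {r d : ℕ} [Fact r.Prime] (hr : 11 < r) (hd : d < r) (hdm : d ∣ m)
    (hdpsl : d ∣ Nat.card (ProjectiveSpecialLinearGroup (Fin 2) (ZMod r)))
    (hdco : d.Coprime (Nat.card (ProjectiveSpecialLinearGroup (Fin 2) (ZMod r)) / d))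
    (hrest : (m / d).Coprime (Nat.card (ProjectiveSpecialLinearGroup (Fin 2) (ZMod r))))
    (h1 : ¬ d ∣ r - 1) (h2 : ¬ d ∣ r + 1) (h12 : d ≠ 12) (h24 : d ≠ 24) (h60 : d ≠ 60) (hm : 0 < m) :
    ∃ (G : Type) (_ : Group G) (_ : Finite G), m ∣ Nat.card G ∧ m.Coprime (Nat.card G / m) ∧
      ∀ H : Subgroup G, Nat.card H ≠ m := by
  set L := ProjectiveSpecialLinearGroup (Fin 2) (ZMod r) with hL
  set c := m / d with hc
  have hmeq : m = d * c := (Nat.mul_div_cancel' hdm).symm
  have hc0 : c ≠ 0 := fun h => by rw [h, mul_zero] at hmeq; omega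
  have hd0 : d ≠ 0 := fun h => by rw [h, zero_mul] at hmeq; omega
  have : NeZero c := ⟨hc0⟩
  refine ⟨L × Multiplicative (ZMod c), inferInstance, inferInstance, ?_, ?_, ?_⟩
  · rw [Nat.card_prod, Nat.card_congr Multiplicative.toAdd, Nat.card_zmod, hmeq]
    exact Nat.mul_dvd_mul_right hdpsl c
  · rw [Nat.card_prod, Nat.card_congr Multiplicative.toAdd, Nat.card_zmod, hmeq,
      Nat.mul_div_mul_right _ _ (Nat.pos_of_ne_zero hc0)]
    exact Nat.Coprime.mul_left hdco (hrest.coprime_dvd_right (Nat.div_dvd_of_dvd hdpsl))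
  · intro H hH
    set π := MonoidHom.fst L (Multiplicative (ZMod c))
    have hker : Nat.card (π.comp H.subtype).ker ∣ c := by
      refine (Subgroup.card_dvd_of_injective
        ((MonoidHom.snd L (Multiplicative (ZMod c))).comp
          (H.subtype.comp (π.comp H.subtype).ker.subtype)) ?_).trans ?_
      · intro a b hab
        refine Subtype.ext (Subtype.ext (Prod.ext ?_ hab))
        exact (a.2 : ((a : H) : L × Multiplicative (ZMod c)).1 = 1).trans b.2.symm
      · rw [Nat.card_congr Multiplicative.toAdd, Nat.card_zmod]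
    have himg : Nat.card (H.map π) ∣ Nat.card L := Subgroup.card_subgroup_dvd_card _
    have hsplit : Nat.card (H.map π) * Nat.card (π.comp H.subtype).ker = d * c := by
      rw [← hmeq, ← hH, ← (π.comp H.subtype).ker.index_mul_card, Subgroup.index_ker,
        MonoidHom.range_comp, Subgroup.range_subtype]
    have hd_img : Nat.card (H.map π) ∣ d := by
      refine Nat.Coprime.dvd_of_dvd_mul_right ?_ (Dvd.intro _ hsplit)
      exact (hrest.symm.coprime_dvd_left himg)
    obtain ⟨x, hx⟩ := hd_img
    obtain ⟨y, hy⟩ := hker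
    have h3 : Nat.card (H.map π) * Nat.card (π.comp H.subtype).ker * 1 =
        Nat.card (H.map π) * Nat.card (π.comp H.subtype).ker * (x * y) := by
      rw [mul_one, mul_mul_mul_comm, ← hx, ← hy, hsplit]
    have hpos : 0 < Nat.card (H.map π) * Nat.card (π.comp H.subtype).ker :=
      Nat.mul_pos Nat.card_pos Nat.card_pos
    have hx1 : x = 1 := (mul_eq_one.1 (Nat.eq_of_mul_eq_mul_left hpos h3).symm).1
    exact psl_subgroup_card hr hd h1 h2 h12 h24 h60 (H.map π) (by rw [hx, hx1, mul_one])

/-- The case of a split of some of the prime divisors between `r - 1` and `r + 1`. -/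
theorem counterexample_of_split {m : ℕ} (hm : m ≠ 0) (Pm Pp : Finset ℕ)
    (hsub : ∀ s ∈ Pm ∪ Pp, s.Prime ∧ s ∣ m) (hdisj : Disjoint Pm Pp) (hm1 : Pm.Nonempty)
    (hp1 : Pp.Nonempty) (h2 : 2 ∉ Pp) (h2m : 2 ∣ m → 2 ∈ Pm ∧ 2 ≤ m.factorization 2)
    (h3 : 3 ∣ m → 3 ∈ Pm ∪ Pp)
    (hne : ∀ d ∈ ({12, 24, 60} : Finset ℕ), ∏ s ∈ Pm ∪ Pp, s ^ m.factorization s ≠ d) :
    ∃ (G : Type) (_ : Group G) (_ : Finite G), m ∣ Nat.card G ∧ m.Coprime (Nat.card G / m) ∧
      ∀ H : Subgroup G, Nat.card H ≠ m := by
  classical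
  set U := Pm ∪ Pp with hU
  set e := fun s => m.factorization s with he
  have he0 : ∀ s ∈ U, e s ≠ 0 := fun s hs =>
    ((hsub s hs).1.factorization_pos_of_dvd hm (hsub s hs).2).ne'
  have hPm : ∀ s ∈ Pm, s ∈ U := fun s hs => Finset.mem_union_left _ hs
  have hPp : ∀ s ∈ Pp, s ∈ U := fun s hs => Finset.mem_union_right _ hs
  -- the congruences
  set res := fun s => if s ∈ Pm then s ^ e s + 1 else if s ∈ Pp then s ^ e s - 1 else 2 with hres
  set md := fun s => if s ∈ U then s ^ (e s + 1) else s with hmd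
  have hprime : ∀ s ∈ m.primeFactors, s.Prime := fun s hs => Nat.prime_of_mem_primeFactors hs
  have hmd0 : ∀ s ∈ m.primeFactors, md s ≠ 0 := fun s hs => by
    have h0 := (hprime s hs).ne_zero
    simp only [hmd]; split_ifs <;> simp [h0]
  have hmdvd : ∀ s : ℕ, md s ∣ s ^ (e s + 1) := fun s => by
    simp only [hmd]; split_ifs
    · exact dvd_rfl
    · exact dvd_pow_self s (Nat.succ_ne_zero _)
  have hpw : Set.Pairwise (m.primeFactors : Set ℕ) (Function.onFun Nat.Coprime md) :=
    fun s hs t ht hst => (((Nat.coprime_primes (hprime s hs) (hprime t ht)).2 hst).pow (e s + 1)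
      (e t + 1)).coprime_dvd_left (hmdvd s) |>.coprime_dvd_right (hmdvd t)
  let N := Nat.chineseRemainderOfFinset res md m.primeFactors hmd0 hpw
  have hother5 : ∀ s, s.Prime → s ∣ m → s ∉ U → 5 ≤ s := by
    intro s hs hsm hsU
    by_contra h
    have := hs.two_le
    have h4 : s ≠ 4 := fun h4 => by rw [h4] at hs; norm_num at hs
    rcases (show s = 2 ∨ s = 3 by omega) with rfl | rfl
    · exact hsU (hPm 2 (h2m hsm).1)
    · exact hsU (h3 hsm)
  have hco : (N : ℕ).Coprime (∏ s ∈ m.primeFactors, md s) := by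
    refine Nat.Coprime.prod_right fun s hs => ?_
    have hp := hprime s hs
    refine (Nat.Coprime.coprime_dvd_right (hmdvd s) ?_)
    refine ((hp.coprime_iff_not_dvd).2 fun h => ?_).symm.pow_right _
    have hdm : s ∣ md s := by
      simp only [hmd]; split_ifs
      · exact dvd_pow_self s (Nat.succ_ne_zero _)
      · exact dvd_rfl
    have h' := ((Nat.ModEq.of_dvd hdm (N.2 s hs)).dvd_iff dvd_rfl).1 h
    by_cases hsm : s ∈ Pm
    · rw [hres] at h'; simp only [if_pos hsm] at h'
      exact hp.not_dvd_one ((Nat.dvd_add_right (dvd_pow_self s (he0 s (hPm s hsm)))).1 h')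
    by_cases hsp : s ∈ Pp
    · rw [hres] at h'; simp only [if_neg hsm, if_pos hsp] at h'
      have h'' := Nat.dvd_sub (dvd_pow_self s (he0 s (hPp s hsp))) h'
      rw [Nat.sub_sub_self (Nat.one_le_pow _ _ hp.pos)] at h''
      exact hp.not_dvd_one h''
    · rw [hres] at h'; simp only [if_neg hsm, if_neg hsp] at h'
      have := Nat.le_of_dvd two_pos h'
      have := hother5 s hp (Nat.dvd_of_mem_primeFactors hs) (by simp [hU, hsm, hsp])
      omega
  obtain ⟨r, hrm, hr, hrN⟩ := Nat.forall_exists_prime_gt_and_modEq (max 11 m)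
    (Finset.prod_ne_zero_iff.2 hmd0) hco
  have : Fact r.Prime := ⟨hr⟩
  have hr1 : 1 ≤ r := hr.one_lt.le
  have hr10 : r - 1 ≠ 0 := by have := hr.two_le; omega
  have hmem : ∀ {s : ℕ}, s.Prime → s ∣ m → s ∈ m.primeFactors := fun hs hsm =>
    Nat.mem_primeFactors.2 ⟨hs, hsm, hm⟩
  have hrs : ∀ {s : ℕ}, s.Prime → s ∣ m → r ≡ res s [MOD md s] := fun hs hsm =>
    (hrN.of_dvd (Finset.dvd_prod_of_mem md (hmem hs hsm))).trans (N.2 _ (hmem hs hsm))
  have hsr : ∀ {s : ℕ}, s.Prime → s ∣ m → ¬ s ∣ r := fun {s} hs hsm h => by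
    have := (Nat.prime_dvd_prime_iff_eq hs hr).1 h
    have := Nat.le_of_dvd (Nat.pos_of_ne_zero hm) hsm
    omega
  -- the exact powers
  have hexact : ∀ {s n k : ℕ}, s.Prime → n ≠ 0 → n ≡ s ^ k [MOD s ^ (k + 1)] →
      n.factorization s = k := fun {s n k} hs hn h => by
    have h1 : s ^ k ∣ n := ((h.of_dvd (pow_dvd_pow s k.le_succ)).dvd_iff dvd_rfl).2 dvd_rfl
    have h2 : ¬ s ^ (k + 1) ∣ n := fun h' => by
      have := Nat.le_of_dvd (pow_pos hs.pos k) ((h.dvd_iff dvd_rfl).1 h')
      exact absurd this (not_le.2 (Nat.pow_lt_pow_right hs.one_lt k.lt_succ_self))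
    have h1' := (hs.pow_dvd_iff_le_factorization hn).1 h1
    rw [hs.pow_dvd_iff_le_factorization hn] at h2
    omega
  have hminus : ∀ s ∈ Pm, (r - 1).factorization s = e s := fun s hs => by
    have h := hrs (hsub s (hPm s hs)).1 (hsub s (hPm s hs)).2
    simp only [hres, hmd, if_pos hs, if_pos (hPm s hs)] at h
    exact hexact (hsub s (hPm s hs)).1 hr10
      (Nat.ModEq.add_right_cancel' 1 (by rwa [Nat.sub_add_cancel hr1]))
  have hplus : ∀ s ∈ Pp, (r + 1).factorization s = e s := fun s hs => by
    have hsm : s ∉ Pm := fun h => Finset.disjoint_left.1 hdisj h hs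
    have h := hrs (hsub s (hPp s hs)).1 (hsub s (hPp s hs)).2
    simp only [hres, hmd, if_neg hsm, if_pos hs, if_pos (hPp s hs)] at h
    have h' := h.add_right 1
    rw [Nat.sub_add_cancel (Nat.one_le_pow _ _ (hsub s (hPp s hs)).1.pos)] at h'
    exact hexact (hsub s (hPp s hs)).1 (Nat.succ_ne_zero r) h'
  obtain ⟨i, hi⟩ := hr.odd_of_ne_two (show r ≠ 2 by omega)
  have hnot : ∀ {s : ℕ}, s.Prime → s ≠ 2 → s ∣ r - 1 → ¬ s ∣ r + 1 := fun {s} hs hs2 h h' => by
    have := Nat.dvd_sub h' h
    rw [show r + 1 - (r - 1) = 2 by omega] at this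
    exact hs2 ((Nat.prime_dvd_prime_iff_eq hs Nat.prime_two).1 this)
  have hdvdm : ∀ s ∈ Pm, s ∣ r - 1 := fun s hs => Nat.dvd_of_factorization_pos
    (by rw [hminus s hs]; exact he0 s (hPm s hs))
  have hdvdp : ∀ s ∈ Pp, s ∣ r + 1 := fun s hs => Nat.dvd_of_factorization_pos
    (by rw [hplus s hs]; exact he0 s (hPp s hs))
  have htwo : 2 ∈ Pm → (r + 1).factorization 2 = 1 := fun h => by
    have h4 : 2 ^ 2 ∣ r - 1 := by
      refine (pow_dvd_pow 2 (h2m (hsub 2 (hPm 2 h)).2).2).trans ?_
      have := hminus 2 h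
      simp only [he] at this
      rw [← this]
      exact Nat.ordProj_dvd (r - 1) 2
    refine hexact Nat.prime_two (Nat.succ_ne_zero r) ?_
    show (r + 1) % 2 ^ 2 = 2 ^ 1 % 2 ^ 2
    norm_num at h4 ⊢
    omega
  set L := Nat.card (ProjectiveSpecialLinearGroup (Fin 2) (ZMod r)) with hLdef
  have hcard : 2 * L = r * (r - 1) * (r + 1) := two_mul_card_psl (by omega)
  have hL0 : L ≠ 0 := Nat.card_pos.ne'
  have hLf : ∀ s, s.Prime → s ∣ m → L.factorization s = if s ∈ U then e s else 0 := by
    intro s hs hsm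
    have h := congrArg (fun n => n.factorization s) hcard
    simp only [Nat.factorization_mul two_ne_zero hL0,
      Nat.factorization_mul (mul_ne_zero hr.ne_zero hr10) (Nat.succ_ne_zero r),
      Nat.factorization_mul hr.ne_zero hr10, Finsupp.add_apply, Nat.prime_two.factorization,
      Finsupp.single_apply, Nat.factorization_eq_zero_of_not_dvd (hsr hs hsm), zero_add] at h
    by_cases hsm' : s ∈ Pm
    · rw [if_pos (hPm s hsm')]
      rw [hminus s hsm'] at h
      by_cases hs2 : s = 2
      · subst hs2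
        rw [htwo hsm', if_pos rfl] at h
        omega
      · rw [if_neg (Ne.symm hs2), Nat.factorization_eq_zero_of_not_dvd
          (hnot hs hs2 (hdvdm s hsm'))] at h
        omega
    by_cases hsp : s ∈ Pp
    · rw [if_pos (hPp s hsp)]
      have hs2 : s ≠ 2 := fun e => h2 (e ▸ hsp)
      rw [hplus s hsp, if_neg (Ne.symm hs2), Nat.factorization_eq_zero_of_not_dvd
        (fun h' => hnot hs hs2 h' (hdvdp s hsp))] at h
      omega
    · have hsU : s ∉ U := by simp [hU, hsm', hsp]
      rw [if_neg hsU]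
      have hs5 := hother5 s hs hsm hsU
      have hr2 := hrs hs hsm
      simp only [hres, hmd, if_neg hsm', if_neg hsp, if_neg hsU] at hr2
      have h1 : r - 1 ≡ 1 [MOD s] := Nat.ModEq.add_right_cancel' 1 (by rwa [Nat.sub_add_cancel hr1])
      rw [if_neg (show (2 : ℕ) ≠ s by omega), Nat.factorization_eq_zero_of_not_dvd (n := r - 1)
          (fun h' => hs.not_dvd_one ((h1.dvd_iff dvd_rfl).1 h')),
        Nat.factorization_eq_zero_of_not_dvd (n := r + 1) (fun h' => by
          have := Nat.le_of_dvd (by norm_num) (((hr2.add_right 1).dvd_iff dvd_rfl).1 h'); omega)] at h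
      omega
  set d := ∏ s ∈ U, s ^ e s with hd
  have hd0 : d ≠ 0 := Finset.prod_ne_zero_iff.2 fun s hs => pow_ne_zero _ (hsub s hs).1.ne_zero
  have hdf : ∀ s, d.factorization s = if s ∈ U then e s else 0 := by
    intro s
    rw [hd, Nat.factorization_prod fun t ht => pow_ne_zero _ (hsub t ht).1.ne_zero,
      Finset.sum_congr rfl fun t ht => (hsub t ht).1.factorization_pow, Finsupp.finsetSum_apply]
    simp [Finsupp.single_apply]
  have hdm : d ∣ m := (Nat.factorization_le_iff_dvd hd0 hm).1 fun s => by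
    rw [hdf]; split_ifs <;> simp [he]
  have hdL : d ∣ L := (Nat.factorization_le_iff_dvd hd0 hL0).1 fun s => by
    rw [hdf]
    split_ifs with h
    · rw [hLf s (hsub s h).1 (hsub s h).2, if_pos h]
    · exact Nat.zero_le _
  have hbig : ∀ {s : ℕ}, s ∈ U → e s ≤ d.factorization s := fun {s} hs => by rw [hdf, if_pos hs]
  refine counterexample (r := r) (d := d) (by omega)
    (lt_of_le_of_lt (Nat.le_of_dvd (Nat.pos_of_ne_zero hm) hdm) (by omega)) hdm hdL ?_ ?_ ?_ ?_
    (hne 12 (by simp)) (hne 24 (by simp)) (hne 60 (by simp)) (Nat.pos_of_ne_zero hm)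
  · refine Nat.coprime_of_dvd fun s hs hs1 hs2 => ?_
    have h1 := hs.factorization_pos_of_dvd hd0 hs1
    rw [hdf] at h1
    have hsU : s ∈ U := by by_contra h; simp [h] at h1
    have h2' := hs.factorization_pos_of_dvd ((Nat.div_pos (Nat.le_of_dvd (Nat.pos_of_ne_zero hL0) hdL)
      (Nat.pos_of_ne_zero hd0)).ne') hs2
    rw [Nat.factorization_div hdL, Finsupp.tsub_apply, hdf, if_pos hsU,
      hLf s hs (hsub s hsU).2, if_pos hsU] at h2'
    omega
  · refine Nat.coprime_of_dvd fun s hs hs1 hs2 => ?_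
    have hsm : s ∣ m := hs1.trans (Nat.div_dvd_of_dvd hdm)
    have h1 := hs.factorization_pos_of_dvd ((Nat.div_pos (Nat.le_of_dvd (Nat.pos_of_ne_zero hm) hdm)
      (Nat.pos_of_ne_zero hd0)).ne') hs1
    have h2' := hs.factorization_pos_of_dvd hL0 hs2
    rw [Nat.factorization_div hdm, Finsupp.tsub_apply, hdf] at h1
    rw [hLf s hs hsm] at h2'
    split_ifs at h1 h2' <;> simp [he] at h1 h2'
  · intro h
    obtain ⟨s, hs⟩ := hp1
    exact hnot (hsub s (hPp s hs)).1 (fun e => h2 (e ▸ hs))
      ((Finset.dvd_prod_of_mem _ (hPp s hs) |>.trans h) |> (dvd_pow_self s (he0 s (hPp s hs))).trans)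
      (hdvdp s hs)
  · intro h
    obtain ⟨s, hs⟩ := hm1
    have hsd : s ^ e s ∣ r + 1 := (Finset.dvd_prod_of_mem _ (hPm s hs)).trans h
    by_cases hs2 : s = 2
    · subst hs2
      have h' := (Nat.prime_two.pow_dvd_iff_le_factorization (Nat.succ_ne_zero r)).1 hsd
      rw [htwo hs] at h'
      have := (h2m (hsub 2 (hPm 2 hs)).2).2
      simp only [he] at h'
      omega
    · exact hnot (hsub s (hPm s hs)).1 hs2 (hdvdm s hs)
        ((dvd_pow_self s (he0 s (hPm s hs))).trans hsd)

set_option maxHeartbeats 800000 in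
/-- Every number outside the list fails to be a Hall number. -/
theorem not_hall_number {m : ℕ} (hm : 2 ≤ m)
    (h : ¬ (IsPrimePow m ∨ m % 4 = 2 ∨ m = 12 ∨ m = 24 ∨ m = 60)) :
    ∃ (G : Type) (_ : Group G) (_ : Finite G), m ∣ Nat.card G ∧ m.Coprime (Nat.card G / m) ∧
      ∀ H : Subgroup G, Nat.card H ≠ m := by
  classical
  push Not at h
  obtain ⟨hpp, hmod, h12, h24, h60⟩ := h
  have hm0 : m ≠ 0 := by omega
  have hother : ∀ p, p.Prime → p ∣ m → ∃ q, q.Prime ∧ q ∣ m ∧ q ≠ p := by
    intro p hp hpm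
    by_contra hc
    push Not at hc
    exact hpp ((isPrimePow_iff_unique_prime_dvd).2 ⟨p, ⟨hp, hpm⟩, fun q hq => hc q hq.1 hq.2⟩)
  set f := m.factorization with hf
  have hfp : ∀ (V : Finset ℕ), (∀ s ∈ V, s.Prime) → ∀ s ∈ V,
      (∏ t ∈ V, t ^ f t).factorization s = f s := by
    intro V hV s hs
    rw [Nat.factorization_prod fun t ht => pow_ne_zero _ (hV t ht).ne_zero,
      Finset.sum_congr rfl fun t ht => (hV t ht).factorization_pow, Finsupp.finsetSum_apply]
    simp [Finsupp.single_apply, hs]
  have hpos : ∀ {s}, s.Prime → s ∣ m → 0 < f s := fun hs hsm => hs.factorization_pos_of_dvd hm0 hsm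
  by_cases h2 : 2 ∣ m
  · have hf2 : 2 ≤ f 2 := by
      rw [hf, ← Nat.prime_two.pow_dvd_iff_le_factorization hm0]
      omega
    by_cases h3 : 3 ∣ m
    · by_cases hex : (f 2 = 2 ∨ f 2 = 3) ∧ f 3 = 1
      · -- `12` or `24` times something
        obtain ⟨hex2, hex3⟩ := hex
        obtain ⟨q, hq, hqm, hq2, hq3, hq60⟩ : ∃ q, q.Prime ∧ q ∣ m ∧ q ≠ 2 ∧ q ≠ 3 ∧
            ¬ (f 2 = 2 ∧ q = 5 ∧ f 5 = 1) := by
          by_contra hc
          push Not at hc
          have hsub : ∀ q, q.Prime → q ∣ m → q ≠ 2 → q ≠ 3 → q = 5 := fun q a b c d =>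
            ((hc q a b c d)).2.1
          have hsupp : m = 2 ^ f 2 * 3 ^ f 3 * 5 ^ f 5 := by
            have hpow : 2 ^ f 2 * 3 ^ f 3 * 5 ^ f 5 ≠ 0 := by positivity
            refine Nat.eq_of_factorization_eq hm0 hpow fun s => ?_
            simp only [Nat.factorization_mul (mul_ne_zero (pow_ne_zero _ two_ne_zero)
              (pow_ne_zero _ three_ne_zero)) (pow_ne_zero _ (by norm_num : (5 : ℕ) ≠ 0)),
              Nat.factorization_mul (pow_ne_zero _ two_ne_zero) (pow_ne_zero _ three_ne_zero),
              Nat.prime_two.factorization_pow, Nat.prime_three.factorization_pow,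
              Nat.prime_five.factorization_pow, Finsupp.add_apply, Finsupp.single_apply]
            by_cases hs : s.Prime ∧ s ∣ m
            · rcases eq_or_ne s 2 with rfl | e2
              · simp [hf]
              rcases eq_or_ne s 3 with rfl | e3
              · simp [hf]
              obtain rfl := hsub s hs.1 hs.2 e2 e3
              simp [hf]
            · have h0 : f s = 0 := Nat.factorization_eq_zero_iff _ _ |>.2 (by tauto)
              rw [← hf, h0]
              split_ifs with a b c <;> subst_vars <;> omega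
          rcases Nat.eq_zero_or_pos (f 5) with h5 | h5
          · rw [hex3, h5] at hsupp
            rcases hex2 with e | e <;> rw [e] at hsupp <;> omega
          · have := hc 5 Nat.prime_five (Nat.dvd_of_factorization_pos h5.ne') (by norm_num) (by norm_num)
            rw [hex3, this.1, this.2.2] at hsupp
            omega
        refine counterexample_of_split hm0 {2, 3} {q} ?_ ?_ ⟨2, by simp⟩ ⟨q, by simp⟩
          (by simp [hq2.symm]) (fun _ => ⟨by simp, hf2⟩) (fun _ => by simp) fun d hd he => ?_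
        · intro s hs
          simp only [Finset.mem_union, Finset.mem_insert, Finset.mem_singleton] at hs
          rcases hs with (rfl | rfl) | rfl
          · exact ⟨Nat.prime_two, h2⟩
          · exact ⟨Nat.prime_three, h3⟩
          · exact ⟨hq, hqm⟩
        · simp [hq2, hq3]
        · have hV : ∀ s ∈ ({2, 3} : Finset ℕ) ∪ {q}, s.Prime := by
            simp [Nat.prime_two, Nat.prime_three, hq]
          have eq' := hfp _ hV q (by simp)
          have e2' := hfp _ hV 2 (by simp)
          rw [he] at eq' e2'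
          have hq5 : q = 5 := by
            have hqd : q ∣ d := Nat.dvd_of_factorization_pos (by rw [eq']; exact (hpos hq hqm).ne')
            simp only [Finset.mem_insert, Finset.mem_singleton] at hd
            have h60' : q ∣ 120 := hqd.trans (by rcases hd with rfl | rfl | rfl <;> norm_num)
            have hle := Nat.le_of_dvd (by norm_num) h60'
            have : q ∣ 2 ^ 3 * (3 * 5) := by norm_num; exact h60'
            rcases hq.dvd_mul.1 this with h | h
            · exact absurd ((Nat.prime_dvd_prime_iff_eq hq Nat.prime_two).1 (hq.dvd_of_dvd_pow h)) hq2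
            · rcases hq.dvd_mul.1 h with h | h
              · exact absurd ((Nat.prime_dvd_prime_iff_eq hq Nat.prime_three).1 h) hq3
              · exact (Nat.prime_dvd_prime_iff_eq hq Nat.prime_five).1 h
          subst hq5
          have h5 := hpos hq hqm
          simp only [Finset.mem_insert, Finset.mem_singleton] at hd
          have hd60 : d = 60 := by
            rcases hd with rfl | rfl | rfl
            · rw [Nat.factorization_eq_zero_of_not_dvd (show ¬ 5 ∣ 12 by norm_num)] at eq'; omega
            · rw [Nat.factorization_eq_zero_of_not_dvd (show ¬ 5 ∣ 24 by norm_num)] at eq'; omega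
            · rfl
          subst hd60
          have f5 : Nat.factorization 60 5 = 1 := by
            rw [show 60 = 12 * 5 by norm_num, Nat.factorization_mul (by norm_num) (by norm_num),
              Finsupp.add_apply, Nat.factorization_eq_zero_of_not_dvd (by norm_num),
              Nat.prime_five.factorization_self]
          have f2 : Nat.factorization 60 2 = 2 := by
            rw [show 60 = 2 ^ 2 * 15 by norm_num, Nat.factorization_mul (by norm_num) (by norm_num),
              Finsupp.add_apply, Nat.prime_two.factorization_pow, Finsupp.single_eq_same,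
              Nat.factorization_eq_zero_of_not_dvd (show ¬ 2 ∣ 15 by norm_num)]
          exact hq60 ⟨by omega, rfl, by omega⟩
      · refine counterexample_of_split hm0 {2} {3} ?_ (by simp) ⟨2, by simp⟩ ⟨3, by simp⟩ (by simp)
          (fun _ => ⟨by simp, hf2⟩) (fun _ => by simp) fun d hd he => hex ?_
        · simp [Nat.prime_two, Nat.prime_three, h2, h3]
        · have hV : ∀ s ∈ ({2} : Finset ℕ) ∪ {3}, s.Prime := by simp [Nat.prime_two, Nat.prime_three]
          have e2 := hfp _ hV 2 (by simp)
          have e3 := hfp _ hV 3 (by simp)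
          have hle : ¬ 5 ∣ d := by
            rw [← he]
            simp [Finset.prod_pair]
            intro h
            rcases Nat.prime_five.dvd_mul.1 h with h | h
            · exact absurd (Nat.prime_five.dvd_of_dvd_pow h) (by norm_num)
            · exact absurd (Nat.prime_five.dvd_of_dvd_pow h) (by norm_num)
          rw [he] at e2 e3
          have k2 : ∀ a b : ℕ, b ≠ 0 → ¬ 2 ∣ b → (2 ^ a * b).factorization 2 = a := fun a b hb0 hb => by
            rw [Nat.factorization_mul (pow_ne_zero _ two_ne_zero) hb0, Finsupp.add_apply,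
              Nat.prime_two.factorization_pow, Finsupp.single_eq_same,
              Nat.factorization_eq_zero_of_not_dvd hb]
            rfl
          have k3 : ∀ b : ℕ, b ≠ 0 → ¬ 3 ∣ b → (3 * b).factorization 3 = 1 := fun b hb0 hb => by
            rw [Nat.factorization_mul three_ne_zero hb0, Finsupp.add_apply,
              Nat.prime_three.factorization_self, Nat.factorization_eq_zero_of_not_dvd hb]
          simp only [Finset.mem_insert, Finset.mem_singleton] at hd
          rcases hd with rfl | rfl | rfl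
          · have := k2 2 3 (by norm_num) (by norm_num)
            have := k3 4 (by norm_num) (by norm_num)
            norm_num at *
            omega
          · have := k2 3 3 (by norm_num) (by norm_num)
            have := k3 8 (by norm_num) (by norm_num)
            norm_num at *
            omega
          · norm_num at hle
    · obtain ⟨q, hq, hqm, hq2⟩ := hother 2 Nat.prime_two h2
      refine counterexample_of_split hm0 {2} {q} ?_ (by simp [hq2.symm]) ⟨2, by simp⟩ ⟨q, by simp⟩
        (by simp [hq2.symm]) (fun _ => ⟨by simp, hf2⟩) (fun h => absurd h h3) fun d hd he => ?_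
      · simp [Nat.prime_two, hq, h2, hqm]
      · have h3d : 3 ∣ ∏ s ∈ ({2} : Finset ℕ) ∪ {q}, s ^ f s := by
          rw [he]
          simp only [Finset.mem_insert, Finset.mem_singleton] at hd
          rcases hd with rfl | rfl | rfl <;> norm_num
        obtain ⟨s, hs, hsd⟩ := (Prime.dvd_finsetProd_iff Nat.prime_three.prime _).1 h3d
        simp only [Finset.mem_union, Finset.mem_singleton] at hs
        rcases hs with rfl | rfl
        · exact absurd (Nat.prime_three.dvd_of_dvd_pow hsd) (by norm_num)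
        · exact h3 ((Nat.prime_three.dvd_of_dvd_pow hsd).trans hqm)
  · obtain ⟨p, hp, hpm, hp3⟩ : ∃ p, p.Prime ∧ p ∣ m ∧ (3 ∣ m → p = 3) := by
      by_cases h3 : 3 ∣ m
      · exact ⟨3, Nat.prime_three, h3, fun _ => rfl⟩
      · exact ⟨m.minFac, Nat.minFac_prime (by omega), m.minFac_dvd, fun h => absurd h h3⟩
    obtain ⟨q, hq, hqm, hqp⟩ := hother p hp hpm
    refine counterexample_of_split hm0 {p} {q} ?_ (by simp [hqp.symm]) ⟨p, by simp⟩ ⟨q, by simp⟩
      ?_ (fun h => absurd h h2) (fun h => by simp [hp3 h]) fun d hd he => ?_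
    · simp [hp, hq, hpm, hqm]
    · simp only [Finset.mem_singleton]
      exact fun e => h2 (e ▸ hqm)
    · have h2d : 2 ∣ ∏ s ∈ ({p} : Finset ℕ) ∪ {q}, s ^ f s := by
        rw [he]
        simp only [Finset.mem_insert, Finset.mem_singleton] at hd
        rcases hd with rfl | rfl | rfl <;> norm_num
      obtain ⟨s, hs, hsd⟩ := (Prime.dvd_finsetProd_iff Nat.prime_two.prime _).1 h2d
      simp only [Finset.mem_union, Finset.mem_singleton] at hs
      rcases hs with rfl | rfl
      · exact h2 ((Nat.prime_two.dvd_of_dvd_pow hsd).trans hpm)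
      · exact h2 ((Nat.prime_two.dvd_of_dvd_pow hsd).trans hqm)

end Cfsg.Agent.Hall.Numbers
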