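import Cfsg.Agent.Lib.Involutions.StronglyEmbedded
import Cfsg.Agent.S0346

/-!
The end of the case of a strongly embedded subgroup of order `56 w`: if the centralisers of the non-identity
elements of the normal complement `W` stay inside, the action on the cosets is that of a Zassenhaus group.
-/

set_option autoImplicit false

universe u

namespace Cfsg.Agent.Hall.Numbers.Seven

open Subgroup MulAction
open Cfsg.Agent.Involutions

variable {G : Type u} [Group G] [Finite G]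

/-- The hypotheses. -/
structure Ctx (M S W : Subgroup G) : Prop where
  hM : Cfsg.IsStronglyEmbedded M
  hS8 : Nat.card S = 8
  hSsq : ∀ s ∈ S, s * s = 1
  hSM : S ≤ M
  hMS : M ≤ normalizer (S : Set G)
  hWM : W ≤ M
  hMW : M ≤ normalizer (W : Set G)
  hWodd : Odd (Nat.card W)
  hWS : W ≤ centralizer (S : Set G)
  hcard : Nat.card M = 56 * Nat.card W
  hC : ∀ x ∈ W, x ≠ 1 → centralizer ({x} : Set G) ≤ M

/-- The stabiliser of two cosets. -/
abbrev pairStab (M : Subgroup G) (a b : G ⧸ M) : Subgroup G := stabilizer G a ⊓ stabilizer G b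

omit [Finite G] in
theorem mem_stabilizer_mk {M : Subgroup G} {x g : G} :
    x ∈ stabilizer G (g : G ⧸ M) ↔ g⁻¹ * x * g ∈ M := by
  rw [mem_stabilizer_iff, eq_comm]
  show (g : G ⧸ M) = ((x * g : G) : G ⧸ M) ↔ _
  rw [QuotientGroup.eq, ← mul_assoc]

omit [Finite G] in
theorem mem_pairStab_smul {M : Subgroup G} {x g : G} {a b : G ⧸ M} :
    x ∈ pairStab M (g • a) (g • b) ↔ g⁻¹ * x * g ∈ pairStab M a b := by
  simp [mem_inf, mem_stabilizer_iff, mul_smul, inv_smul_eq_iff]

omit [Finite G] in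
theorem mem_pairStab {M : Subgroup G} {x : G} {a b : G ⧸ M} :
    x ∈ pairStab M a b ↔ x • a = a ∧ x • b = b := by
  simp [mem_inf, mem_stabilizer_iff]

omit [Finite G] in
/-- An involution interchanging two cosets normalises their stabiliser. -/
theorem conj_mem_pairStab {M : Subgroup G} {x v : G} {a b : G ⧸ M} (hv : orderOf v = 2) (ha : v • a = b)
    (hb : v • b = a) (hx : x ∈ pairStab M a b) : v * x * v⁻¹ ∈ pairStab M a b := by
  obtain ⟨h1, h2⟩ := mem_pairStab.mp hx
  rw [mem_pairStab, Basic.inv_eq hv, mul_smul, mul_smul, ha, h2, hb, mul_smul, mul_smul, hb, h1, ha]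
  exact ⟨rfl, rfl⟩

omit [Finite G] in
theorem card_pairStab_smul {M : Subgroup G} (g : G) (a b : G ⧸ M) :
    Nat.card (pairStab M (g • a) (g • b)) = Nat.card (pairStab M a b) := by
  refine Nat.card_congr (Equiv.subtypeEquiv (MulAut.conj g⁻¹).toEquiv fun x => ?_)
  simpa using mem_pairStab_smul

theorem odd_orderOf_of_mem {H : Subgroup G} (hH : Odd (Nat.card H)) {x : G} (hx : x ∈ H) :
    Odd (orderOf x) := by
  have h : orderOf x ∣ Nat.card H := by
    simpa [Subgroup.orderOf_mk] using orderOf_dvd_natCard (⟨x, hx⟩ : H)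
  exact hH.of_dvd_nat h

namespace Ctx

variable {M S W : Subgroup G} (C : Ctx M S W)
include C

theorem orderOf_of_mem_S {s : G} (hs : s ∈ S) (h1 : s ≠ 1) : orderOf s = 2 :=
  Basic.orderOf_two_iff.mpr ⟨C.hSsq s hs, h1⟩

theorem mem_S {x : G} (hx : x ∈ M) (h2 : orderOf x = 2) : x ∈ S := by
  have : Fact (Nat.Prime 2) := ⟨Nat.prime_two⟩
  have hZ : zpowers x ≤ normalizer (S : Set G) := zpowers_le.mpr (C.hMS hx)
  have hp : IsPGroup 2 ↥(zpowers x ⊔ S) :=
    IsPGroup.to_sup_of_normal_right' (IsPGroup.of_card (n := 1) (by rw [Nat.card_zpowers, h2]; rfl))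
      (IsPGroup.of_card (n := 3) (by rw [C.hS8]; rfl)) hZ
  obtain ⟨k, hk⟩ := IsPGroup.iff_card.mp hp
  have hdvd : 2 ^ k ∣ 8 * (7 * Nat.card W) := by
    rw [← hk, ← mul_assoc]
    show _ ∣ 56 * Nat.card W
    rw [← C.hcard]
    exact Subgroup.card_dvd_of_le (sup_le (zpowers_le.mpr hx) C.hSM)
  have hco : Nat.Coprime (2 ^ k) (7 * Nat.card W) :=
    Nat.Coprime.pow_left k (Nat.coprime_two_left.mpr (Nat.odd_mul.mpr ⟨by decide, C.hWodd⟩))
  have h8 : 2 ^ k ≤ 8 := Nat.le_of_dvd (by norm_num) (hco.dvd_of_dvd_mul_right hdvd)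
  have heq : S = zpowers x ⊔ S :=
    eq_of_le_of_card_ge le_sup_right (by rw [hk, C.hS8]; exact h8)
  rw [heq]
  exact mem_sup_left (mem_zpowers x)

theorem exists_ne_one : ∃ s ∈ S, s ≠ 1 := by
  have : S ≠ ⊥ := fun h => by
    have h8 := C.hS8
    rw [h, card_bot] at h8
    omega
  exact S.ne_bot_iff_exists_ne_one.mp this |>.elim fun s hs => ⟨s, s.2, by simpa using hs⟩

theorem card_invol : Nat.card {t : G // orderOf t = 2 ∧ t ∈ M} = 7 := by
  classical
  have : Fintype G := Fintype.ofFinite G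
  have e : {t : G // orderOf t = 2 ∧ t ∈ M} ≃ {s : S // s ≠ 1} :=
    { toFun := fun t => ⟨⟨t.1, C.mem_S t.2.2 t.2.1⟩, fun h => Basic.ne_one t.2.1 (congrArg Subtype.val h)⟩
      invFun := fun s => ⟨s.1.1, C.orderOf_of_mem_S s.1.2 (fun h => s.2 (Subtype.ext h)), C.hSM s.1.2⟩
      left_inv := fun t => rfl
      right_inv := fun s => rfl }
  rw [Nat.card_congr e, Nat.card_eq_fintype_card, Fintype.card_subtype_compl, Fintype.card_subtype_eq,
    ← Nat.card_eq_fintype_card, C.hS8]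

/-- Conjugates of non-identity elements of `W` lie in `W` only under `M`. -/
theorem mem_of_conj_W {x g : G} (hx : x ∈ W) (hx1 : x ≠ 1) (hg : g⁻¹ * x * g ∈ W) : g ∈ M := by
  obtain ⟨s, hs, hs1⟩ := C.exists_ne_one
  refine StronglyEmbedded.mem_of_conj C.hM (C.hSM hs) (C.orderOf_of_mem_S hs hs1)
    (C.hC x hx hx1 (mem_centralizer_singleton_iff.mpr ?_))
  have h : g⁻¹ * x * g * s = s * (g⁻¹ * x * g) := (mem_centralizer_iff.mp (C.hWS hg) s hs).symm
  calc g * s * g⁻¹ * x = g * (s * (g⁻¹ * x * g)) * g⁻¹ := by group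
    _ = g * (g⁻¹ * x * g * s) * g⁻¹ := by rw [h]
    _ = x * (g * s * g⁻¹) := by group

theorem card_eq_seven_mul {D : Subgroup G} (hDM : D ≤ M) {s : G} (hs : orderOf s = 2) (hsM : s ∈ M)
    (htr : ∀ t, orderOf t = 2 → t ∈ M → ∃ d ∈ D, d * s * d⁻¹ = t) :
    Nat.card D = 7 * Nat.card ↥(D ⊓ centralizer ({s} : Set G)) := by
  set K : Subgroup D := (centralizer ({s} : Set G)).subgroupOf D with hK
  have hKD : ∀ a b : D, a⁻¹ * b ∈ K ↔
      (a : G) * s * (a : G)⁻¹ = (b : G) * s * (b : G)⁻¹ := by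
    intro a b
    rw [hK, mem_subgroupOf, mem_centralizer_singleton_iff]
    constructor
    · intro h
      calc (a : G) * s * (a : G)⁻¹ = a * (s * ((a⁻¹ * b : D) : G)) * (b : G)⁻¹ := by
            push_cast; group
        _ = a * (((a⁻¹ * b : D) : G) * s) * (b : G)⁻¹ := by rw [h]
        _ = _ := by push_cast; group
    · intro h
      push_cast
      calc (a : G)⁻¹ * b * s = (a : G)⁻¹ * ((b : G) * s * (b : G)⁻¹) * b := by group
        _ = (a : G)⁻¹ * ((a : G) * s * (a : G)⁻¹) * b := by rw [h]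
        _ = _ := by group
  let f : D ⧸ K → {t : G // orderOf t = 2 ∧ t ∈ M} :=
    Quotient.lift (fun d : D => ⟨(d : G) * s * (d : G)⁻¹, by rw [Basic.orderOf_conj, hs],
      mul_mem (mul_mem (hDM d.2) hsM) (inv_mem (hDM d.2))⟩) fun a b hab =>
        Subtype.ext ((hKD a b).mp (QuotientGroup.leftRel_apply.mp hab))
  have hf : Function.Bijective f := by
    constructor
    · intro p q h
      induction p using QuotientGroup.induction_on with | H a => ?_
      induction q using QuotientGroup.induction_on with | H b => ?_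
      exact QuotientGroup.eq.mpr ((hKD a b).mpr (congrArg Subtype.val h))
    · rintro ⟨t, ht, htM⟩
      obtain ⟨d, hd, hdt⟩ := htr t ht htM
      exact ⟨((⟨d, hd⟩ : D) : D ⧸ K), Subtype.ext hdt⟩
  have hidx : K.index = 7 := by
    rw [Subgroup.index_eq_card, Nat.card_congr (Equiv.ofBijective f hf), C.card_invol]
  rw [← K.index_mul_card, hidx, hK, ← Subgroup.inf_subgroupOf_left,
    Nat.card_congr (Subgroup.subgroupOfEquivOfLe inf_le_left).toEquiv]

theorem exists_swap {a b : G ⧸ M} (hab : a ≠ b) : ∃ v : G, orderOf v = 2 ∧ v • a = b ∧ v • b = a := by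
  obtain ⟨⟨v, hv, hva⟩⟩ : Nonempty {i : G // orderOf i = 2 ∧ i • a = b} := by
    refine (Nat.card_pos_iff.mp ?_).1
    rw [StronglyEmbedded.card_swap C.hM a b hab, C.card_invol]
    norm_num
  exact ⟨v, hv, hva, by rw [← hva, smul_smul, Basic.inv_sq_one hv, one_smul]⟩

theorem trans_pairStab {b : G ⧸ M} (hb : b ≠ ((1 : G) : G ⧸ M)) {s t : G} (hs : orderOf s = 2) (hsM : s ∈ M)
    (ht : orderOf t = 2) (htM : t ∈ M) :
    ∃ d ∈ pairStab M ((1 : G) : G ⧸ M) b, d * s * d⁻¹ = t := by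
  obtain ⟨u, hu, hu1, -⟩ := C.exists_swap (Ne.symm hb)
  have hub : b = (u : G ⧸ M) := by
    rw [← hu1]
    show ((u * 1 : G) : G ⧸ M) = _
    rw [mul_one]
  subst hub
  have huM : u ∉ M := fun h => hb (by rw [QuotientGroup.eq, mul_one]; exact inv_mem h)
  obtain ⟨d, ⟨hdM, e, heM, hed⟩, hd⟩ := StronglyEmbedded.exists_conj_in_inter C.hM hu huM hs hsM ht htM
  refine ⟨d, mem_inf.mpr ⟨?_, ?_⟩, hd⟩
  · rw [mem_stabilizer_mk]; simpa using hdM
  · rw [mem_stabilizer_mk]
    have : u⁻¹ * d * u = e := by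
      rw [← hed]
      show u⁻¹ * (u * e * u⁻¹) * u = e
      group
    rw [this]; exact heM

theorem pairStab_le {b : G ⧸ M} : pairStab M ((1 : G) : G ⧸ M) b ≤ M := fun x hx => by
  simpa using mem_stabilizer_mk.mp hx.1

theorem odd_pairStab {b : G ⧸ M} (hb : b ≠ ((1 : G) : G ⧸ M)) :
    Odd (Nat.card (pairStab M ((1 : G) : G ⧸ M) b)) := by
  obtain ⟨g, rfl⟩ := QuotientGroup.mk_surjective b
  have hg : g ∉ M := fun h => hb (by rw [QuotientGroup.eq, mul_one]; exact inv_mem h)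
  refine (C.hM.2.2 g hg).of_dvd_nat (Subgroup.card_dvd_of_le ?_)
  intro x hx
  refine ⟨C.pairStab_le hx, g⁻¹ * x * g, mem_stabilizer_mk.mp hx.2, ?_⟩
  show g * (g⁻¹ * x * g) * g⁻¹ = x
  group

theorem mem_W_of_commute {x s : G} (hx : x ∈ M) (hodd : Odd (orderOf x)) (hs : s ∈ S) (hs1 : s ≠ 1)
    (hxs : Commute x s) : x ∈ W := by
  obtain ⟨u, huM, hu⟩ := StronglyEmbedded.exists_involution_notMem C.hM
  have hs2 := C.orderOf_of_mem_S hs hs1
  have hK := C.card_eq_seven_mul le_rfl hs2 (C.hSM hs) fun t ht htM => by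
    obtain ⟨d, hd, h⟩ := StronglyEmbedded.exists_conj_in_inter C.hM hu huM hs2 (C.hSM hs) ht htM
    exact ⟨d, hd.1, h⟩
  set K := M ⊓ centralizer ({s} : Set G)
  have hWK : W ≤ K := le_inf C.hWM (C.hWS.trans (centralizer_le (by simpa using hs)))
  have hn : (W.subgroupOf K).Normal :=
    normal_subgroupOf_of_le_normalizer ((inf_le_left : K ≤ M).trans C.hMW)
  have hidx : (W.subgroupOf K).index = 8 := by
    have h := (W.subgroupOf K).index_mul_card
    rw [Nat.card_congr (subgroupOfEquivOfLe hWK).toEquiv] at h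
    have hwp : 0 < Nat.card W := Nat.card_pos
    have hc := C.hcard
    have : Nat.card K = 8 * Nat.card W := by omega
    rw [this] at h
    exact Nat.eq_of_mul_eq_mul_right hwp h
  have hxK : x ∈ K := ⟨hx, mem_centralizer_singleton_iff.mpr hxs.eq⟩
  have h8 : x ^ 8 ∈ W := by
    have := Subgroup.pow_index_mem (W.subgroupOf K) (⟨x, hxK⟩ : K)
    rw [hidx, mem_subgroupOf] at this
    simpa using this
  have hco : Nat.Coprime (orderOf x) 8 := by
    have : Nat.Coprime (orderOf x) (2 ^ 3) := Nat.Coprime.pow_right 3 (Nat.coprime_two_right.mpr hodd)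
    simpa using this
  obtain ⟨m, hm⟩ := exists_pow_eq_self_of_coprime (x := x) (n := 8) hco.symm
  rw [← hm]
  exact pow_mem h8 m

theorem card_pairStab_eq {b : G ⧸ M} (hb : b ≠ ((1 : G) : G ⧸ M)) :
    Nat.card (pairStab M ((1 : G) : G ⧸ M) b) = 7 * Nat.card ↥(pairStab M ((1 : G) : G ⧸ M) b ⊓ W) := by
  obtain ⟨s, hs, hs1⟩ := C.exists_ne_one
  have hs2 := C.orderOf_of_mem_S hs hs1
  rw [C.card_eq_seven_mul C.pairStab_le hs2 (C.hSM hs) fun t ht htM => C.trans_pairStab hb hs2 (C.hSM hs) ht htM]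
  congr 1
  refine congrArg (fun K : Subgroup G => Nat.card K) (le_antisymm ?_ ?_)
  · rintro x ⟨hx, hxs⟩
    exact ⟨hx, C.mem_W_of_commute (C.pairStab_le hx) (odd_orderOf_of_mem (C.odd_pairStab hb) hx) hs hs1
      (mem_centralizer_singleton_iff.mp hxs)⟩
  · rintro x ⟨hx, hxW⟩
    exact ⟨hx, centralizer_le (by simpa using hs) (C.hWS hxW)⟩

theorem not_normalise_one {b : G ⧸ M} (hb : b ≠ ((1 : G) : G ⧸ M)) {v : G} (hv : orderOf v = 2) (hvM : v ∈ M)
    (hn : ∀ x ∈ pairStab M ((1 : G) : G ⧸ M) b, v * x * v⁻¹ ∈ pairStab M ((1 : G) : G ⧸ M) b) : False := by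
  set D := pairStab M ((1 : G) : G ⧸ M) b
  have hvS := C.mem_S hvM hv
  have hDW : D ≤ W := by
    intro x hx
    refine C.mem_W_of_commute (C.pairStab_le hx) (odd_orderOf_of_mem (C.odd_pairStab hb) hx) hvS
      (Basic.ne_one hv) ?_
    have h1 : v * x * v⁻¹ * x⁻¹ ∈ S := by
      rw [show v * x * v⁻¹ * x⁻¹ = v * (x * v⁻¹ * x⁻¹) by group]
      exact mul_mem hvS ((mem_normalizer_iff.mp (C.hMS (C.pairStab_le hx)) _).mp (inv_mem hvS))
    have h2 : v * x * v⁻¹ * x⁻¹ ∈ D := mul_mem (hn x hx) (inv_mem hx)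
    have h3 : v * x * v⁻¹ * x⁻¹ = 1 := by
      by_contra hne
      have ho := odd_orderOf_of_mem (C.odd_pairStab hb) h2
      rw [C.orderOf_of_mem_S h1 hne] at ho
      exact absurd ho (by decide)
    show x * v = v * x
    calc x * v = (v * x * v⁻¹ * x⁻¹) * x * v := by rw [h3, one_mul]
      _ = v * x := by group
  have h := C.card_pairStab_eq hb
  rw [inf_eq_left.mpr hDW] at h
  have : 0 < Nat.card D := Nat.card_pos
  change Nat.card D = 7 * Nat.card D at h
  omega

/-- An involution fixing a point does not normalise a two-point stabiliser of it. -/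
theorem not_normalise {a b : G ⧸ M} (hab : a ≠ b) {v : G} (hv : orderOf v = 2) (hva : v • a = a)
    (hn : ∀ x ∈ pairStab M a b, v * x * v⁻¹ ∈ pairStab M a b) : False := by
  obtain ⟨g, rfl⟩ := QuotientGroup.mk_surjective a
  have hg : g • ((1 : G) : G ⧸ M) = (g : G ⧸ M) := by
    show ((g * 1 : G) : G ⧸ M) = _
    rw [mul_one]
  have hb : b = g • (g⁻¹ • b) := (smul_inv_smul g b).symm
  refine C.not_normalise_one (b := g⁻¹ • b) (v := g⁻¹ * v * g) (fun h => hab ?_) ?_
    (mem_stabilizer_mk.mp hva) ?_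
  · rw [hb, h, hg]
  · have := Basic.orderOf_conj g⁻¹ v
    rw [inv_inv] at this
    rw [this, hv]
  · intro x hx
    have hx' : g * x * g⁻¹ ∈ pairStab M (g : G ⧸ M) b := by
      rw [← hg, hb, mem_pairStab_smul]
      simpa [mul_assoc] using hx
    have h := hn _ hx'
    rw [← hg, hb, mem_pairStab_smul] at h
    have e : g⁻¹ * v * g * x * (g⁻¹ * v * g)⁻¹ = g⁻¹ * (v * (g * x * g⁻¹) * v⁻¹) * g := by group
    rw [e]; exact h

theorem card_pairStab_dvd {b : G ⧸ M} (hb : b ≠ ((1 : G) : G ⧸ M)) :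
    Nat.card ↥(pairStab M ((1 : G) : G ⧸ M) b ⊓ W) ∣ 7 := by
  obtain ⟨u, hu, hu1, hu2⟩ := C.exists_swap (Ne.symm hb)
  set o : G ⧸ M := ((1 : G) : G ⧸ M)
  set D := pairStab M o b
  set X := D ⊓ W
  have huD : ∀ x ∈ D, u * x * u⁻¹ ∈ D := fun x hx => conj_mem_pairStab hu hu1 hu2 hx
  have hn : (X.subgroupOf D).Normal := by
    constructor
    rintro ⟨x, hxD⟩ hx ⟨d, hd⟩
    rw [mem_subgroupOf] at hx ⊢
    exact mem_inf.mpr ⟨mul_mem (mul_mem hd hxD) (inv_mem hd),
      (mem_normalizer_iff.mp (C.hMW (C.pairStab_le hd)) x).mp hx.2⟩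
  let f : ↥X →* ↥D ⧸ X.subgroupOf D :=
    { toFun := fun x => ((⟨u * x.1 * u⁻¹, huD x.1 x.2.1⟩ : D) : ↥D ⧸ X.subgroupOf D)
      map_one' := by
        rw [QuotientGroup.eq_one_iff, mem_subgroupOf]
        simp
      map_mul' := fun x y => by
        rw [← QuotientGroup.mk_mul]
        congr 1
        apply Subtype.ext
        simp [mul_assoc] }
  have hf : Function.Injective f := by
    rw [injective_iff_map_eq_one]
    intro x hx
    have hx' : ((⟨u * x.1 * u⁻¹, huD x.1 x.2.1⟩ : D) : ↥D ⧸ X.subgroupOf D) = 1 := hx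
    rw [QuotientGroup.eq_one_iff, mem_subgroupOf] at hx'
    by_contra hne
    have huM : u ∈ M := by
      refine C.mem_of_conj_W (x := u * x.1 * u⁻¹) hx'.2 (fun h => hne (Subtype.ext ?_)) ?_
      · exact conj_eq_one_iff.mp h
      · rw [show u⁻¹ * (u * x.1 * u⁻¹) * u = x.1 by group]; exact x.2.2
    exact hb (by
      rw [← hu1]
      show ((u * 1 : G) : G ⧸ M) = _
      rw [QuotientGroup.eq]; simpa using huM)
  have h := Subgroup.card_dvd_of_injective f hf
  have hidx : (X.subgroupOf D).index = 7 := by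
    have h' := (X.subgroupOf D).index_mul_card
    rw [Nat.card_congr (subgroupOfEquivOfLe (inf_le_left : X ≤ D)).toEquiv] at h'
    have h7 : Nat.card D = 7 * Nat.card X := C.card_pairStab_eq hb
    exact Nat.eq_of_mul_eq_mul_right Nat.card_pos (h'.trans h7)
  rwa [← Subgroup.index_eq_card, hidx] at h

theorem inf_W_eq_one {b : G ⧸ M} (hb : b ≠ ((1 : G) : G ⧸ M)) {x : G}
    (hx : x ∈ pairStab M ((1 : G) : G ⧸ M) b) (hxW : x ∈ W) : x = 1 := by
  by_contra hx1
  set o : G ⧸ M := ((1 : G) : G ⧸ M) with ho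
  have : Fact (Nat.Prime 7) := ⟨by norm_num⟩
  obtain ⟨u, hu, hu1, hu2⟩ := C.exists_swap (Ne.symm hb)
  set D := pairStab M o b with hD
  have h49 : Nat.card D = 7 ^ 2 := by
    rcases (Nat.dvd_prime (by norm_num)).mp (C.card_pairStab_dvd hb) with h | h
    · have : x ∈ (⊥ : Subgroup G) := by rw [← Subgroup.card_eq_one.mp h]; exact ⟨hx, hxW⟩
      exact absurd (mem_bot.mp this) hx1
    · rw [C.card_pairStab_eq hb, h]; rfl
  have hcomm : ∀ p ∈ D, ∀ q ∈ D, p * q = q * p := fun p hp q hq => by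
    letI := IsPGroup.commGroupOfCardEqPrimeSq (G := D) h49
    simpa using congrArg Subtype.val (mul_comm (⟨p, hp⟩ : D) ⟨q, hq⟩)
  have hux : u * x * u⁻¹ ∈ D := conj_mem_pairStab hu hu1 hu2 hx
  have huM : u ∉ M := fun h => hb (by
    rw [← hu1]
    show ((u * 1 : G) : G ⧸ M) = _
    rw [QuotientGroup.eq]; simpa using h)
  -- the diagonal element
  set d := x * (u * x * u⁻¹) with hd
  have hdD : d ∈ D := mul_mem hx hux
  have hd1 : d ≠ 1 := by
    intro h
    refine huM (C.mem_of_conj_W (x := u * x * u⁻¹) ?_ (fun e => hx1 (conj_eq_one_iff.mp e)) ?_)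
    · rw [eq_inv_of_mul_eq_one_right h]; exact inv_mem hxW
    · rw [show u⁻¹ * (u * x * u⁻¹) * u = x by group]; exact hxW
  have hud : u * d = d * u := by
    calc u * d = (u * x * u⁻¹) * ((u * u) * x) * u⁻¹ := by rw [hd]; group
      _ = (u * x * u⁻¹) * x * u⁻¹ := by rw [Basic.inv_sq_one hu, one_mul]
      _ = x * (u * x * u⁻¹) * u⁻¹ := by rw [hcomm _ hux _ hx]
      _ = d * u := by rw [← hd, Basic.inv_eq hu]
  obtain ⟨c, hc, hcu⟩ := StronglyEmbedded.existsUnique_fixed C.hM hu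
  have hco : c ≠ o := fun h => huM (by
    have hc' : u • c = c := hc
    rw [h] at hc'
    simpa [ho] using mem_stabilizer_mk.mp hc')
  have hdc : d • c = c := hcu (d • c) (show u • d • c = d • c by rw [smul_smul, hud, mul_smul, hc])
  obtain ⟨h, rfl⟩ := QuotientGroup.mk_surjective c
  have hdW : h⁻¹ * d * h ∈ W := by
    refine C.mem_W_of_commute (mem_stabilizer_mk.mp hdc) ?_ (s := h⁻¹ * u * h) ?_ ?_ ?_
    · have := Basic.orderOf_conj h⁻¹ d
      rw [inv_inv] at this
      rw [this]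
      exact odd_orderOf_of_mem (C.odd_pairStab hb) hdD
    · refine C.mem_S (mem_stabilizer_mk.mp hc) ?_
      have := Basic.orderOf_conj h⁻¹ u
      rw [inv_inv] at this
      rw [this, hu]
    · intro e
      apply Basic.ne_one hu
      calc u = h * (h⁻¹ * u * h) * h⁻¹ := by group
        _ = 1 := by rw [e]; group
    · show h⁻¹ * d * h * (h⁻¹ * u * h) = h⁻¹ * u * h * (h⁻¹ * d * h)
      calc h⁻¹ * d * h * (h⁻¹ * u * h) = h⁻¹ * (d * u) * h := by group
        _ = h⁻¹ * (u * d) * h := by rw [hud]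
        _ = _ := by group
  have hd1' : h⁻¹ * d * h ≠ 1 := fun e => hd1 (by
    calc d = h * (h⁻¹ * d * h) * h⁻¹ := by group
      _ = 1 := by rw [e]; group)
  have hDc : D ≤ pairStab M o (h : G ⧸ M) := by
    intro y hy
    refine ⟨hy.1, mem_stabilizer_mk.mpr (C.hC _ hdW hd1' (mem_centralizer_singleton_iff.mpr ?_))⟩
    calc h⁻¹ * y * h * (h⁻¹ * d * h) = h⁻¹ * (y * d) * h := by group
      _ = h⁻¹ * (d * y) * h := by rw [hcomm y hy d hdD]
      _ = _ := by group
  have heq : D = pairStab M o (h : G ⧸ M) := by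
    refine eq_of_le_of_card_ge hDc ?_
    rw [C.card_pairStab_eq hco, h49]
    have := Nat.le_of_dvd (by norm_num) (C.card_pairStab_dvd hco)
    omega
  refine C.not_normalise hco hu hc fun y hy => ?_
  have hy' : y ∈ D := by rw [heq]; exact ⟨hy.2, hy.1⟩
  have : u * y * u⁻¹ ∈ D := conj_mem_pairStab hu hu1 hu2 hy'
  rw [heq] at this
  exact ⟨this.2, this.1⟩

theorem card_pairStab_one {b : G ⧸ M} (hb : b ≠ ((1 : G) : G ⧸ M)) :
    Nat.card (pairStab M ((1 : G) : G ⧸ M) b) = 7 := by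
  have hbot : pairStab M ((1 : G) : G ⧸ M) b ⊓ W = ⊥ :=
    eq_bot_iff.mpr fun x hx => mem_bot.mpr (C.inf_W_eq_one hb hx.1 hx.2)
  rw [C.card_pairStab_eq hb, hbot, card_bot]

theorem card_pairStab {a b : G ⧸ M} (hab : a ≠ b) : Nat.card (pairStab M a b) = 7 := by
  obtain ⟨g, rfl⟩ := QuotientGroup.mk_surjective a
  have hg : g • ((1 : G) : G ⧸ M) = (g : G ⧸ M) := by
    show ((g * 1 : G) : G ⧸ M) = _
    rw [mul_one]
  rw [← hg, ← smul_inv_smul g b, card_pairStab_smul]
  exact C.card_pairStab_one fun h => hab (by rw [← hg, ← smul_inv_smul g b, h])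

/-- A two-point stabiliser fixes only two points. -/
theorem fixed_two {a b c : G ⧸ M} (hab : a ≠ b) (hc : pairStab M a b ≤ stabilizer G c) :
    c = a ∨ c = b := by
  by_contra hne
  push Not at hne
  obtain ⟨hca, hcb⟩ := hne
  set D := pairStab M a b with hD
  have h7 : Nat.card D = 7 := C.card_pairStab hab
  have hpair : ∀ p q : G ⧸ M, p ≠ q → D ≤ stabilizer G p → D ≤ stabilizer G q → pairStab M p q = D :=
    fun p q hpq hp hq =>
      (eq_of_le_of_card_ge (le_inf hp hq) (by rw [C.card_pairStab hpq, h7])).symm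
  have hnofix : ∀ v, orderOf v = 2 → (∀ y ∈ D, v * y * v⁻¹ ∈ D) → ∀ p : G ⧸ M, D ≤ stabilizer G p →
      v • p ≠ p := by
    intro v hv hvn p hp hvp
    obtain ⟨q, hq, hpq⟩ : ∃ q, D ≤ stabilizer G q ∧ p ≠ q := by
      by_cases h : p = a
      · exact ⟨b, inf_le_right, h ▸ hab⟩
      · exact ⟨a, inf_le_left, h⟩
    exact C.not_normalise hpq hv hvp (by rw [hpair p q hpq hp hq]; exact hvn)
  have hswap : ∀ p q : G ⧸ M, p ≠ q → D ≤ stabilizer G p → D ≤ stabilizer G q → ∃ v, orderOf v = 2 ∧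
      v • p = q ∧ v • q = p ∧ (∀ y ∈ D, v * y * v⁻¹ = y⁻¹) := by
    intro p q hpq hp hq
    obtain ⟨v, hv, hvp, hvq⟩ := C.exists_swap hpq
    have hvn : ∀ y ∈ D, v * y * v⁻¹ ∈ D := by
      intro y hy
      rw [← hpair p q hpq hp hq]
      exact conj_mem_pairStab hv hvp hvq (mem_inf.mpr ⟨hp hy, hq hy⟩)
    refine ⟨v, hv, hvp, hvq, fun y hy => ?_⟩
    have : Fact (Nat.Prime 7) := ⟨by norm_num⟩
    have hcomm : ∀ p ∈ D, ∀ q ∈ D, p * q = q * p := fun p hp q hq => by
      letI := isCyclic_of_prime_card (α := D) h7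
      letI := IsCyclic.commGroup (α := D)
      simpa using congrArg Subtype.val (mul_comm (⟨p, hp⟩ : D) ⟨q, hq⟩)
    set e := v * y * v⁻¹ * y with he
    have heD : e ∈ D := mul_mem (hvn y hy) hy
    have hve : v * e * v⁻¹ = e := by
      calc v * e * v⁻¹ = (v * v) * y * (v * v)⁻¹ * (v * y * v⁻¹) := by rw [he]; group
        _ = y * (v * y * v⁻¹) := by rw [Basic.inv_sq_one hv]; simp
        _ = e := hcomm _ hy _ (hvn y hy)
    by_cases he1 : e = 1
    · exact eq_inv_of_mul_eq_one_left he1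
    · exfalso
      have hDe : D = zpowers e := by
        refine (eq_of_le_of_card_ge (zpowers_le.mpr heD) ?_).symm
        rw [h7, Nat.card_zpowers]
        have h := orderOf_dvd_natCard (⟨e, heD⟩ : D)
        rw [Subgroup.orderOf_mk, h7] at h
        rcases (Nat.dvd_prime (by norm_num)).mp h with h | h
        · exact absurd (orderOf_eq_one_iff.mp h) he1
        · omega
      obtain ⟨p₀, hp₀, hp₀u⟩ := StronglyEmbedded.existsUnique_fixed C.hM hv
      have hep : e • p₀ = p₀ := hp₀u (e • p₀) (by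
        show v • e • p₀ = e • p₀; rw [smul_smul, mul_inv_eq_iff_eq_mul.mp hve, mul_smul, hp₀])
      exact hnofix v hv hvn p₀ (by rw [hDe]; exact zpowers_le.mpr (mem_stabilizer_iff.mpr hep)) hp₀
  have hDa : D ≤ stabilizer G a := inf_le_left
  have hDb : D ≤ stabilizer G b := inf_le_right
  obtain ⟨v, hv, hva, hvb, hvi⟩ := hswap a b hab hDa hDb
  obtain ⟨v1, hv1, hv1a, -, hv1i⟩ := hswap a c (Ne.symm hca) hDa hc
  obtain ⟨v2, hv2, hv2c, -, hv2i⟩ := hswap c b hcb hc hDb
  set w := (v2 * v1)⁻¹ * v with hw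
  have hwa : w • a = a := by
    rw [hw, mul_smul, hva, inv_smul_eq_iff, mul_smul, hv1a, hv2c]
  have hwi : ∀ y ∈ D, w * y * w⁻¹ = y⁻¹ := by
    intro y hy
    calc w * y * w⁻¹ = v1⁻¹ * (v2⁻¹ * (v * y * v⁻¹) * v2⁻¹⁻¹) * v1⁻¹⁻¹ := by rw [hw]; group
      _ = v1⁻¹ * (v2⁻¹ * y⁻¹ * v2⁻¹⁻¹) * v1⁻¹⁻¹ := by rw [hvi y hy]
      _ = y⁻¹ := by
        rw [Basic.inv_eq hv2, hv2i y⁻¹ (inv_mem hy), inv_inv, Basic.inv_eq hv1, hv1i y hy]
  have hpow : ∀ n : ℕ, ∀ y ∈ D, w ^ n * y * (w ^ n)⁻¹ = if Even n then y else y⁻¹ := by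
    intro n
    induction n with
    | zero => simp
    | succ n ih =>
      intro y hy
      rw [show w ^ (n + 1) * y * (w ^ (n + 1))⁻¹ = w * (w ^ n * y * (w ^ n)⁻¹) * w⁻¹ by
        rw [pow_succ']; group, ih y hy]
      by_cases he : Even n
      · rw [if_pos he, if_neg (by simpa [Nat.even_add_one] using he), hwi y hy]
      · rw [if_neg he, if_pos (by simpa [Nat.even_add_one] using he), hwi _ (inv_mem hy), inv_inv]
  obtain ⟨y, hy, hy1⟩ : ∃ y ∈ D, y ≠ 1 := by
    have : D ≠ ⊥ := fun h => by rw [h, card_bot] at h7; omega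
    exact D.ne_bot_iff_exists_ne_one.mp this |>.elim fun s hs => ⟨s, s.2, by simpa using hs⟩
  have heven : Even (orderOf w) := by
    by_contra hodd
    have := hpow (orderOf w) y hy
    rw [pow_orderOf_eq_one, if_neg hodd] at this
    simp only [one_mul, inv_one, mul_one] at this
    have h2 : orderOf y ∣ 2 := orderOf_dvd_of_pow_eq_one (by rw [pow_two]; exact mul_eq_one_iff_eq_inv.mpr this)
    have h := orderOf_dvd_natCard (⟨y, hy⟩ : D)
    rw [Subgroup.orderOf_mk, h7] at h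
    have := Nat.dvd_gcd h2 h
    exact hy1 (orderOf_eq_one_iff.mp (Nat.dvd_one.mp this))
  have hz : orderOf (w ^ (orderOf w / 2)) = 2 :=
    orderOf_pow_orderOf_div (orderOf_pos w).ne' (even_iff_two_dvd.mp heven)
  refine hnofix _ hz (fun z hzD => ?_) a hDa ?_
  · rw [hpow _ z hzD]
    split_ifs
    · exact hzD
    · exact inv_mem hzD
  · exact mem_stabilizer_iff.mp (pow_mem (mem_stabilizer_iff.mpr hwa : w ∈ stabilizer G a) _)

theorem not_dvd_w {b : G ⧸ M} (hb : b ≠ ((1 : G) : G ⧸ M)) : ¬ 7 ∣ Nat.card W := by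
  intro h
  have : Fact (Nat.Prime 7) := ⟨by norm_num⟩
  set o : G ⧸ M := ((1 : G) : G ⧸ M) with ho
  set D := pairStab M o b with hD
  obtain ⟨K, hK, hDK⟩ := Sylow.exists_subgroup_card_pow_succ (G := M) (p := 7) (n := 1)
    (H := D.subgroupOf M)
    (by rw [C.hcard]; exact Dvd.dvd.trans (by norm_num : (7 : ℕ) ^ (1 + 1) ∣ 7 * 7)
          (Nat.mul_dvd_mul (by norm_num) h))
    (by rw [Nat.card_congr (subgroupOfEquivOfLe C.pairStab_le).toEquiv, pow_one]
        exact C.card_pairStab_one hb)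
  have hle : K ≤ D.subgroupOf M := by
    intro k hk
    rw [mem_subgroupOf]
    letI := IsPGroup.commGroupOfCardEqPrimeSq (G := K) hK
    have hkd : ∀ y, (hy : y ∈ D) → (k : G) * y = y * (k : G) := fun y hy => by
      simpa using congrArg (fun z : K => ((z : M) : G))
        (mul_comm (⟨k, hk⟩ : K) ⟨⟨y, C.pairStab_le hy⟩, hDK (mem_subgroupOf.mpr hy)⟩)
    have hko : (k : G) • o = o := mem_stabilizer_mk.mpr (by simpa using k.2)
    refine ⟨hko, ?_⟩
    have hfix : pairStab M o b ≤ stabilizer G ((k : G) • b) := fun y hy => by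
      rw [mem_stabilizer_iff, smul_smul, ← hkd y hy, mul_smul, mem_stabilizer_iff.mp hy.2]
    rcases C.fixed_two (Ne.symm hb) hfix with e | e
    · exact absurd (smul_left_cancel _ (e.trans hko.symm)) hb
    · exact e
  have h' := Subgroup.card_le_of_le hle
  rw [hK, Nat.card_congr (subgroupOfEquivOfLe C.pairStab_le).toEquiv, C.card_pairStab_one hb] at h'
  norm_num at h'

theorem exists_move {b b' : G ⧸ M} (hb : b ≠ ((1 : G) : G ⧸ M)) (hb' : b' ≠ ((1 : G) : G ⧸ M)) :
    ∃ m ∈ M, m • b = b' := by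
  have : Fact (Nat.Prime 7) := ⟨by norm_num⟩
  have hfac : (Nat.card M).factorization 7 = 1 := by
    rw [C.hcard, show (56 : ℕ) = 7 * 8 by norm_num, mul_assoc,
      Nat.factorization_mul (by norm_num) (by have := Nat.card_pos (α := W); omega), Finsupp.add_apply,
      Nat.Prime.factorization_self (by norm_num), Nat.factorization_eq_zero_of_not_dvd]
    intro h
    exact C.not_dvd_w hb ((Nat.Coprime.dvd_mul_left (by norm_num)).mp h)
  have hcardP : ∀ c : G ⧸ M, c ≠ ((1 : G) : G ⧸ M) →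
      Nat.card ((pairStab M ((1 : G) : G ⧸ M) c).subgroupOf M) = 7 ^ (Nat.card M).factorization 7 :=
    fun c hc => by
      rw [hfac, pow_one, Nat.card_congr (subgroupOfEquivOfLe C.pairStab_le).toEquiv, C.card_pairStab_one hc]
  let P : Sylow 7 M := Sylow.ofCard _ (hcardP b hb)
  let Q : Sylow 7 M := Sylow.ofCard _ (hcardP b' hb')
  obtain ⟨m, hm⟩ := MulAction.exists_smul_eq M P Q
  have hmo : (m : G) • ((1 : G) : G ⧸ M) = ((1 : G) : G ⧸ M) := mem_stabilizer_mk.mpr (by simpa using m.2)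
  refine ⟨m, m.2, ?_⟩
  have hfix : pairStab M ((1 : G) : G ⧸ M) b' ≤ stabilizer G ((m : G) • b) := fun y hy => by
    have hyQ : (⟨y, C.pairStab_le hy⟩ : M) ∈ ((Q : Sylow 7 M) : Subgroup M) := hy
    rw [← hm, Sylow.coe_subgroup_smul, Subgroup.mem_pointwise_smul_iff_inv_smul_mem] at hyQ
    have hzb : ((m : G)⁻¹ * y * m) • b = b := by
      have := (mem_pairStab.mp (mem_subgroupOf.mp hyQ)).2
      simpa [MulAut.smul_def, mul_assoc] using this
    rw [mem_stabilizer_iff]
    calc y • (m : G) • b = (m : G) • ((m : G)⁻¹ * y * m) • b := by simp [mul_smul]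
      _ = (m : G) • b := by rw [hzb]
  rcases C.fixed_two (Ne.symm hb') hfix with e | e
  · exact absurd (smul_left_cancel _ (e.trans hmo.symm)) hb
  · exact e

end Ctx

theorem false_of_centralized [IsSimpleGroup G] (h9 : ¬ 9 ∣ Nat.card G) {M S W : Subgroup G}
    (hM : Cfsg.IsStronglyEmbedded M) (hS8 : Nat.card S = 8) (hSsq : ∀ s ∈ S, s * s = 1) (hSM : S ≤ M)
    (hMS : M ≤ normalizer (S : Set G)) (hWM : W ≤ M) (hMW : M ≤ normalizer (W : Set G))
    (hWodd : Odd (Nat.card W)) (hWS : W ≤ centralizer (S : Set G)) (hcard : Nat.card M = 56 * Nat.card W)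
    (hC : ∀ x ∈ W, x ≠ 1 → centralizer ({x} : Set G) ≤ M) : False := by
  have C : Ctx M S W := ⟨hM, hS8, hSsq, hSM, hMS, hWM, hMW, hWodd, hWS, hcard, hC⟩
  classical
  have : Fintype (G ⧸ M) := Fintype.ofFinite _
  set o : G ⧸ M := ((1 : G) : G ⧸ M) with ho
  have hstab : stabilizer G o = M := by
    ext x; rw [ho, mem_stabilizer_mk]; simp
  obtain ⟨u, huM, hu⟩ := StronglyEmbedded.exists_involution_notMem hM
  have hb₀ : (u : G ⧸ M) ≠ o := fun h => huM (by rw [ho, QuotientGroup.eq] at h; simpa using h)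
  -- the degree
  have hdeg : Fintype.card (G ⧸ M) = 1 + 8 * Nat.card W := by
    have horb : orbit M (u : G ⧸ M) = {o}ᶜ := by
      ext c
      rw [Set.mem_compl_singleton_iff, mem_orbit_iff]
      refine ⟨?_, fun hc => ?_⟩
      · rintro ⟨m, rfl⟩ hc
        have hm : (m : G) • o = o := mem_stabilizer_iff.mp (hstab.ge m.2)
        change (m : G) • (u : G ⧸ M) = o at hc
        exact hb₀ (smul_left_cancel _ (hc.trans hm.symm))
      · obtain ⟨m, hm, h⟩ := C.exists_move hb₀ hc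
        exact ⟨⟨m, hm⟩, h⟩
    have hst : stabilizer M (u : G ⧸ M) = (stabilizer G (u : G ⧸ M)).subgroupOf M := by
      ext x
      rw [mem_subgroupOf, mem_stabilizer_iff, mem_stabilizer_iff]
      exact Iff.rfl
    have hsc : Nat.card (stabilizer M (u : G ⧸ M)) = 7 := by
      rw [hst, ← Subgroup.inf_subgroupOf_left, Nat.card_congr (subgroupOfEquivOfLe inf_le_left).toEquiv]
      have h : M ⊓ stabilizer G (u : G ⧸ M) = pairStab M o (u : G ⧸ M) := by rw [pairStab, hstab]
      rw [h, C.card_pairStab_one hb₀]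
    have hi := index_stabilizer M (u : G ⧸ M)
    have hmul := (stabilizer M (u : G ⧸ M)).index_mul_card
    rw [hsc, hcard, hi, horb, Set.ncard_compl, Set.ncard_singleton, Nat.card_eq_fintype_card] at hmul
    have : 0 < Fintype.card (G ⧸ M) := Fintype.card_pos
    omega
  have h3 : ∀ a b : G ⧸ M, ∃ c, c ≠ a ∧ c ≠ b := by
    intro a b
    by_contra h
    push Not at h
    have : (Finset.univ : Finset (G ⧸ M)) ⊆ {a, b} := fun c _ => by
      rw [Finset.mem_insert, Finset.mem_singleton]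
      by_cases hca : c = a
      · exact .inl hca
      · exact .inr (h c hca)
    have h2 := (Finset.card_le_card this).trans Finset.card_le_two
    rw [Finset.card_univ, hdeg] at h2
    have : 0 < Nat.card W := Nat.card_pos
    omega
  -- double transitivity
  have h2t : ∀ a b : G ⧸ M, a ≠ b → ∃ g : G, g • a = o ∧ g • b = (u : G ⧸ M) := by
    intro a b hab
    obtain ⟨k, rfl⟩ := QuotientGroup.mk_surjective a
    have hka : k⁻¹ • (k : G ⧸ M) = o := by
      show ((k⁻¹ * k : G) : G ⧸ M) = o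
      rw [inv_mul_cancel]
    obtain ⟨m, hm, hmb⟩ := C.exists_move (b := k⁻¹ • b) (fun h => hab (smul_left_cancel k⁻¹ (hka.trans h.symm))) hb₀
    exact ⟨m * k⁻¹, by rw [mul_smul, hka]; exact mem_stabilizer_iff.mp (hstab.ge hm),
      by rw [mul_smul, hmb]⟩
  have hthree : ∀ g : G, ∀ a b c : G ⧸ M, a ≠ b → b ≠ c → a ≠ c → g • a = a → g • b = b → g • c = c →
      g = 1 := by
    intro g a b c hab hbc hac ha hb hc
    by_contra hg
    have hmem : g ∈ pairStab M a b := ⟨ha, hb⟩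
    have h7 := C.card_pairStab hab
    have heq : zpowers g = pairStab M a b := by
      refine eq_of_le_of_card_ge (zpowers_le.mpr hmem) ?_
      rw [h7, Nat.card_zpowers]
      have h := orderOf_dvd_natCard (⟨g, hmem⟩ : pairStab M a b)
      rw [Subgroup.orderOf_mk, h7] at h
      rcases (Nat.dvd_prime (by norm_num)).mp h with h | h
      · exact absurd (orderOf_eq_one_iff.mp h) hg
      · omega
    rcases C.fixed_two hab (c := c) (heq ▸ zpowers_le.mpr (mem_stabilizer_iff.mpr hc)) with e | e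
    · exact hac e.symm
    · exact hbc e.symm
  have hZ : Cfsg.IsZassenhausGroup G (G ⧸ M) := by
    refine ⟨⟨fun {g k} h => ?_⟩, ?_, hthree, ?_, ?_⟩
    · obtain ⟨c, hc1, hc2⟩ := h3 o (u : G ⧸ M)
      have : ∀ a : G ⧸ M, (k⁻¹ * g) • a = a := fun a => by rw [mul_smul, h a, inv_smul_smul]
      have := hthree _ o (u : G ⧸ M) c hb₀.symm hc2.symm hc1.symm (this _) (this _) (this _)
      exact (inv_mul_eq_one.mp this).symm
    · rw [is_two_pretransitive_iff]
      intro a b c d hab hcd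
      obtain ⟨g, hga, hgb⟩ := h2t a b hab
      obtain ⟨k, hkc, hkd⟩ := h2t c d hcd
      exact ⟨k⁻¹ * g, by rw [mul_smul, hga, ← hkc, inv_smul_smul],
        by rw [mul_smul, hgb, ← hkd, inv_smul_smul]⟩
    · have h7 := C.card_pairStab_one hb₀
      have : pairStab M o (u : G ⧸ M) ≠ ⊥ := fun h => by rw [h, card_bot] at h7; omega
      obtain ⟨⟨g, hg⟩, hg1⟩ := (pairStab M o (u : G ⧸ M)).ne_bot_iff_exists_ne_one.mp this
      exact ⟨g, fun h => hg1 (Subtype.ext h), o, (u : G ⧸ M), hb₀.symm, hg.1, hg.2⟩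
    · intro N hN hNt
      refine ⟨o, ?_⟩
      rcases hN.eq_bot_or_eq_top with rfl | rfl
      · exfalso
        obtain ⟨⟨x, hx⟩, hxu⟩ := hNt.exists_smul_eq o (u : G ⧸ M)
        change x • o = (u : G ⧸ M) at hxu
        rw [mem_bot.mp hx, one_smul] at hxu
        exact hb₀ hxu.symm
      · intro h
        obtain ⟨s, hs, hs1⟩ := C.exists_ne_one
        have : (⟨s, mem_top s⟩ : (⊤ : Subgroup G)) ∈ stabilizer (⊤ : Subgroup G) o := by
          rw [mem_stabilizer_iff]
          show s • o = o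
          exact mem_stabilizer_iff.mp (hstab.ge (hSM hs))
        replace this := h ▸ this
        rw [mem_bot] at this
        exact hs1 (congrArg Subtype.val this)
  have hpp := S0346.result hZ
  rw [hdeg, Nat.add_sub_cancel_left] at hpp
  obtain ⟨p, k, hp, hk, hpk⟩ := (isPrimePow_nat_iff _).mp hpp
  have hp2 : p = 2 := by
    have : 2 ∣ p ^ k := hpk ▸ (Dvd.intro (4 * Nat.card W) (by ring))
    exact ((Nat.prime_dvd_prime_iff_eq Nat.prime_two hp).mp (Nat.prime_two.dvd_of_dvd_pow this)).symm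
  subst hp2
  have hw1 : Nat.card W = 1 := by
    have hco : Nat.Coprime (Nat.card W) (2 ^ k) :=
      Nat.Coprime.pow_right k (Nat.coprime_two_right.mpr hWodd)
    exact hco.eq_one_of_dvd (hpk ▸ dvd_mul_left _ _)
  apply h9
  rw [← M.index_mul_card, Subgroup.index_eq_card, Nat.card_eq_fintype_card, hdeg, hw1]
  exact dvd_mul_right _ _

end Cfsg.Agent.Hall.Numbers.Seven
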