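import Cfsg.Agent.Lib.Hall.NumbersSevenGood
import Cfsg.Agent.Lib.Hall.NumbersSevenEnd

/-!
The Sylow 2-subgroup centralises the signalizer, so there is no minimal counterexample: groups
satisfying the hypotheses are solvable.
-/

set_option autoImplicit false

namespace Cfsg.Agent.Hall.Numbers.Seven

open Subgroup

universe u

variable {G : Type u} [Group G] [Finite G] [IsSimpleGroup G] {S : Subgroup G}

theorem Setup.mem_signalizer_of_odd (h : Setup S) {x : G} (hx : x ∈ signalizer S ⊔ S)
    (hodd : Odd (orderOf x)) : x ∈ signalizer S := by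
  set W := signalizer S
  set M := maxSub S
  rw [← SetLike.mem_coe, coe_mul_of_right_le_normalizer_left W S
    (le_normalizer.trans h.normalizer_le_normalizer_signalizer)] at hx
  obtain ⟨w, hw, s, hs, rfl⟩ := hx
  have hWn : (W.subgroupOf M).Normal := normal_subgroupOf_of_le_normalizer h.le_normalizer_signalizer
  set f := QuotientGroup.mk' (W.subgroupOf M)
  have hsM : s ∈ M := h.le_maxSub hs
  have hwM : w ∈ M := signalizer_le S hw
  have hfw : f ⟨w, hwM⟩ = 1 := (QuotientGroup.eq_one_iff _).2 (mem_subgroupOf.2 hw)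
  have h1 : orderOf (f ⟨s, hsM⟩) ∣ orderOf (w * s) := by
    rw [show f ⟨s, hsM⟩ = f ⟨w * s, mul_mem hwM hsM⟩ from
      (show f ⟨w * s, mul_mem hwM hsM⟩ = f ⟨w, hwM⟩ * f ⟨s, hsM⟩ from map_mul f ⟨w, hwM⟩ ⟨s, hsM⟩)
        |>.trans (by rw [hfw, one_mul]) |>.symm]
    exact (orderOf_map_dvd f _).trans (Subgroup.orderOf_coe _).symm.dvd
  have h2 : orderOf (f ⟨s, hsM⟩) ∣ 2 := orderOf_dvd_of_pow_eq_one (by
    rw [← map_pow, show (⟨s, hsM⟩ : M) ^ 2 = 1 from
      Subtype.ext (by rw [SubgroupClass.coe_pow, pow_two, h.sq s hs]; rfl), map_one])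
  have hd := Nat.dvd_gcd h1 h2
  rw [(Nat.coprime_two_right.2 hodd).gcd_eq_one, Nat.dvd_one, orderOf_eq_one_iff] at hd
  exact mul_mem hw (mem_subgroupOf.1 ((QuotientGroup.eq_one_iff _).1 hd))

/-- The fixed points in an invariant Sylow subgroup form a Sylow subgroup of `theta`. -/
theorem Setup.card_inf_centralizer (h : Setup S) {p : ℕ} [hp : Fact p.Prime] {R : Subgroup G}
    (Q : Sylow p (signalizer S))
    (hQR : (Q : Subgroup (signalizer S)).map (signalizer S).subtype = R)
    (hRS : S ≤ normalizer (R : Set G)) {t : G} (ht : t ∈ S) (ht1 : t ≠ 1) :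
    Nat.card ↥(R ⊓ centralizer ({t} : Set G)) = p ^ (Nat.card (theta t)).factorization p := by
  have hRW : R ≤ (signalizer S) := hQR ▸ map_subtype_le _
  have hRp : IsPGroup p R := hQR ▸ Q.2.map _
  have hθW : theta t ≤ (signalizer S) := h.theta_le_signalizer ht ht1
  obtain ⟨j, hj⟩ := (hRp.to_le (inf_le_left : R ⊓ centralizer ({t} : Set G) ≤ R)).exists_card_eq
  have hle : R ⊓ centralizer ({t} : Set G) ≤ theta t := fun x hx =>
    (h.mem_theta_iff ht ht1).2 ⟨hx.2, h.signalizer_spec.1.of_dvd_nat (orderOf_dvd_natCard _ (hRW hx.1))⟩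
  refine le_antisymm ?_ ?_
  · rw [hj]
    refine Nat.pow_le_pow_right hp.out.pos ((hp.out.pow_dvd_iff_le_factorization Nat.card_pos.ne').1 ?_)
    exact hj ▸ card_dvd_of_le hle
  set A := zpowers t with hA
  have hAS : A ≤ S := zpowers_le.2 ht
  have hcop : (Nat.card A).Coprime (Nat.card (signalizer S)) := by
    rw [hA, Nat.card_zpowers, h.orderOf_two ht ht1]
    exact Nat.coprime_two_left.2 h.signalizer_spec.1
  have hAW : A ≤ normalizer ((signalizer S) : Set G) :=
    hAS.trans (le_normalizer.trans h.normalizer_le_normalizer_signalizer)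
  have := h.solvable _ h.maxSub_ne_top
  have hsolv : Group.IsSolvable A ∨ Group.IsSolvable (signalizer S) :=
    Or.inr (Group.isSolvable_of_isSolvable_injective (inclusion_injective (signalizer_le S)))
  obtain ⟨U⟩ := (inferInstance : Nonempty (Sylow p (theta t)))
  set UG := (U : Subgroup (theta t)).map (theta t).subtype with hUG
  have hUθ : UG ≤ theta t := map_subtype_le _
  have hUA : A ≤ normalizer (UG : Set G) := by
    refine zpowers_le.2 (centralizer_le_normalizer _ (mem_centralizer_iff.2 fun x hx => ?_))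
    exact mem_centralizer_singleton_iff.1 (theta_le t (hUθ hx))
  obtain ⟨Q1, hUQ1, hQ1⟩ := Coprime.exists_invariant_sylow_ge hAW hcop hsolv (hUθ.trans hθW)
    (U.2.map _) hUA
  obtain ⟨c, hc, hcQ⟩ := Coprime.exists_centralizer_conj_sylow hAW hcop hsolv Q1 Q hQ1
    (hQR ▸ hAS.trans hRS)
  have hct : t * (c : G) = (c : G) * t := mem_centralizer_iff.1 hc t (mem_zpowers t)
  have hUR : UG.map (MulAut.conj (c : G)).toMonoidHom ≤ R ⊓ centralizer ({t} : Set G) := by
    rintro _ ⟨x, hx, rfl⟩
    refine mem_inf.2 ⟨?_, mem_centralizer_singleton_iff.2 ?_⟩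
    · rw [← hQR, ← hcQ]
      obtain ⟨q, hq, hqx⟩ := hUQ1 hx
      refine ⟨c * q * c⁻¹, ?_, by show (c : G) * q * (c : G)⁻¹ = _; rw [show (q : G) = x from hqx]; rfl⟩
      show _ ∈ ((MulAut.conj c • Q1 : Sylow p (signalizer S)) : Subgroup (signalizer S))
      rw [Sylow.pointwise_smul_def]
      exact ⟨q, hq, rfl⟩
    · have hxt : x * t = t * x := mem_centralizer_singleton_iff.1 (theta_le t (hUθ hx))
      show (c : G) * x * (c : G)⁻¹ * t = t * ((c : G) * x * (c : G)⁻¹)
      exact (((show Commute (c : G) t from hct.symm).mul_left hxt).mul_left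
        (show Commute (c : G) t from hct.symm).inv_left).eq
  refine le_trans (le_of_eq ?_) (card_le_of_le hUR)
  rw [card_map_of_injective (MulAut.conj _).injective, hUG,
    card_map_of_injective (subtype_injective _), U.card_eq_multiplicity]

theorem Setup.card_theta_le (h : Setup S) {t t' : G} (ht : t ∈ S) (ht1 : t ≠ 1) (ht' : t' ∈ S)
    (ht1' : t' ≠ 1) : Nat.card (theta t) ≤ Nat.card (theta t') := by
  obtain ⟨n, hn, rfl⟩ := h.trans t ht ht1 t' ht' ht1'
  rw [← card_map_of_injective (K := theta t) (f := (MulAut.conj n).toMonoidHom) (MulAut.conj n).injective]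
  refine card_le_of_le ?_
  rintro _ ⟨x, hx, rfl⟩
  rw [SetLike.mem_coe, h.mem_theta_iff ht ht1] at hx
  show n * x * n⁻¹ ∈ theta (n * t * n⁻¹)
  rw [h.mem_theta_iff ht' ht1', mem_centralizer_singleton_iff, Involutions.Basic.orderOf_conj]
  exact ⟨(show Commute x t from mem_centralizer_singleton_iff.1 hx.1).map
    (MulAut.conj n).toMonoidHom |>.eq, hx.2⟩

/-- If every involution of `S` centralises a subgroup of index at most `p` of `R`, then `S`
centralises `R`. -/
theorem Setup.le_centralizer_of_index_le (h : Setup S) {p : ℕ} [hp : Fact p.Prime] (hp2 : p ≠ 2)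
    {R : Subgroup G} (hRp : IsPGroup p R) (hRS : S ≤ normalizer (R : Set G))
    (heq : ∀ t ∈ S, t ≠ 1 → ∀ t' ∈ S, t' ≠ 1 →
      ((centralizer ({t} : Set G)).subgroupOf R).index = ((centralizer ({t'} : Set G)).subgroupOf R).index)
    {t0 : G} (ht0 : t0 ∈ S) (ht01 : t0 ≠ 1)
    (hle : ((centralizer ({t0} : Set G)).subgroupOf R).index ≤ p) : R ≤ centralizer (S : Set G) := by
  obtain ⟨k, hk⟩ := hRp.index ((centralizer ({t0} : Set G)).subgroupOf R)
  rcases k with _ | k
  · rw [pow_zero] at hk
    refine fun r hr => mem_centralizer_iff.2 fun s hs => ?_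
    by_cases hs1 : s = 1
    · simp [hs1]
    have htop : (centralizer ({s} : Set G)).subgroupOf R = ⊤ :=
      index_eq_one.1 ((heq s hs hs1 t0 ht0 ht01).trans hk)
    exact (mem_centralizer_singleton_iff.1
      (mem_subgroupOf.1 (htop.ge (mem_top (⟨r, hr⟩ : R))))).symm
  exfalso
  have hidx : ∀ t ∈ S, t ≠ 1 → ((centralizer ({t} : Set G)).subgroupOf R).index = p := by
    intro t ht ht1
    rw [heq t ht ht1 t0 ht0 ht01]
    refine le_antisymm hle ?_
    rw [hk]
    exact Nat.le_self_pow (Nat.succ_ne_zero k) p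
  have hnormal : ∀ t ∈ S, t ≠ 1 → ((centralizer ({t} : Set G)).subgroupOf R).Normal := by
    intro t ht ht1
    refine normal_of_index_eq_minFac_card ?_
    rw [hidx t ht ht1]
    obtain ⟨j, hj⟩ := hRp.exists_card_eq
    have hj0 : j ≠ 0 := fun h0 => by
      have h1 := index_dvd_card ((centralizer ({t} : Set G)).subgroupOf R)
      rw [hidx t ht ht1, hj, h0, pow_zero, Nat.dvd_one] at h1
      exact hp.out.ne_one h1
    rw [hj, hp.out.pow_minFac hj0]
  -- the automorphism of `R` given by an element of `S`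
  let σ : S → R → R := fun s r => ⟨(s : G) * r * (s : G)⁻¹, (mem_normalizer_iff.1 (hRS s.2) r).1 r.2⟩
  have hσ : ∀ (s : S) (a b : R), σ s (a * b) = σ s a * σ s b := fun s a b =>
    Subtype.ext (conj_mul).symm
  have hσσ : ∀ (s s' : S) (r : R), σ s (σ s' r) = σ (s * s') r := fun s s' r =>
    Subtype.ext (show (s : G) * ((s' : G) * r * (s' : G)⁻¹) * (s : G)⁻¹ =
      (s : G) * s' * r * ((s : G) * s')⁻¹ by group)
  have hRt : ∀ (t : S) (r : R), r ∈ (centralizer ({(t : G)} : Set G)).subgroupOf R ↔ σ t r = r :=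
    fun t r => by
      rw [mem_subgroupOf, mem_centralizer_singleton_iff]
      constructor
      · exact fun h1 => Subtype.ext (show (t : G) * r * (t : G)⁻¹ = r by
          rw [← h1, mul_inv_cancel_right])
      · exact fun h1 => (mul_inv_eq_iff_eq_mul.1
          (show (t : G) * r * (t : G)⁻¹ = r from congrArg Subtype.val h1)).symm
  -- each involution inverts modulo its fixed points
  have hinv : ∀ t : S, (t : G) ≠ 1 → ∀ r : R,
      r * σ t r ∈ (centralizer ({(t : G)} : Set G)).subgroupOf R := by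
    intro t ht1 r
    set C := (centralizer ({(t : G)} : Set G)).subgroupOf R with hC
    have := hnormal t t.2 ht1
    set f := QuotientGroup.mk' C
    have hcyc : IsCyclic (R ⧸ C) :=
      isCyclic_of_prime_card (p := p) (by rw [← index_eq_card]; exact hidx t t.2 ht1)
    have hcomm : ∀ a b : R ⧸ C, a * b = b * a := fun a b => IsCyclic.commGroup.mul_comm a b
    set c := r * σ t r with hc
    have htt : σ t (σ t r) = r := by
      refine Subtype.ext ?_
      show (t : G) * ((t : G) * r * (t : G)⁻¹) * (t : G)⁻¹ = r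
      calc (t : G) * ((t : G) * r * (t : G)⁻¹) * (t : G)⁻¹
          = ((t : G) * t) * r * ((t : G) * t)⁻¹ := by group
        _ = r := by rw [h.sq _ t.2]; group
    have hfix : σ t c * c⁻¹ ∈ C := by
      refine (QuotientGroup.eq_one_iff _).1 (show f (σ t c * c⁻¹) = 1 from ?_)
      rw [map_mul, map_inv, hc, hσ, htt, map_mul, map_mul, hcomm (f (σ t r)) (f r), mul_inv_cancel]
    set CG := R ⊓ centralizer ({(t : G)} : Set G) with hCG
    have hAS : zpowers (t : G) ≤ S := zpowers_le.2 t.2
    have hcop : (Nat.card (zpowers (t : G))).Coprime (Nat.card R) := by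
      obtain ⟨j, hj⟩ := hRp.exists_card_eq
      rw [Nat.card_zpowers, h.orderOf_two t.2 ht1, hj]
      exact ((Nat.coprime_primes Nat.prime_two hp.out).2 hp2.symm).pow_right j
    have hRC : R ≤ normalizer (CG : Set G) := by
      refine (normal_subgroupOf_iff_le_normalizer inf_le_left).1 ?_
      rw [inf_subgroupOf_left]; exact this
    have hAC : zpowers (t : G) ≤ normalizer (CG : Set G) :=
      zpowers_le.2 (centralizer_le_normalizer _ (mem_centralizer_iff.2 fun x hx =>
        mem_centralizer_singleton_iff.1 hx.2))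
    obtain ⟨c', hc', hcc⟩ := Coprime.exists_fixed_mod (A := zpowers (t : G)) (N := CG) hcop
      (Or.inl (inferInstance)) inf_le_left hRC hAC c.2 (fun a ha => by
        obtain ⟨i, rfl⟩ := mem_zpowers_iff.1 ha
        rcases Int.even_or_odd i with ⟨j, rfl⟩ | ⟨j, rfl⟩
        · rw [← two_mul, zpow_mul, zpow_two, h.sq _ t.2, one_zpow]
          simp [one_mem]
        · rw [zpow_add, zpow_one, zpow_mul, zpow_two, h.sq _ t.2, one_zpow, one_mul]
          exact ⟨(σ t c * c⁻¹).2, mem_subgroupOf.1 hfix⟩)
    have hc'C : c' ∈ CG := mem_inf.2 ⟨hc'.1, mem_centralizer_singleton_iff.2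
      (mem_centralizer_iff.1 hc'.2 (t : G) (mem_zpowers _)).symm⟩
    have h1 := mul_mem hc'C (inv_mem hcc)
    rw [mul_inv_rev, inv_inv, mul_inv_cancel_left] at h1
    exact mem_subgroupOf.2 h1.2
  -- an element fixing something outside acts trivially modulo
  have htriv : ∀ t t' : S, (t : G) ≠ 1 →
      ¬ (centralizer ({(t' : G)} : Set G)).subgroupOf R ≤ (centralizer ({(t : G)} : Set G)).subgroupOf R →
      ∀ r : R, σ t' r * r⁻¹ ∈ (centralizer ({(t : G)} : Set G)).subgroupOf R := by
    intro t t' ht1 hnle r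
    set C := (centralizer ({(t : G)} : Set G)).subgroupOf R with hC
    have := hnormal t t.2 ht1
    obtain ⟨b, hb', hbC⟩ := SetLike.not_le_iff_exists.1 hnle
    have hb : σ t' b = b := (hRt t' b).1 hb'
    set f := QuotientGroup.mk' C
    have hgen : zpowers (f b) = ⊤ := by
      have := hidx t t.2 ht1
      refine zpowers_eq_top_of_prime_card (p := p) (by rw [← index_eq_card]; exact this) ?_
      exact fun h1 => hbC ((QuotientGroup.eq_one_iff b).1 h1)
    obtain ⟨i, hi⟩ := mem_zpowers_iff.1 (hgen.ge (mem_top (f r)))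
    set a := r * (b ^ i)⁻¹ with ha
    have haC : a ∈ C := (QuotientGroup.eq_one_iff a).1 (show f a = 1 by
      rw [ha, map_mul, map_inv, map_zpow, hi, mul_inv_cancel])
    have hσa : σ t' a ∈ C := by
      refine (hRt t (σ t' a)).2 ?_
      rw [hσσ, show t * t' = t' * t from Subtype.ext (h.mul_comm' t.2 t'.2), ← hσσ, (hRt t a).1 haC]
    have hbi : σ t' (b ^ i) = b ^ i := Subtype.ext (show (t' : G) * ((b ^ i : R) : G) * (t' : G)⁻¹ = _ by
      rw [SubgroupClass.coe_zpow, ← conj_zpow,
        show (t' : G) * b * (t' : G)⁻¹ = b from congrArg Subtype.val hb])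
    have hr : r = a * b ^ i := by rw [ha, inv_mul_cancel_right]
    rw [hr, hσ, hbi, mul_inv_rev, mul_assoc, mul_inv_cancel_left]
    exact mul_mem hσa (inv_mem haC)
  -- odd order
  have hroot : ∀ (C : Subgroup R) (r : R), r * r ∈ C → r ∈ C := by
    intro C r hr
    obtain ⟨j, hj⟩ := hRp r
    obtain ⟨m, hm⟩ := (hp.out.odd_of_ne_two hp2).pow (n := j)
    have h1 : (r * r) ^ (m + 1) = r := by
      rw [← pow_two, ← pow_mul, show 2 * (m + 1) = p ^ j + 1 by omega, pow_succ, hj, one_mul]
    exact h1 ▸ pow_mem hr _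
  -- two different fixed subgroups give a contradiction
  have hsame : ∀ t t' : S, (t : G) ≠ 1 → (t' : G) ≠ 1 → (t : G) * t' ≠ 1 →
      ¬ (centralizer ({(t' : G)} : Set G)).subgroupOf R ≤ (centralizer ({(t : G)} : Set G)).subgroupOf R →
      (centralizer ({((t * t' : S) : G)} : Set G)).subgroupOf R =
        (centralizer ({(t : G)} : Set G)).subgroupOf R := by
    intro t t' ht1 ht1' htt hnle
    refine eq_of_le_of_card_ge (fun r hr => hroot _ r ?_) ?_
    · have h1 := hinv t ht1 r
      have h2 := htriv t t' ht1 hnle r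
      have h3 : σ t' r = σ t r := by
        have h4 := congrArg (σ t) ((hRt (t * t') r).1 hr)
        rw [hσσ, ← mul_assoc, show t * t = 1 from Subtype.ext (h.sq _ t.2), one_mul] at h4
        exact h4
      rw [h3] at h2
      have := hnormal t t.2 ht1
      set f := QuotientGroup.mk' ((centralizer ({(t : G)} : Set G)).subgroupOf R)
      have a1 : f r * f (σ t r) = 1 := by
        rw [← map_mul]; exact (QuotientGroup.eq_one_iff _).2 h1
      have a2 : f (σ t r) * (f r)⁻¹ = 1 := by
        rw [← map_inv, ← map_mul]; exact (QuotientGroup.eq_one_iff _).2 h2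
      rw [mul_inv_eq_one.1 a2] at a1
      exact (QuotientGroup.eq_one_iff _).1 (show f (r * r) = 1 by rw [map_mul, a1])
    · have h1 := ((centralizer ({((t * t' : S) : G)} : Set G)).subgroupOf R).card_mul_index
      have h2 := ((centralizer ({(t : G)} : Set G)).subgroupOf R).card_mul_index
      rw [hidx _ (t * t').2 (by simpa using htt)] at h1
      rw [hidx t t.2 ht1] at h2
      exact le_of_eq (Nat.eq_of_mul_eq_mul_right hp.out.pos (h2.trans h1.symm))
  have hall : ∀ t t' : S, (t : G) ≠ 1 → (t' : G) ≠ 1 →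
      (centralizer ({(t' : G)} : Set G)).subgroupOf R ≤ (centralizer ({(t : G)} : Set G)).subgroupOf R := by
    intro t t' ht1 ht1'
    by_contra hnle
    have htt : (t : G) * t' ≠ 1 := fun h1 => hnle (by
      have : (t' : G) = t := by
        calc (t' : G) = ((t : G) * t) * t' := by rw [h.sq _ t.2, one_mul]
          _ = t := by rw [mul_assoc, h1, mul_one]
      rw [this])
    have hnle' : ¬ (centralizer ({(t : G)} : Set G)).subgroupOf R ≤
        (centralizer ({(t' : G)} : Set G)).subgroupOf R := fun hle' => hnle (by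
      refine (eq_of_le_of_card_ge hle' ?_).ge
      have h1 := ((centralizer ({(t' : G)} : Set G)).subgroupOf R).card_mul_index
      have h2 := ((centralizer ({(t : G)} : Set G)).subgroupOf R).card_mul_index
      rw [hidx _ t'.2 ht1'] at h1
      rw [hidx t t.2 ht1] at h2
      exact le_of_eq (Nat.eq_of_mul_eq_mul_right hp.out.pos (h1.trans h2.symm)))
    have e1 := hsame t t' ht1 ht1' htt hnle
    have e2 := hsame t' t ht1' ht1 (by rwa [h.mul_comm' t'.2 t.2]) hnle'
    rw [show t' * t = t * t' from Subtype.ext (h.mul_comm' t'.2 t.2), e1] at e2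
    exact hnle e2.ge
  -- all fixed subgroups coincide
  obtain ⟨t', ht', htt'⟩ : ∃ t' : G, t' ∈ S ∧ t' ≠ 1 ∧ t0 * t' ≠ 1 := by
    by_contra hne
    push Not at hne
    have hsub : S ≤ zpowers t0 := fun x hx => by
      by_cases hx1 : x = 1
      · exact hx1 ▸ one_mem _
      have := hne x hx hx1
      rw [eq_inv_of_mul_eq_one_right this]
      exact inv_mem (mem_zpowers t0)
    have := card_le_of_le hsub
    rw [h.card, Nat.card_zpowers, h.orderOf_two ht0 ht01] at this
    omega
  obtain ⟨ht1', htt⟩ := htt'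
  set a : S := ⟨t0, ht0⟩
  set b : S := ⟨t', ht'⟩
  set C := (centralizer ({(a : G)} : Set G)).subgroupOf R with hC
  have hne : C ≠ ⊤ := fun htop => by
    have := hidx t0 ht0 ht01
    rw [show (centralizer ({t0} : Set G)).subgroupOf R = ⊤ from htop, index_top] at this
    exact hp.out.ne_one this.symm
  refine hne (top_unique fun r _ => hroot C r ?_)
  have := hnormal t0 ht0 ht01
  set f := QuotientGroup.mk' C
  have key : ∀ c : S, (c : G) ≠ 1 → ∀ x : R, f (σ c x) = (f x)⁻¹ := by
    intro c hc x
    refine eq_inv_of_mul_eq_one_right ?_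
    rw [← map_mul]
    exact (QuotientGroup.eq_one_iff _).2 (hall a c ht01 hc (hinv c hc x))
  have h1 := key (a * b) (by simpa [a, b] using htt) r
  rw [← hσσ, key a ht01, key b ht1', inv_inv] at h1
  refine (QuotientGroup.eq_one_iff _).1 (show f (r * r) = 1 from ?_)
  rw [map_mul]
  exact mul_eq_one_iff_eq_inv.2 h1

theorem Setup.signalizer_le_centralizer (h : Setup S) :
    signalizer S ≤ centralizer (S : Set G) := by
  set W := signalizer S with hW
  suffices heq : signalizer S ⊓ centralizer (S : Set G) = signalizer S from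
    heq.ge.trans inf_le_right
  refine Subgroup.eq_of_le_of_card_ge inf_le_left (Nat.le_of_dvd Nat.card_pos ?_)
  rw [Nat.dvd_iff_prime_pow_dvd_dvd]
  intro p n hp hdvd
  have := Fact.mk hp
  have hcop : (Nat.card S).Coprime (Nat.card W) := by
    rw [h.card]
    exact (Nat.coprime_two_left.2 h.signalizer_spec.1).pow_left 3
  have hSW : S ≤ normalizer (W : Set G) := le_normalizer.trans h.normalizer_le_normalizer_signalizer
  have := h.comm
  obtain ⟨Q, hQ⟩ := Coprime.exists_invariant_sylow p hSW hcop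
    (Or.inl (Group.isSolvable_of_comm fun a b => this.is_comm.comm a b))
  set R := (Q : Subgroup W).map W.subtype with hR
  have hRW : R ≤ W := map_subtype_le _
  suffices hRc : R ≤ centralizer (S : Set G) by
    refine dvd_trans ?_ (card_dvd_of_le (le_inf hRW hRc))
    rw [hR, card_map_of_injective W.subtype_injective, Q.card_eq_multiplicity]
    exact pow_dvd_pow p ((hp.pow_dvd_iff_le_factorization Nat.card_pos.ne').mp hdvd)
  by_contra hns
  have hRne : R ≠ ⊥ := fun hb => hns (hb ▸ bot_le)
  have hRp : IsPGroup p R := Q.2.map _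
  have hp2 : p ≠ 2 := by
    rintro rfl
    obtain ⟨k, hk⟩ := hRp.exists_card_eq
    rcases k with _ | k
    · exact hRne (Subgroup.card_eq_one.1 (by rw [hk, pow_zero]))
    · have hodd := h.signalizer_spec.1.of_dvd_nat (card_dvd_of_le hRW)
      rw [hk] at hodd
      exact absurd hodd (Nat.not_odd_iff_even.2 ⟨2 ^ k, by ring⟩)
  have c := h.ctrl (p := p) hRW ⟨Q, rfl⟩ hQ hns
  obtain ⟨Q0, hQ0R, hQ0i, hQ0g⟩ := h.exists_good_subgroup hp2 c hRne
  -- the index of the fixed points
  have hidx : ∀ t ∈ S, t ≠ 1 → ((centralizer ({t} : Set G)).subgroupOf R).index *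
      p ^ (Nat.card (theta t)).factorization p = p ^ (Nat.card W).factorization p := by
    intro t ht ht1
    have h1 := ((centralizer ({t} : Set G)).subgroupOf R).card_mul_index
    rw [← inf_subgroupOf_left (centralizer ({t} : Set G)) R] at h1
    rw [Nat.card_congr (subgroupOfEquivOfLe inf_le_left).toEquiv,
      h.card_inf_centralizer Q rfl hQ ht ht1] at h1
    rw [← inf_subgroupOf_left (centralizer ({t} : Set G)) R, mul_comm, h1, hR,
      card_map_of_injective W.subtype_injective, Q.card_eq_multiplicity]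
  obtain ⟨t, ht, ht1⟩ := h.exists_ne_one
  have hbig : p < ((centralizer ({t} : Set G)).subgroupOf R).index := by
    by_contra hle
    refine hns (h.le_centralizer_of_index_le hp2 hRp hQ (fun a ha ha1 b hb hb1 => ?_) ht ht1
      (not_lt.1 hle))
    have e := le_antisymm (h.card_theta_le ha ha1 hb hb1) (h.card_theta_le hb hb1 ha ha1)
    refine Nat.eq_of_mul_eq_mul_right (pow_pos hp.pos ((Nat.card (theta a)).factorization p)) ?_
    rw [hidx a ha ha1, e, hidx b hb hb1]
  -- the two-point stabiliser contains `p ^ 2`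
  set M := maxSub S with hM
  have hse := h.stronglyEmbedded
  obtain ⟨u, hu, hu2⟩ := Involutions.StronglyEmbedded.exists_involution_notMem hse
  set D := M ⊓ M.map (MulAut.conj u).toMonoidHom with hD
  have hDodd : Odd (Nat.card D) := hse.2.2 u hu
  set B := D ⊓ W with hB
  set θ := theta t with hθ
  have hθW : θ ≤ W := h.theta_le_signalizer ht ht1
  have hsurj : Function.Surjective
      (quotientSubgroupOfEmbeddingOfLE θ (inf_le_right : B ≤ W)) := by
    intro q
    obtain ⟨⟨w, hw⟩, rfl⟩ := QuotientGroup.mk_surjective q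
    have hwM := signalizer_le S hw
    obtain ⟨d, hd, hdt⟩ := Involutions.StronglyEmbedded.exists_conj_in_inter hse hu2 hu
      (h.orderOf_two ht ht1) (h.le_maxSub ht)
      (show orderOf (w * t * w⁻¹) = 2 by
        rw [Involutions.Basic.orderOf_conj, h.orderOf_two ht ht1])
      (mul_mem (mul_mem hwM (h.le_maxSub ht)) (inv_mem hwM))
    have hc : w⁻¹ * d ∈ centralizer ({t} : Set G) := by
      rw [mem_centralizer_singleton_iff, ← mul_inv_eq_iff_eq_mul]
      calc w⁻¹ * d * t * (w⁻¹ * d)⁻¹ = w⁻¹ * (d * t * d⁻¹) * w := by group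
        _ = t := by rw [hdt]; group
    have hdW : d ∈ W := by
      refine h.mem_signalizer_of_odd ?_ (hDodd.of_dvd_nat (orderOf_dvd_natCard D hd))
      have : w⁻¹ * d ∈ theta t ⊔ S := (h.centralizer_eq ht ht1).ge hc
      have h2 := mul_mem (mem_sup_left (T := S) hw)
        ((sup_le_sup_right (h.theta_le_signalizer ht ht1) S) this)
      rwa [mul_inv_cancel_left] at h2
    refine ⟨QuotientGroup.mk ⟨d, hd, hdW⟩, ?_⟩
    rw [quotientSubgroupOfEmbeddingOfLE_apply_mk, QuotientGroup.eq, mem_subgroupOf]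
    refine (h.mem_theta_iff ht ht1).2 ⟨?_, h.signalizer_spec.1.of_dvd_nat (orderOf_dvd_natCard W ?_)⟩
    · show d⁻¹ * w ∈ centralizer ({t} : Set G)
      have := inv_mem hc
      rwa [mul_inv_rev, inv_inv] at this
    · exact mul_mem (inv_mem hdW) hw
  have hθB : θ.relIndex W ∣ Nat.card B := by
    have : (θ.subgroupOf W).index = (θ.subgroupOf B).index := by
      rw [index_eq_card, index_eq_card]
      exact (Nat.card_eq_of_bijective _ ⟨(quotientSubgroupOfEmbeddingOfLE θ _).injective, hsurj⟩).symm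
    show (θ.subgroupOf W).index ∣ _
    rw [this]
    exact index_dvd_card _
  have hB2 : p ^ 2 ∣ Nat.card B := by
    obtain ⟨j, hj⟩ := hRp.index ((centralizer ({t} : Set G)).subgroupOf R)
    have h1 : _ * p ^ (Nat.card θ).factorization p = _ := hidx t ht ht1
    rw [hj, ← pow_add] at h1
    have h2 := Nat.pow_right_injective hp.two_le h1
    have hj2 : 2 ≤ j := by
      by_contra hlt
      rw [hj] at hbig
      exact absurd hbig (not_lt.2 ((Nat.pow_le_pow_right hp.pos (show j ≤ 1 by omega)).trans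
        (pow_one p).le))
    have h3 : (Nat.card W).factorization p =
        (θ.relIndex W).factorization p + (Nat.card θ).factorization p := by
      have h4 := (θ.subgroupOf W).card_mul_index
      rw [Nat.card_congr (subgroupOfEquivOfLe hθW).toEquiv] at h4
      rw [← h4, Nat.factorization_mul Nat.card_pos.ne' index_ne_zero_of_finite, Finsupp.add_apply,
        add_comm]
      rfl
    refine dvd_trans ?_ hθB
    rw [hp.pow_dvd_iff_le_factorization (show θ.relIndex W ≠ 0 from index_ne_zero_of_finite)]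
    omega
  obtain ⟨Y, hY⟩ := Sylow.exists_subgroup_card_pow_prime p hB2
  set YG := Y.map B.subtype with hYG
  have hYB : YG ≤ B := map_subtype_le _
  have hYcard : Nat.card YG = p ^ 2 := by rw [hYG, card_map_of_injective B.subtype_injective, hY]
  have hYp : IsPGroup p YG := IsPGroup.of_card hYcard
  have hYW : YG ≤ W := hYB.trans inf_le_right
  obtain ⟨Q', hQ'⟩ := (hYp.comap_subtype (K := W)).exists_le_sylow
  obtain ⟨w, hw⟩ := MulAction.exists_smul_eq W Q' Q
  set Y' := YG.map (MulAut.conj (w : G)).toMonoidHom with hY'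
  have hY'R : Y' ≤ R := by
    rintro _ ⟨x, hx, rfl⟩
    refine ⟨w * ⟨x, hYW hx⟩ * w⁻¹, ?_, rfl⟩
    rw [← hw]
    show _ ∈ ((w • Q' : Sylow p W) : Set W)
    rw [Sylow.coe_smul]
    exact ⟨⟨x, hYW hx⟩, hQ' (mem_subgroupOf.2 hx), rfl⟩
  obtain ⟨y', hy'Y, hy'Q, hy'1⟩ : ∃ y' ∈ Y', y' ∈ Q0 ∧ y' ≠ 1 := by
    by_contra hne
    push Not at hne
    have hbot : Q0.subgroupOf Y' = ⊥ := eq_bot_iff.2 fun x hx =>
      mem_bot.2 (Subtype.ext (hne x x.2 (mem_subgroupOf.1 hx)))
    have h1 := (relIndex_le_of_le_right hY'R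
      (show Q0.relIndex R ≠ 0 from index_ne_zero_of_finite)).trans hQ0i
    rw [relIndex, hbot, index_bot, hY', card_map_of_injective (MulAut.conj _).injective, hYcard] at h1
    exact absurd h1 (not_le.2 (by nlinarith [hp.two_le]))
  obtain ⟨y, hy, rfl⟩ := hy'Y
  have hyM : y ∈ M := signalizer_le S (hYW hy)
  have hgood : centralizer ({y} : Set G) ≤ M := fun g hg => by
    have hg' : (w : G) * g * (w : G)⁻¹ ∈ centralizer ({(w : G) * y * (w : G)⁻¹} : Set G) :=
      mem_centralizer_singleton_iff.2 ((show Commute g y from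
        mem_centralizer_singleton_iff.1 hg).map (MulAut.conj (w : G)).toMonoidHom).eq
    have := mul_mem (mul_mem (inv_mem (signalizer_le S w.2)) (hQ0g _ hy'Q hy'1 hg'))
      (signalizer_le S w.2)
    simpa [mul_assoc] using this
  obtain ⟨k, hk⟩ := hYp ⟨y, hy⟩
  obtain ⟨z, hz, hzy⟩ := (hYB hy).1.2
  have hu' : u⁻¹ ∈ M := c.fix y hyM ⟨k, congrArg Subtype.val hk⟩ u⁻¹ (by
    rw [show u⁻¹ * y * u⁻¹⁻¹ = z by rw [← hzy]; show u⁻¹ * (u * z * u⁻¹) * _ = z; group]
    exact hz) hgood
  exact hu (inv_inv u ▸ inv_mem hu')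

omit [IsSimpleGroup G] in
theorem isSolvable_of_hyp_aux : ∀ n : ℕ, ∀ (H : Type u) [Group H] [Finite H],
    Nat.card H = n → Hyp H → Group.IsSolvable H := by
  intro n
  induction n using Nat.strong_induction_on with
  | _ n ih =>
    intro H _ _ hn hH
    by_contra hns
    have hsub : ∀ K : Subgroup H, K ≠ ⊤ → Group.IsSolvable K := fun K hK => by
      refine ih _ ?_ K rfl (hH.subgroup K)
      rw [← hn]
      exact lt_of_le_of_ne (card_le_card_group K) fun he => hK (eq_top_of_card_eq K he)
    obtain ⟨hsimple, S, hS⟩ := exists_setup hH hns hsub (fun A _ hA hodd => by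
      refine ih _ ?_ (H ⧸ A) rfl (hH.quotient A hodd)
      rw [← hn, card_eq_card_quotient_mul_card_subgroup A]
      exact lt_mul_of_one_lt_right Nat.card_pos (one_lt_card_iff_ne_bot A |>.2 hA))
    have hWS := hS.signalizer_le_centralizer
    refine false_of_centralized hS.nine hS.stronglyEmbedded hS.card hS.sq hS.le_maxSub
      (sup_le (hWS.trans (centralizer_le_normalizer _)) le_rfl) (signalizer_le S)
      hS.le_normalizer_signalizer hS.signalizer_spec.1 hWS hS.card_maxSub fun x hx hx1 => ?_
    refine hS.le_of_four (hS.centralizer_ne_top hx1) hS.le_maxSub hS.isPGroup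
      (by rw [hS.card]; norm_num) fun s hs => ?_
    exact mem_centralizer_singleton_iff.2 (mem_centralizer_iff.1 (hWS hx) s hs)

omit [IsSimpleGroup G] in
/-- A finite group with `16 ∤ |G|`, `9 ∤ |G|` and no element of order three in the normaliser of a
2-subgroup of order at least four is solvable. -/
theorem isSolvable_of_hyp (h : Hyp G) : Group.IsSolvable G :=
  isSolvable_of_hyp_aux (Nat.card G) G rfl h

end Cfsg.Agent.Hall.Numbers.Seven
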