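import Cfsg.Agent.Lib.Hall.Solvable
import Cfsg.Agent.Lib.Transfer.Frobenius
import Cfsg.Agent.Lib.Transfer.SmallSylow
import Cfsg.Agent.Lib.Blocks.FreeTwo.Split
import Cfsg.Agent.Lib.CharP.StronglyClosedOrder

/-!
Hall numbers: solvable groups, `m ≡ 2 mod 4`, twelve, and the reduction for twenty-four.
-/

set_option autoImplicit false

namespace Cfsg.Agent.Hall.Numbers

open Subgroup

universe u

variable {G : Type u} [Group G] [Finite G]

theorem factorization_eq {m n s : ℕ} (hn : n ≠ 0) (hmn : m ∣ n) (hco : m.Coprime (n / m))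
    (hs : s.Prime) (hsm : s ∣ m) : n.factorization s = m.factorization s := by
  obtain ⟨k, rfl⟩ := hmn
  have hm : m ≠ 0 := left_ne_zero_of_mul hn
  rw [Nat.mul_div_cancel_left _ (Nat.pos_of_ne_zero hm)] at hco
  rw [Nat.factorization_mul hm (right_ne_zero_of_mul hn), Finsupp.add_apply,
    Nat.factorization_eq_zero_of_not_dvd fun h =>
      hs.not_dvd_one (hco.gcd_eq_one ▸ Nat.dvd_gcd hsm h)]
  exact add_zero _

/-- A solvable group has subgroups of all Hall orders. -/
theorem exists_card_of_solvable [Group.IsSolvable G] {m : ℕ} (hdvd : m ∣ Nat.card G)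
    (hco : m.Coprime (Nat.card G / m)) : ∃ H : Subgroup G, Nat.card H = m := by
  obtain ⟨K, hK1, hK2⟩ := Cfsg.Agent.Hall.exists_hall {s | s ∣ m} G
  have hm : m ≠ 0 := fun h => Nat.card_pos.ne' (Nat.eq_zero_of_zero_dvd (h ▸ hdvd))
  refine ⟨K, Nat.eq_of_factorization_eq Nat.card_pos.ne' hm fun s => ?_⟩
  by_cases hs : s.Prime
  · by_cases hsm : s ∣ m
    · rw [← factorization_eq Nat.card_pos.ne' hdvd hco hs hsm, ← K.card_mul_index,
        Nat.factorization_mul Nat.card_pos.ne' index_ne_zero_of_finite, Finsupp.add_apply,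
        Nat.factorization_eq_zero_of_not_dvd (hK2 s hs hsm)]
      exact (add_zero _).symm
    · rw [Nat.factorization_eq_zero_of_not_dvd hsm,
        Nat.factorization_eq_zero_of_not_dvd fun h => hsm (hK1 s hs h)]
  · rw [Nat.factorization_eq_zero_of_not_prime _ hs, Nat.factorization_eq_zero_of_not_prime _ hs]

/-- A solvable subgroup of order divisible by `m` contains a subgroup of order `m`. -/
theorem exists_card_of_solvable_subgroup {m : ℕ} (hdvd : m ∣ Nat.card G)
    (hco : m.Coprime (Nat.card G / m)) (K : Subgroup G) [Group.IsSolvable K] (hK : m ∣ Nat.card K) :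
    ∃ H : Subgroup G, Nat.card H = m := by
  have h1 : m.Coprime (Nat.card K / m) :=
    hco.coprime_dvd_right (Nat.div_dvd_div hK K.card_subgroup_dvd_card)
  obtain ⟨H, hH⟩ := exists_card_of_solvable hK h1
  exact ⟨H.map K.subtype, by rw [card_map_of_injective K.subtype_injective, hH]⟩

/-- Groups whose order is not divisible by four are solvable. -/
theorem isSolvable_of_not_four_dvd (h : ¬ 4 ∣ Nat.card G) : Group.IsSolvable G := by
  have : Fact (Nat.Prime 2) := ⟨Nat.prime_two⟩
  obtain ⟨S⟩ := (inferInstance : Nonempty (Sylow 2 G))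
  have hc : IsCyclic (S : Subgroup G) := by
    obtain ⟨k, hk⟩ := S.isPGroup'.exists_card_eq
    have hk1 : k ≤ 1 := by
      by_contra hlt
      exact h (((pow_dvd_pow 2 (by omega : 2 ≤ k)).trans (hk ▸ card_subgroup_dvd_card _)))
    interval_cases k
    · have : Subsingleton (S : Subgroup G) := (Nat.card_eq_one_iff_unique.1 (by simpa using hk)).1
      infer_instance
    · exact isCyclic_of_prime_card (p := 2) (by simpa using hk)
  exact Blocks.FreeTwo.isSolvable_of_complement
    (CharP.StronglyClosedOrder.hasNormalPComplement_of_cyclic (fun q hq _ => hq.two_le) S)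

/-- A group with a normal 2-subgroup over which the order is not divisible by four is solvable. -/
theorem isSolvable_normalizer {Q : Subgroup G} (hQ : IsPGroup 2 Q)
    (h4 : ¬ 4 * Nat.card Q ∣ Nat.card G) : Group.IsSolvable (normalizer (Q : Set G)) := by
  have : Fact (Nat.Prime 2) := ⟨Nat.prime_two⟩
  set N := normalizer (Q : Set G)
  set Q' := Q.subgroupOf N
  have hQn : Q'.Normal := normal_in_normalizer
  have hcard : Nat.card Q' = Nat.card Q := Nat.card_congr (subgroupOfEquivOfLe le_normalizer).toEquiv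
  have hq : ¬ 4 ∣ Nat.card (N ⧸ Q') := fun h => h4 (by
    rw [← hcard]
    refine (Nat.mul_dvd_mul_right h _).trans ?_
    rw [← card_eq_card_quotient_mul_card_subgroup]
    exact card_subgroup_dvd_card N)
  have := isSolvable_of_not_four_dvd hq
  have : Group.IsNilpotent Q' := (hQ.comap_subtype).isNilpotent
  exact Group.isSolvable_of_ker_le_range Q'.subtype (QuotientGroup.mk' Q') (by simp)

/-- The numbers `m ≡ 2 mod 4` are Hall numbers. -/
theorem hall_two_mod_four {m : ℕ} (hm : m % 4 = 2) (hdvd : m ∣ Nat.card G)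
    (hco : m.Coprime (Nat.card G / m)) : ∃ H : Subgroup G, Nat.card H = m := by
  have := isSolvable_of_not_four_dvd (G := G) fun h4 => by
    have hm0 : m ≠ 0 := by omega
    have h := factorization_eq Nat.card_pos.ne' hdvd hco Nat.prime_two (by omega)
    have h2 : 2 ≤ (Nat.card G).factorization 2 :=
      (Nat.prime_two.pow_dvd_iff_le_factorization Nat.card_pos.ne').1 h4
    have h2' : ¬ 2 ^ 2 ∣ m := by norm_num; omega
    rw [Nat.prime_two.pow_dvd_iff_le_factorization hm0] at h2'
    omega
  exact exists_card_of_solvable hdvd hco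

/-- Prime powers are Hall numbers. -/
theorem hall_prime_pow {m : ℕ} (hm : IsPrimePow m) (hdvd : m ∣ Nat.card G) :
    ∃ H : Subgroup G, Nat.card H = m := by
  obtain ⟨p, k, hp, -, rfl⟩ := (isPrimePow_nat_iff _).1 hm
  have : Fact p.Prime := ⟨hp⟩
  exact Sylow.exists_subgroup_card_pow_prime p hdvd

/-- Elements of odd order acting nontrivially on a 2-subgroup of order at most eight. -/
theorem exists_prime_of_not_centralizes {Q : Subgroup G} {a : ℕ} (hQ : Nat.card Q = 2 ^ a) (ha : a ≤ 3)
    {g : G} (hg : g ∈ normalizer (Q : Set G)) (hodd : (orderOf g).Coprime 2)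
    (hgc : g ∉ centralizer (Q : Set G)) :
    2 ≤ a ∧ (3 ∣ orderOf g ∨ a = 3 ∧ 7 ∣ orderOf g) := by
  have : Fact (Nat.Prime 2) := ⟨Nat.prime_two⟩
  by_contra hne
  refine hgc (Transfer.SmallSylow.mem_centralizer_of_primes hQ hg fun r hr hrd d hd hdiv => hne ?_)
  have hr2 : r ≠ 2 := fun h => Nat.prime_two.not_dvd_one (hodd.gcd_eq_one ▸ Nat.dvd_gcd (h ▸ hrd) dvd_rfl)
  have hle : r ≤ 8 := (Nat.le_of_dvd (Nat.sub_pos_of_lt (Nat.pow_lt_pow_right one_lt_two hd)) hdiv).trans
    ((Nat.sub_le _ _).trans (show 2 ^ a ≤ 2 ^ 3 from Nat.pow_le_pow_right two_pos ha))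
  have h37 : r = 3 ∧ 2 ≤ a ∨ r = 7 ∧ a = 3 := by
    have := hr.two_le
    interval_cases r <;> first
      | omega
      | (exfalso; revert hr; norm_num; done)
      | (interval_cases a <;> interval_cases d <;> norm_num at hdiv <;> norm_num)
  rcases h37 with ⟨rfl, h⟩ | ⟨rfl, rfl⟩
  · exact ⟨h, Or.inl hrd⟩
  · exact ⟨by norm_num, Or.inr ⟨rfl, hrd⟩⟩

/-- Some element of odd order acts nontrivially on a 2-subgroup of a nonsolvable group. -/
theorem exists_action (hns : ¬ Group.IsSolvable G) (S : Sylow 2 G) :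
    ∃ Q : Subgroup G, Q ≤ (S : Subgroup G) ∧ ∃ g ∈ normalizer (Q : Set G),
      (orderOf g).Coprime 2 ∧ g ∉ centralizer (Q : Set G) := by
  have : Fact (Nat.Prime 2) := ⟨Nat.prime_two⟩
  by_contra h
  push Not at h
  exact hns (Blocks.FreeTwo.isSolvable_of_complement
    (Transfer.Frobenius.hasNormalPComplement_of_condition
      (Transfer.Frobenius.Condition.of_sylow S h)))

/-- The order of a Sylow 2-subgroup. -/
theorem sylow_two_card {m k : ℕ} (hdvd : m ∣ Nat.card G) (hco : m.Coprime (Nat.card G / m))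
    (hm : m.factorization 2 = k) (hk : k ≠ 0) (S : Sylow 2 G) : Nat.card (S : Subgroup G) = 2 ^ k := by
  have : Fact (Nat.Prime 2) := ⟨Nat.prime_two⟩
  have hm0 : m ≠ 0 := fun h => Nat.card_pos.ne' (Nat.eq_zero_of_zero_dvd (h ▸ hdvd))
  rw [S.card_eq_multiplicity, factorization_eq Nat.card_pos.ne' hdvd hco Nat.prime_two
    (Nat.dvd_of_factorization_pos (by omega)), hm]

/-- Twelve and twenty-four, apart from an action of order seven on an elementary group. -/
theorem hall_twelve_twentyfour {m : ℕ} (hm : m = 12 ∨ m = 24) (hdvd : m ∣ Nat.card G)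
    (hco : m.Coprime (Nat.card G / m)) :
    (∃ H : Subgroup G, Nat.card H = m) ∨ (m = 24 ∧ ¬ Group.IsSolvable G ∧
      ∃ S : Sylow 2 G, Nat.card (S : Subgroup G) = 8 ∧
        (∃ g ∈ normalizer ((S : Subgroup G) : Set G), 7 ∣ orderOf g ∧ g ∉ centralizer ((S : Subgroup G) : Set G)) ∧
        ∀ Q : Subgroup G, IsPGroup 2 Q → 4 ∣ Nat.card Q → ¬ 3 ∣ Nat.card (normalizer (Q : Set G))) := by
  have : Fact (Nat.Prime 2) := ⟨Nat.prime_two⟩
  by_cases hsol : Group.IsSolvable G
  · exact Or.inl (exists_card_of_solvable hdvd hco)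
  obtain ⟨k, hk, hk', hm'⟩ : ∃ k, m.factorization 2 = k ∧ (k = 2 ∨ k = 3) ∧ m = 2 ^ k * 3 := by
    rcases hm with rfl | rfl
    · refine ⟨2, ?_, Or.inl rfl, by norm_num⟩
      rw [show 12 = 2 ^ 2 * 3 by norm_num, Nat.factorization_mul (by norm_num) (by norm_num)]
      rw [Finsupp.add_apply, Nat.prime_two.factorization_pow, Nat.prime_three.factorization]
      simp
    · refine ⟨3, ?_, Or.inr rfl, by norm_num⟩
      rw [show 24 = 2 ^ 3 * 3 by norm_num, Nat.factorization_mul (by norm_num) (by norm_num)]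
      rw [Finsupp.add_apply, Nat.prime_two.factorization_pow, Nat.prime_three.factorization]
      simp
  have hScard := fun S : Sylow 2 G => sylow_two_card hdvd hco hk (by omega) S
  -- a 2-subgroup of index at most two with order three in its normaliser
  by_cases hQ : ∃ Q : Subgroup G, IsPGroup 2 Q ∧ 4 ∣ Nat.card Q ∧
      3 ∣ Nat.card (normalizer (Q : Set G))
  · obtain ⟨Q, hQp, hQ4, hQ3⟩ := hQ
    obtain ⟨S, hQS⟩ := hQp.exists_le_sylow
    obtain ⟨a, ha⟩ := hQp.exists_card_eq
    have ha2 : 2 ≤ a := by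
      rw [ha] at hQ4
      exact (Nat.pow_dvd_pow_iff_le_right (by norm_num)).1 (show 2 ^ 2 ∣ 2 ^ a from hQ4)
    have h4Q : ¬ 4 * Nat.card Q ∣ Nat.card G := by
      intro h
      rw [ha, show 4 * 2 ^ a = 2 ^ (a + 2) by rw [pow_add]; ring,
        Nat.prime_two.pow_dvd_iff_le_factorization Nat.card_pos.ne'] at h
      have := hScard S
      rw [S.card_eq_multiplicity] at this
      have := Nat.pow_right_injective le_rfl this
      omega
    have := isSolvable_normalizer hQp h4Q
    refine Or.inl (exists_card_of_solvable_subgroup hdvd hco (normalizer (Q : Set G)) ?_)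
    have hSN : (S : Subgroup G) ≤ normalizer (Q : Set G) := by
      have hidx : Q.relIndex (S : Subgroup G) ≤ 2 := by
        have h := Subgroup.card_mul_index (Q.subgroupOf (S : Subgroup G))
        rw [Nat.card_congr (subgroupOfEquivOfLe hQS).toEquiv, ha, hScard S,
          ← Nat.add_sub_cancel' (show a ≤ k by
            refine (Nat.pow_le_pow_iff_right one_lt_two).1 ?_
            rw [← ha, ← hScard S]; exact card_le_of_le hQS), pow_add] at h
        show (Q.subgroupOf (S : Subgroup G)).index ≤ 2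
        rw [Nat.eq_of_mul_eq_mul_left (pow_pos two_pos a) h]
        calc 2 ^ (k - a) ≤ 2 ^ 1 := Nat.pow_le_pow_right two_pos (by omega)
          _ = 2 := pow_one 2
      rw [← normal_subgroupOf_iff_le_normalizer hQS]
      rcases (show (Q.subgroupOf (S : Subgroup G)).index = 1 ∨
          (Q.subgroupOf (S : Subgroup G)).index = 2 by
        have := index_ne_zero_of_finite (H := Q.subgroupOf (S : Subgroup G))
        have : (Q.subgroupOf (S : Subgroup G)).index ≤ 2 := hidx
        omega) with h | h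
      · rw [index_eq_one.1 h]; infer_instance
      · exact normal_of_index_eq_two h
    rw [hm']
    refine Nat.Coprime.mul_dvd_of_dvd_of_dvd (Nat.Coprime.pow_left _ (by norm_num)) ?_ hQ3
    rw [← hScard S]
    exact card_dvd_of_le hSN
  · push Not at hQ
    obtain ⟨S⟩ := (inferInstance : Nonempty (Sylow 2 G))
    obtain ⟨Q, hQS, g, hg, hgo, hgc⟩ := exists_action hsol S
    have hQp : IsPGroup 2 Q := S.isPGroup'.to_le hQS
    obtain ⟨a, ha⟩ := hQp.exists_card_eq
    have hak : a ≤ k := by
      refine (Nat.pow_le_pow_iff_right one_lt_two).1 ?_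
      rw [← ha, ← hScard S]; exact card_le_of_le hQS
    obtain ⟨ha2, h37⟩ := exists_prime_of_not_centralizes ha (by omega) hg hgo hgc
    have h4Q : 4 ∣ Nat.card Q := ha ▸ pow_dvd_pow 2 ha2
    rcases h37 with h3 | ⟨rfl, h7⟩
    · exact absurd (h3.trans (orderOf_dvd_natCard _ hg)) (hQ Q hQp h4Q)
    · obtain rfl : k = 3 := by omega
      obtain rfl : Q = (S : Subgroup G) := eq_of_le_of_card_ge hQS (by rw [ha, hScard S])
      exact Or.inr ⟨by omega, hsol, S, by rw [ha]; norm_num, ⟨g, hg, h7, hgc⟩, hQ⟩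

end Cfsg.Agent.Hall.Numbers
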