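import Cfsg.Agent.Lib.Hall.OddExt

/-!
The class of groups with one class of Hall `π`-subgroups is closed under extensions, granted
solvability of groups of odd order.
-/

set_option autoImplicit false

open scoped Pointwise

namespace Cfsg.Agent.Hall.OddExt

open Cfsg Cores

universe u

variable {G : Type u} [Group G] [Finite G] {π : Set ℕ}

/-- Frattini argument. -/
theorem sup_normalizer_of_cPi (A : Subgroup G) [A.Normal] (hA : IsCPiGroup π A) {K : Subgroup A}
    (hK : IsPiHall π K) :
    ∀ g : G, ∃ a ∈ A, a * g ∈ Subgroup.normalizer ((K.map A.subtype : Subgroup G) : Set G) := by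
  intro g
  let e : A ≃* A := MulAut.conjNormal g
  have he : IsPiHall π (K.map e.toMonoidHom) := isPiHall_map hK e.surjective
  obtain ⟨n, hn⟩ := hA.2 _ _ he hK
  refine ⟨n, n.2, ?_⟩
  rw [← Coprime.conj_smul_eq_self_iff]
  show (K.map A.subtype).map (MulAut.conj ((n : G) * g)).toMonoidHom = K.map A.subtype
  conv_rhs => rw [hn]
  rw [Subgroup.map_map, Subgroup.map_map, Subgroup.map_map]
  congr 1
  ext x
  simp [e, MulAut.conjNormal_apply, mul_assoc]

/-- Two Hall subgroups meeting a normal subgroup in the same normalised subgroup. -/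
theorem conj_of_inf_eq (hodd : OddSolvable.{u}) (A : Subgroup G) [A.Normal] {H K : Subgroup G}
    (hH : IsPiHall π H) (hK : IsPiHall π K) (hinf : H ⊓ A = K ⊓ A) (hsup : A ⊔ H = A ⊔ K) :
    ∃ g : G, K = MulAut.conj g • H := by
  set HA := H ⊓ A with hHA
  set N := Subgroup.normalizer (HA : Set G) with hN
  have hHN : H ≤ N := le_trans (le_inf Subgroup.le_normalizer Subgroup.le_normalizer_of_normal)
    Subgroup.inf_normalizer_le_normalizer_inf
  have hKN : K ≤ N := by
    rw [hN, hinf]
    exact le_trans (le_inf Subgroup.le_normalizer Subgroup.le_normalizer_of_normal)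
      Subgroup.inf_normalizer_le_normalizer_inf
  have hAN : HA ≤ N := Subgroup.le_normalizer
  set D := HA.subgroupOf N
  haveI : D.Normal := (Subgroup.normal_subgroupOf_iff_le_normalizer hAN).2 le_rfl
  let q := QuotientGroup.mk' D
  set B := (A.subgroupOf N).map q with hB
  haveI : B.Normal := Subgroup.Normal.map inferInstance q (QuotientGroup.mk'_surjective D)
  have hcardB : Nat.card B = HA.relIndex (N ⊓ A) := by
    rw [hB, ← Subgroup.relIndex_ker, QuotientGroup.ker_mk']
    show (HA.subgroupOf N).relIndex (A.subgroupOf N) = _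
    rw [← Subgroup.inf_subgroupOf_left A N, Subgroup.relIndex_subgroupOf inf_le_left]
  have hBpi : ∀ r : ℕ, r.Prime → r ∣ Nat.card B → r ∉ π := by
    intro r hr hd hrπ
    rw [hcardB] at hd
    refine hH.2 r hr hrπ (hd.trans ?_)
    have h1 : HA.relIndex (N ⊓ A) ∣ HA.relIndex A :=
      ⟨(N ⊓ A).relIndex A, (Subgroup.relIndex_mul_relIndex HA (N ⊓ A) A
        (le_inf hAN inf_le_right) inf_le_right).symm⟩
    refine h1.trans ?_
    rw [hHA, Subgroup.inf_relIndex_right]
    exact relIndex_dvd_index_right_normal H A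
  have hcop : ∀ L : Subgroup G, L ≤ N → IsPi π L →
      (Nat.card B).Coprime (Nat.card ((L.subgroupOf N).map q)) := fun L hL hLπ =>
    Nat.coprime_of_dvd fun r hr hd hd' => hBpi r hr hd
      (((IsPi.subgroupOf hLπ N).map q) r hr hd')
  have hAL : ∀ L : Subgroup G, L ≤ N → (A ⊔ L).subgroupOf N = A.subgroupOf N ⊔ L.subgroupOf N := by
    intro L hL
    ext x
    rw [Subgroup.mem_subgroupOf]
    constructor
    · intro hx
      obtain ⟨a, ha, l, hl, he⟩ :=
        (Coprime.mem_sup_of_le_normalizer Subgroup.le_normalizer_of_normal).1 hx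
      have haN : a ∈ N := by
        have : a = x * l⁻¹ := eq_mul_inv_of_mul_eq he
        exact this ▸ N.mul_mem x.2 (N.inv_mem (hL hl))
      have hxe : x = (⟨a, haN⟩ : N) * ⟨l, hL hl⟩ := Subtype.ext he.symm
      rw [hxe]
      exact Subgroup.mul_mem_sup ha hl
    · intro hx
      have : A.subgroupOf N ⊔ L.subgroupOf N ≤ (A ⊔ L).subgroupOf N :=
        sup_le (fun y hy => Subgroup.mem_sup_left hy) (fun y hy => Subgroup.mem_sup_right hy)
      exact this hx
  have heq : B ⊔ (H.subgroupOf N).map q = B ⊔ (K.subgroupOf N).map q := by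
    rw [hB, ← Subgroup.map_sup, ← Subgroup.map_sup, ← hAL H hHN, ← hAL K hKN, hsup]
  obtain ⟨x, -, hx⟩ := conj_of_sup_eq hodd (N := B) (H := (H.subgroupOf N).map q)
    (K := (K.subgroupOf N).map q) Subgroup.le_normalizer_of_normal Subgroup.le_normalizer_of_normal
    heq (hcop H hHN hH.1) (hcop K hKN hK.1)
  obtain ⟨y, rfl⟩ := QuotientGroup.mk'_surjective D x
  refine ⟨y, (isPiHall_eq_of_le (isPiHall_conj_smul hH (y : G)) hK.1 fun k hk => ?_).symm⟩
  rw [Coprime.mem_conj_smul] at hk
  have hkN : k ∈ N := by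
    have := N.mul_mem (N.mul_mem y.2 (hHN hk)) (N.inv_mem y.2)
    simpa [mul_assoc] using this
  have h1 : q ⟨k, hkN⟩ ∈ (K.subgroupOf N).map q := by
    rw [← hx, Coprime.mem_conj_smul]
    exact ⟨⟨_, hHN hk⟩, hk, by
      rw [← map_inv, ← map_mul, ← map_mul]
      exact congrArg q (Subtype.ext rfl)⟩
  obtain ⟨⟨l, hlN⟩, hl, hle⟩ := h1
  have h2 : (⟨l, hlN⟩ : N)⁻¹ * ⟨k, hkN⟩ ∈ D := QuotientGroup.eq.1 hle
  have h3 : l⁻¹ * k ∈ HA := h2
  rw [hinf] at h3
  have h4 : l * (l⁻¹ * k) ∈ K := K.mul_mem hl h3.1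
  rwa [mul_inv_cancel_left] at h4

theorem cPi_ext (hodd : OddSolvable.{u}) (A : Subgroup G) [A.Normal] (hA : IsCPiGroup π A)
    (hQ : IsCPiGroup π (G ⧸ A)) : IsCPiGroup π G := by
  obtain ⟨⟨K₀, hK₀⟩, hconjQ⟩ := hQ
  let f := QuotientGroup.mk' A
  obtain ⟨⟨HA₀, hHA₀⟩, hconjA⟩ := hA
  set HA := HA₀.map A.subtype with hHA
  set N := Subgroup.normalizer (HA : Set G) with hN
  have hfr := sup_normalizer_of_cPi A ⟨⟨HA₀, hHA₀⟩, hconjA⟩ hHA₀
  have hAN : HA ≤ N := Subgroup.le_normalizer
  refine ⟨?_, ?_⟩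
  · -- existence
    set N₁ := N ⊓ K₀.comap f with hN1
    have hAK : A ≤ K₀.comap f := fun x hx => by
      rw [Subgroup.mem_comap, show f x = 1 from (QuotientGroup.eq_one_iff x).2 hx]
      exact K₀.one_mem
    have hsurjN : ∀ x ∈ K₀.comap f, ∃ n ∈ N₁, f n = f x := by
      intro x hx
      obtain ⟨a, ha, hax⟩ := hfr x
      have hfa : f (a * x) = f x := by
        rw [map_mul, show f a = 1 from (QuotientGroup.eq_one_iff a).2 ha, one_mul]
      refine ⟨a * x, ⟨hax, ?_⟩, hfa⟩
      show f (a * x) ∈ K₀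
      rw [hfa]; exact hx
    have hHAA : HA ≤ A := Subgroup.map_subtype_le _
    have hHN1 : HA ≤ N₁ := le_inf hAN (hHAA.trans hAK)
    set D := HA.subgroupOf N₁
    haveI : D.Normal := (Subgroup.normal_subgroupOf_iff_le_normalizer hHN1).2 inf_le_left
    have hDA : D ≤ A.subgroupOf N₁ := fun x hx => hHAA hx
    have hrelA : ∀ r : ℕ, r.Prime → r ∈ π → ¬ r ∣ HA.relIndex A := by
      intro r hr hrπ hd
      have : HA.relIndex A = HA₀.index := by
        rw [hHA, Subgroup.relIndex, Subgroup.subgroupOf,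
          Subgroup.comap_map_eq_self_of_injective A.subtype_injective]
      exact hHA₀.2 r hr hrπ (this ▸ hd)
    set B := (A.subgroupOf N₁).map (QuotientGroup.mk' D) with hB
    haveI : B.Normal := Subgroup.Normal.map inferInstance _ (QuotientGroup.mk'_surjective D)
    have hcardB : Nat.card B = HA.relIndex (N₁ ⊓ A) := by
      rw [hB, ← Subgroup.relIndex_ker, QuotientGroup.ker_mk']
      show (HA.subgroupOf N₁).relIndex (A.subgroupOf N₁) = _
      rw [← Subgroup.inf_subgroupOf_left A N₁, Subgroup.relIndex_subgroupOf inf_le_left]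
    have hBpi : ∀ r : ℕ, r.Prime → r ∣ Nat.card B → r ∉ π := by
      intro r hr hd hrπ
      rw [hcardB] at hd
      exact hrelA r hr hrπ (hd.trans ⟨(N₁ ⊓ A).relIndex A, (Subgroup.relIndex_mul_relIndex HA
        (N₁ ⊓ A) A (le_inf hHN1 hHAA) inf_le_right).symm⟩)
    have hidxB : B.index = Nat.card K₀ := by
      rw [hB, Subgroup.index_map_eq _ (QuotientGroup.mk'_surjective D)
        (by rw [QuotientGroup.ker_mk']; exact hDA)]
      have hker : (f.comp N₁.subtype).ker = A.subgroupOf N₁ := by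
        ext x
        exact QuotientGroup.eq_one_iff (x : G)
      rw [← hker, Subgroup.index_ker]
      congr 1
      have : (f.comp N₁.subtype).range = K₀ := by
        ext y
        constructor
        · rintro ⟨n, rfl⟩
          exact n.2.2
        · intro hy
          obtain ⟨x, rfl⟩ := QuotientGroup.mk'_surjective A y
          obtain ⟨n, hn, hne⟩ := hsurjN x hy
          exact ⟨⟨n, hn⟩, hne⟩
      rw [this]
    obtain ⟨C, hC⟩ := Subgroup.exists_right_complement'_of_coprime (N := B) (by
      rw [hidxB]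
      exact Nat.coprime_of_dvd fun r hr hd hd' => hBpi r hr hd (hK₀.1 r hr hd'))
    have hcardC : Nat.card C = Nat.card K₀ := by rw [← hidxB, hC.symm.index_eq_card]
    set H₀ := (C.comap (QuotientGroup.mk' D)).map N₁.subtype with hH0
    have hcardH : Nat.card H₀ = Nat.card HA * Nat.card K₀ := by
      rw [hH0, Subgroup.card_map_of_injective N₁.subtype_injective, card_comap_mk' D C, hcardC,
        Nat.card_congr (Subgroup.subgroupOfEquivOfLe hHN1).toEquiv]
    have hidxH : H₀.index = HA.relIndex A * K₀.index := by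
      have h1 := H₀.card_mul_index
      have h2 := (K₀.comap f).card_mul_index
      rw [Subgroup.index_comap_of_surjective _ (QuotientGroup.mk'_surjective A), card_comap_mk' A K₀,
        ← Subgroup.relIndex_mul_relIndex ⊥ HA A bot_le hHAA |>.trans (Subgroup.relIndex_bot_left A),
        Subgroup.relIndex_bot_left] at h2
      rw [← h2, hcardH] at h1
      have hne : 0 < Nat.card HA * Nat.card K₀ := Nat.mul_pos Nat.card_pos Nat.card_pos
      apply Nat.eq_of_mul_eq_mul_left hne
      rw [h1]; ring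
    have hHAπ : IsPi π HA := (IsPi.map hHA₀.1 _)
    refine ⟨H₀, fun r hr hd => ?_, fun r hr hrπ hd => ?_⟩
    · rw [hcardH] at hd
      exact (hr.dvd_mul.1 hd).elim (hHAπ r hr) (hK₀.1 r hr)
    · rw [hidxH] at hd
      exact (hr.dvd_mul.1 hd).elim (hrelA r hr hrπ) (hK₀.2 r hr hrπ)
  · -- conjugacy
    intro H K hH hK
    have hfH := isPiHall_map hH (QuotientGroup.mk'_surjective A)
    have hfK := isPiHall_map hK (QuotientGroup.mk'_surjective A)
    -- align the intersections with `A`
    obtain ⟨a, ha⟩ := hconjA _ _ (isPiHall_subgroupOf_normal hH A) hHA₀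
    obtain ⟨b, hb⟩ := hconjA _ _ (isPiHall_subgroupOf_normal hK A) hHA₀
    have hal : ∀ (L : Subgroup G) (c : A), HA₀ = (L.subgroupOf A).map (MulAut.conj c).toMonoidHom →
        (MulAut.conj (c : G) • L) ⊓ A = HA := by
      intro L c hc
      rw [hHA, hc, Subgroup.map_map]
      ext x
      constructor
      · rintro ⟨hx1, hx2⟩
        replace hx1 : x ∈ MulAut.conj (c : G) • L := hx1
        rw [Coprime.mem_conj_smul] at hx1
        refine ⟨c⁻¹ * ⟨x, hx2⟩ * c, hx1, ?_⟩
        simp [mul_assoc]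
      · rintro ⟨y, hy, rfl⟩
        refine ⟨?_, (MulAut.conj c y).2⟩
        show _ ∈ MulAut.conj (c : G) • L
        rw [Coprime.mem_conj_smul]
        simpa [mul_assoc, Subgroup.mem_subgroupOf] using hy
    set H' := MulAut.conj (a : G) • H with hH'
    set K' := MulAut.conj (b : G) • K with hK'
    have hH'h := isPiHall_conj_smul hH (a : G)
    have hK'h := isPiHall_conj_smul hK (b : G)
    obtain ⟨gb, hgb⟩ := hconjQ _ _ (isPiHall_map hH'h (QuotientGroup.mk'_surjective A))
      (isPiHall_map hK'h (QuotientGroup.mk'_surjective A))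
    obtain ⟨g₀, rfl⟩ := QuotientGroup.mk'_surjective A gb
    obtain ⟨a₀, ha₀, hg⟩ := hfr g₀
    set g := a₀ * g₀ with hgdef
    set H'' := MulAut.conj g • H' with hH''
    have hinf : H'' ⊓ A = K' ⊓ A := by
      rw [hal K b hb]
      have h1 : MulAut.conj g • (H' ⊓ A) = HA := by
        rw [hal H a ha]
        exact Coprime.conj_smul_eq_self_iff.2 hg
      rw [← h1, Subgroup.smul_inf]
      congr 1
      exact (Coprime.conj_smul_eq_self_iff.2 (Subgroup.normalizer_eq_top (H := A) ▸ Subgroup.mem_top g)).symm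
    have hmap : H''.map f = K'.map f := by
      rw [hgb]
      have hfg : f g = f g₀ := by
        rw [hgdef, map_mul, show f a₀ = 1 from (QuotientGroup.eq_one_iff a₀).2 ha₀, one_mul]
      show H''.map f = (H'.map f).map (MulAut.conj (f g₀)).toMonoidHom
      rw [← hfg]
      show (H'.map (MulAut.conj g).toMonoidHom).map f = _
      rw [Subgroup.map_map, Subgroup.map_map]
      congr 1
    have hsup : A ⊔ H'' = A ⊔ K' := by
      have h1 := congrArg (Subgroup.comap f) hmap
      rw [Subgroup.comap_map_eq, Subgroup.comap_map_eq, QuotientGroup.ker_mk'] at h1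
      rwa [sup_comm A H'', sup_comm A K']
    obtain ⟨y, hy⟩ := conj_of_inf_eq hodd A (isPiHall_conj_smul hH'h g) hK'h hinf hsup
    refine ⟨(b : G)⁻¹ * (y * (g * a)), ?_⟩
    show K = MulAut.conj ((b : G)⁻¹ * (y * (g * a))) • H
    rw [Coprime.conj_smul_mul, Coprime.conj_smul_mul, Coprime.conj_smul_mul, ← hH', ← hy]
    exact (Coprime.conj_inv_smul_smul _ _).symm

end Cfsg.Agent.Hall.OddExt
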