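import Cfsg.Agent.Lib.Hall.MinimalNormal

/-!
A group acting on an elementary abelian normal `p`-subgroup through an abelian group of exponent
dividing `p - 1` normalises a subgroup of order `p` in it.
-/

set_option autoImplicit false

namespace Cfsg.Agent.Hall

variable {G : Type*} [Group G]

theorem exists_eigenvector_of_pow_eq {p : ℕ} [Fact p.Prime] {V : Type*} [AddCommGroup V]
    [Module (ZMod p) V] [Finite V] [Nontrivial V] (f : Module.End (ZMod p) V) (hf : f ^ p = f) :
    ∃ (μ : ZMod p) (v : V), v ≠ 0 ∧ f v = μ • v := by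
  haveI : Module.Finite (ZMod p) V := Module.Finite.of_finite
  have haeval : Polynomial.aeval f (Polynomial.X ^ p - Polynomial.X : Polynomial (ZMod p)) = 0 := by
    rw [map_sub, map_pow, Polynomial.aeval_X, hf, sub_self]
  have hne : (Polynomial.X ^ p - Polynomial.X : Polynomial (ZMod p)) ≠ 0 :=
    FiniteField.X_pow_card_sub_X_ne_zero _ (Fact.out : p.Prime).one_lt
  have hsplit : (Polynomial.X ^ p - Polynomial.X : Polynomial (ZMod p)).Splits := by
    have h := FiniteField.splits_X_pow_card_sub_X (p := p) (K := ZMod p)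
    simpa using h
  obtain ⟨μ, hμ⟩ : ∃ μ, (minpoly (ZMod p) f).IsRoot μ :=
    (hsplit.of_dvd hne (minpoly.dvd _ _ haeval)).exists_eval_eq_zero
      (minpoly.degree_pos (Algebra.IsIntegral.isIntegral f)).ne'
  obtain ⟨v, hv, hv0⟩ :=
    (Module.End.hasEigenvalue_of_isRoot hμ).exists_hasEigenvector
  exact ⟨μ, v, hv0, Module.End.mem_eigenspace_iff.1 hv⟩

theorem pow_end_apply {p : ℕ} {V : Type*} [AddCommGroup V] [Module (ZMod p) V]
    (f : Module.End (ZMod p) V) (n : ℕ) (x : V) : (f ^ n) x = (⇑f)^[n] x := by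
  rw [Module.End.coe_pow]

/-- An endomorphism `T` of an elementary abelian `p`-group with `T ^ p = T` has an eigenvector. -/
theorem exists_power_eigenvector {W : Type*} [CommGroup W] [Finite W]
    [Nontrivial W] {p : ℕ} [Fact p.Prime] (hexp : ∀ w : W, w ^ p = 1) (T : Monoid.End W)
    (hT : ∀ w : W, T^[p] w = T w) : ∃ (u : ℕ) (w : W), w ≠ 1 ∧ T w = w ^ u := by
  let inst : Module (ZMod p) (Additive W) := AddCommGroup.zmodModule fun x => hexp x.toMul
  let f := @AddMonoidHom.toZModLinearMap p (Additive W) (Additive W) _ _ inst inst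
    (MonoidHom.toAdditive (T : W →* W))
  have happly : ∀ x, f.toFun x = Additive.ofMul (T x.toMul) := fun x => rfl
  obtain ⟨μ, v, hv0, hv⟩ := exists_eigenvector_of_pow_eq (V := Additive W) f (LinearMap.ext fun x => by
    rw [pow_end_apply]
    exact Additive.toMul.injective (hT x.toMul))
  refine ⟨μ.val, v.toMul, fun h => hv0 (Additive.toMul.injective h), ?_⟩
  rw [← ZMod.natCast_zmod_val μ, Nat.cast_smul_eq_nsmul] at hv
  exact congrArg Additive.toMul hv

/-- A group acting on an elementary abelian normal `p`-subgroup by commuting automorphisms whose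
`(p-1)`-st powers are trivial normalises a subgroup of order `p` of it. -/
theorem exists_normal_card_eq_prime [Finite G] {p : ℕ} [hp : Fact p.Prime] {M : Subgroup G}
    [M.Normal] (hM : M ≠ ⊥) (hel : Cfsg.IsElementaryAbelian p M)
    (hab : ∀ g h : G, ∀ m ∈ M, g * (h * m * h⁻¹) * g⁻¹ = h * (g * m * g⁻¹) * h⁻¹)
    (hexp : ∀ g : G, ∀ m ∈ M, g ^ (p - 1) * m * (g ^ (p - 1))⁻¹ = m) :
    ∃ P : Subgroup G, P.Normal ∧ P ≤ M ∧ Nat.card P = p := by
  obtain ⟨W, hWn, hWM, hW, hmin⟩ := exists_minimal_normal M hM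
  haveI := hWn
  obtain ⟨hMc, hMp⟩ := hel
  have hpow : ∀ w ∈ W, w ^ p = 1 := fun w hw =>
    congrArg Subtype.val (Subtype.ext (hMp w (hWM hw)) : (⟨w ^ p, M.pow_mem (hWM hw) p⟩ : M) = 1)
  have hcomm : ∀ x ∈ W, ∀ y ∈ W, Commute x y := fun x hx y hy =>
    congrArg Subtype.val (hMc.is_comm.comm ⟨x, hWM hx⟩ ⟨y, hWM hy⟩)
  haveI : IsMulCommutative W := ⟨⟨fun a b => Subtype.ext (hcomm a a.2 b b.2)⟩⟩
  haveI : Nontrivial W := (W.nontrivial_iff_ne_bot).2 hW
  have hkey : ∀ g : G, ∃ u : ℕ, ∀ w ∈ W, g * w * g⁻¹ = w ^ u := by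
    intro g
    let T : Monoid.End W := ((MulAut.conjNormal g : MulAut W) : W ≃* W).toMonoidHom
    have hiter : ∀ n (w : W), (T^[n] w : G) = g ^ n * w * (g ^ n)⁻¹ := by
      intro n
      induction n with
      | zero => intro w; simp
      | succ n ih =>
        intro w
        rw [Function.iterate_succ_apply']
        change g * (T^[n] w : G) * g⁻¹ = _
        rw [ih, pow_succ']
        group
    letI : CommGroup W :=
      { (inferInstance : Group W) with mul_comm := fun a b => Subtype.ext (hcomm a a.2 b b.2) }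
    obtain ⟨u, w₀, hw₀, hu⟩ := exists_power_eigenvector (p := p)
      (fun w : W => Subtype.ext (hpow w w.2)) T fun w => Subtype.ext (by
        rw [hiter, show p = 1 + (p - 1) by have := hp.out.one_lt; omega, pow_add, pow_one]
        change _ = g * (w : G) * g⁻¹
        calc g * g ^ (p - 1) * w * (g * g ^ (p - 1))⁻¹
            = g * (g ^ (p - 1) * w * (g ^ (p - 1))⁻¹) * g⁻¹ := by group
          _ = g * w * g⁻¹ := by rw [hexp g w (hWM w.2)])
    let E : Subgroup G :=
      { carrier := {x | x ∈ W ∧ g * x * g⁻¹ = x ^ u}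
        one_mem' := ⟨W.one_mem, by simp⟩
        mul_mem' := fun {a b} ha hb => ⟨W.mul_mem ha.1 hb.1, by
          rw [← conj_mul, ha.2, hb.2, (hcomm a ha.1 b hb.1).mul_pow]⟩
        inv_mem' := fun {a} ha => ⟨W.inv_mem ha.1, by
          rw [inv_pow, ← ha.2]; group⟩ }
    have hEn : E.Normal := ⟨fun x hx h => ⟨Subgroup.Normal.conj_mem inferInstance x hx.1 h, by
      rw [hab g h x (hWM hx.1), hx.2, conj_pow]⟩⟩
    refine ⟨u, fun w hw => ?_⟩
    have hE : E = W := (hmin E hEn fun x hx => hx.1).resolve_left fun h => hw₀ (by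
      have hmem : (w₀ : G) ∈ E := ⟨w₀.2, congrArg Subtype.val hu⟩
      rw [h, Subgroup.mem_bot] at hmem
      exact Subtype.ext hmem)
    rw [← hE] at hw
    exact hw.2
  obtain ⟨⟨x, hx⟩, hne⟩ := exists_ne (1 : W)
  have hx1 : x ≠ 1 := fun h => hne (Subtype.ext h)
  refine ⟨Subgroup.zpowers x, ⟨fun y hy g => ?_⟩, Subgroup.zpowers_le.2 (hWM hx), ?_⟩
  · obtain ⟨u, hu⟩ := hkey g
    rw [hu y (Subgroup.zpowers_le.2 hx hy)]
    exact Subgroup.pow_mem _ hy u
  · rw [Nat.card_zpowers]
    exact orderOf_eq_prime (hpow x hx) hx1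

end Cfsg.Agent.Hall
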