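import Cfsg.Agent.Lib.PLocal.ZJCenterFusion
import Cfsg.Agent.Lib.PLocal.ThompsonComplement
import Cfsg.Agent.Lib.PLocal.PSolvable
import Cfsg.Agent.Lib.PLocal.SolvableSeparable

/-!
`Z(J(T))` in groups with abelian Sylow 2-subgroups.
-/

set_option autoImplicit false

namespace Cfsg.Agent.Hall.Numbers.Seven

open Subgroup Cfsg Cfsg.Agent.Techniques.Functor Cfsg.Agent.Techniques.KInf Cfsg.Agent.Techniques.SL2
open Cfsg.Agent.PLocal Cfsg.Agent.PLocal.ZJCenterFusion

universe u

variable {p : ℕ} [hp : Fact p.Prime]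

/-- `N(Z(J(S)))` controls fusion in `S`. -/
theorem fusion {G : Type u} [Group G] [Finite G] (hp2 : p ≠ 2) (hab : Quadratic.AbelianTwo G)
    (S : Sylow p G) {a g : G} (ha : a ∈ (S : Subgroup G)) (hga : g * a * g⁻¹ ∈ (S : Subgroup G)) :
    ∃ x ∈ normalizer (centerThompsonOf p (S : Subgroup G) : Set G), g * a * g⁻¹ = x * a * x⁻¹ := by
  have h𝓦 : ∀ V ∈ ({zje.{u} p} : Set (∀ (Q : Type u) [Group Q], Subgroup Q)),
      IsCharPFunctor.{u} p V := by
    rintro V rfl
    exact isCharPFunctor_zje
  have hfc : FC p {zje.{u} p} G := by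
    refine fc_of_constrained (G := G) h𝓦 (fun H _ _ hsec hc T => ?_) G (IsSec.refl G)
    obtain ⟨K, R, hR, ⟨e⟩⟩ := hsec.exists_quotient
    have hH : Quadratic.AbelianTwo H :=
      ((hab.subgroup K).of_surjective (QuotientGroup.mk'_surjective (R.subgroupOf K))).of_surjective
        (f := e.toMonoidHom) e.surjective
    have hn : (inducedFunctor (G := H) (zje.{u} p) (T : Subgroup H)).Normal := by
      rw [induced_zje]
      exact ZJCenter.centerThompson_normal hp2 hc
        (fun V _ hV => StableNormal.of_abelianTwo hp2 hH V hV) T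
    intro B k _ hB hc'
    refine Reach.single ?_ hc'
    rw [induced, Set.image_singleton, steps_singleton, SetLike.mem_coe, mem_inf,
      normalizer_eq_top_iff.mpr hn]
    exact ⟨mem_top k, mem_top k⟩
  have h1 := hfc S {a} g (mem_top g) (Set.singleton_subset_iff.2 ha)
    (by rintro _ ⟨y, hy, rfl⟩; cases hy; exact hga)
  rw [induced, Set.image_singleton, steps_singleton] at h1
  obtain ⟨x, hx, he⟩ := Reach.exists_mem h1
  have hx' := (mem_inf.mp hx).2
  rw [induced_zje] at hx'
  exact ⟨x, hx', (he a (Set.mem_singleton a)).symm⟩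

/-- A solvable group is covered by its `p'`-core and the normaliser of `Z(J(T))`. -/
theorem zj_frattini {G : Type u} [Group G] [Finite G] (hs : Group.IsSolvable G) (hp2 : p ≠ 2)
    (hab : Quadratic.AbelianTwo G) (T : Sylow p G) :
    pPrimeCore p G ⊔ normalizer (centerThompsonOf p (T : Subgroup G) : Set G) = ⊤ := by
  set K := pPrimeCore p G with hK
  have : K.Normal := Cores.pPrimeCore_normal (p := p)
  set f := QuotientGroup.mk' K with hf
  have hcop : (Nat.card K).Coprime p := Cores.pPrimeCore_card_coprime p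
  have hinj : Set.InjOn f (T : Subgroup G) := fun u hu v hv he => by
    have h1 : u⁻¹ * v ∈ (T : Subgroup G) ⊓ K :=
      mem_inf.2 ⟨mul_mem (inv_mem hu) hv, QuotientGroup.eq.1 he⟩
    obtain ⟨n, hn⟩ := (T.2.to_le (inf_le_left : (T : Subgroup G) ⊓ K ≤ T)).exists_card_eq
    have hd : Nat.card ↥((T : Subgroup G) ⊓ K) ∣ Nat.card K := card_dvd_of_le inf_le_right
    have hone : Nat.card ↥((T : Subgroup G) ⊓ K) = 1 :=
      Nat.eq_one_of_dvd_coprimes (hcop.pow_right n) hd (hn ▸ dvd_rfl)
    rw [Subgroup.card_eq_one.1 hone, mem_bot] at h1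
    exact inv_mul_eq_one.1 h1
  set Tb := T.mapSurjective (QuotientGroup.mk'_surjective K) with hTb
  have hQsol : Group.IsSolvable (G ⧸ K) :=
    Group.isSolvable_of_surjective (QuotientGroup.mk'_surjective K)
  have hn : (centerThompsonOf p (Tb : Subgroup (G ⧸ K))).Normal :=
    ZJCenter.centerThompson_normal hp2
      (PSolvable.centralizer_pCore_le (Cores.pPrimeCore_quotient_self p)
        (SolvableSeparable.isPSolvable_of_isSolvable p _))
      (fun V _ hV => StableNormal.of_abelianTwo hp2
        (hab.of_surjective (QuotientGroup.mk'_surjective K)) V hV) Tb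
  set Z := centerThompsonOf p (T : Subgroup G) with hZ
  have hZT : Z ≤ (T : Subgroup G) := inf_le_left.trans (ThompsonComplement.J_le _)
  have hZmap : Z.map f = centerThompsonOf p (Tb : Subgroup (G ⧸ K)) := by
    rw [hTb, Sylow.coe_mapSurjective, hZ]
    show (ThompsonComplement.Z _).map f = ThompsonComplement.Z _
    rw [ThompsonComplement.map_Z (hinj.mono (ThompsonComplement.J_le _)),
      ThompsonComplement.map_J hinj]
  set P := Z ⊔ K with hP
  have hPn : P.Normal := by
    have := hn.comap f
    rwa [← hZmap, comap_map_eq, QuotientGroup.ker_mk'] at this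
  have hZp : IsPGroup p Z := T.2.to_le hZT
  have hidx : ¬ p ∣ (Z.subgroupOf P).index :=
    relIndex_sup_coprime hcop (le_normalizer_of_normal)
  have htop := Sylow.normalizer_sup_eq_top ((hZp.comap_subtype (K := P)).toSylow hidx)
  rw [show (((hZp.comap_subtype (K := P)).toSylow hidx : Sylow p P) : Subgroup P).map P.subtype = Z
    from map_subgroupOf_eq_of_le le_sup_left] at htop
  exact top_unique (htop.symm.le.trans (sup_le le_sup_right
    (sup_le (le_sup_of_le_right le_normalizer) le_sup_left)))

end Cfsg.Agent.Hall.Numbers.Seven
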