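import Cfsg.Agent.Lib.Hall.NumbersSevenEmbed
import Cfsg.Agent.Lib.Hall.NumbersSevenLocal
import Cfsg.Agent.Lib.Coprime.Sylow

/-!
The order of the strongly embedded subgroup and control of fusion in it.
-/

set_option autoImplicit false

namespace Cfsg.Agent.Hall.Numbers.Seven

open Subgroup
open scoped commutatorElement

universe u

variable {G : Type u} [Group G] [Finite G] [IsSimpleGroup G] {S : Subgroup G}

omit [Finite G] [IsSimpleGroup G] in
theorem signalizer_le (S : Subgroup G) : signalizer S ≤ maxSub S := le_sup_left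

theorem Setup.le_normalizer_signalizer (h : Setup S) :
    maxSub S ≤ normalizer (signalizer S : Set G) :=
  sup_le le_normalizer h.normalizer_le_normalizer_signalizer

theorem Setup.theta_le_signalizer (_h : Setup S) {a : G} (ha : a ∈ S) (ha1 : a ≠ 1) :
    theta a ≤ signalizer S :=
  le_iSup (fun b : {a : G // a ∈ S ∧ a ≠ 1} => theta b.1) ⟨a, ha, ha1⟩

theorem Setup.exists_ne_one (h : Setup S) : ∃ a ∈ S, a ≠ 1 := by
  obtain ⟨a, ha⟩ := (Subgroup.ne_bot_iff_exists_ne_one).1 (fun hb : S = ⊥ => by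
    have := h.card; rw [hb, Subgroup.card_bot] at this; omega)
  exact ⟨a, a.2, fun h1 => ha (Subtype.ext h1)⟩

theorem Setup.inf_signalizer_eq_bot (h : Setup S) : S ⊓ signalizer S = ⊥ := by
  refine eq_bot_iff.2 fun x ⟨hxS, hxW⟩ => mem_bot.2 ?_
  by_contra hx1
  have h2 : orderOf x ∣ Nat.card (signalizer S) := orderOf_dvd_natCard _ hxW
  rw [h.orderOf_two hxS hx1] at h2
  exact Nat.not_even_iff_odd.2 h.signalizer_spec.1 (even_iff_two_dvd.2 h2)

/-- An element of `W` normalising `S` centralises it. -/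
theorem Setup.mem_centralizer_of_mem (h : Setup S) {w : G} (hw : w ∈ signalizer S)
    (hwN : w ∈ normalizer (S : Set G)) : w ∈ centralizer (S : Set G) := by
  refine mem_centralizer_iff.2 fun s hs => ?_
  have h1 : w * s * w⁻¹ * s⁻¹ ∈ S ⊓ signalizer S := by
    refine mem_inf.2 ⟨mul_mem ((mem_normalizer_iff.1 hwN s).1 hs) (inv_mem hs), ?_⟩
    have hsn : s * w⁻¹ * s⁻¹ ∈ signalizer S :=
      (mem_normalizer_iff.1 (h.normalizer_le_normalizer_signalizer (le_normalizer hs)) _).1 (inv_mem hw)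
    have := mul_mem hw hsn
    rwa [← mul_assoc, ← mul_assoc] at this
  rw [h.inf_signalizer_eq_bot, mem_bot, mul_inv_eq_one, mul_inv_eq_iff_eq_mul] at h1
  exact h1.symm

theorem Setup.card_centralizer (h : Setup S) : Nat.card (centralizer (S : Set G)) =
    8 * Nat.card ↥(signalizer S ⊓ centralizer (S : Set G)) := by
  obtain ⟨a, ha, ha1⟩ := h.exists_ne_one
  set C := centralizer (S : Set G) with hC
  have hSC : S ≤ C := fun s hs => mem_centralizer_iff.2 fun t ht => h.mul_comm' ht hs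
  set A := S.subgroupOf C with hA
  set B := (signalizer S ⊓ C).subgroupOf C with hB
  have hBn : B.Normal := by
    rw [hB, inf_subgroupOf_right]
    exact normal_subgroupOf_of_le_normalizer ((centralizer_le_normalizer _).trans
      h.normalizer_le_normalizer_signalizer)
  have hcompl : A ⊔ B = ⊤ := top_unique fun ⟨c, hc⟩ _ => by
    have hca : c ∈ centralizer ({a} : Set G) :=
      mem_centralizer_singleton_iff.2 (mem_centralizer_iff.1 hc a ha).symm
    rw [← h.centralizer_eq ha ha1, ← SetLike.mem_coe, coe_mul_of_right_le_normalizer_left] at hca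
    · obtain ⟨u, hu, v, hv, huv⟩ := hca
      have hu' : u ∈ C := by
        have := mul_mem hc (inv_mem (hSC hv))
        rwa [← huv, mul_inv_cancel_right] at this
      have : (⟨c, hc⟩ : C) = ⟨u, hu'⟩ * ⟨v, hSC hv⟩ := Subtype.ext huv.symm
      rw [this]
      exact mul_mem (mem_sup_right ⟨h.theta_le_signalizer ha ha1 hu, hu'⟩) (mem_sup_left hv)
    · intro s hs
      refine le_normalizer_map (centralizer ({a} : Set G)).subtype
        ⟨⟨s, mem_centralizer_singleton_iff.2 (h.mul_comm' hs ha)⟩, ?_, rfl⟩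
      exact (normalizer_eq_top_iff.2 (Cores.pPrimeCore_normal (p := 2))).ge (mem_top _)
  have h1 := Cores.card_sup_mul_card_inf A B
  have hinf : A ⊓ B = ⊥ := by
    rw [eq_bot_iff]
    rintro x ⟨hx1, hx2, -⟩
    exact mem_bot.2 (Subtype.ext (mem_bot.1 (h.inf_signalizer_eq_bot ▸ ⟨hx1, hx2⟩)))
  rw [hcompl, hinf, Subgroup.card_bot, mul_one, card_top] at h1
  rw [h1, hA, hB, Nat.card_congr (subgroupOfEquivOfLe hSC).toEquiv,
    Nat.card_congr (subgroupOfEquivOfLe inf_le_right).toEquiv, h.card]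

theorem Setup.card_maxSub (h : Setup S) :
    Nat.card (maxSub S) = 56 * Nat.card (signalizer S) := by
  set N := normalizer (S : Set G) with hN
  set W := signalizer S
  set M := maxSub S with hM
  have hWn : (W.subgroupOf M).Normal := normal_subgroupOf_of_le_normalizer h.le_normalizer_signalizer
  have hNM : N ≤ M := le_sup_right
  have h1 := Cores.card_sup_mul_card_inf (N.subgroupOf M) (W.subgroupOf M)
  rw [← subgroupOf_sup hNM (signalizer_le S), sup_comm, show W ⊔ N = M from rfl, subgroupOf_self,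
    card_top, Nat.card_congr (subgroupOfEquivOfLe hNM).toEquiv,
    Nat.card_congr (subgroupOfEquivOfLe (signalizer_le S)).toEquiv] at h1
  have hinf : Nat.card ↥(N.subgroupOf M ⊓ W.subgroupOf M) =
      Nat.card ↥(W ⊓ centralizer (S : Set G)) := by
    have he : N.subgroupOf M ⊓ W.subgroupOf M = (W ⊓ centralizer (S : Set G)).subgroupOf M := by
      ext x
      exact ⟨fun ⟨h1, h2⟩ => ⟨h2, h.mem_centralizer_of_mem h2 h1⟩,
        fun ⟨h1, h2⟩ => ⟨centralizer_le_normalizer _ h2, h1⟩⟩
    rw [he, Nat.card_congr (subgroupOfEquivOfLe (inf_le_left.trans (signalizer_le S))).toEquiv]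
  rw [hinf, h.index, h.card_centralizer] at h1
  refine Nat.eq_of_mul_eq_mul_right (m := Nat.card ↥(W ⊓ centralizer (S : Set G))) Nat.card_pos ?_
  rw [h1]; ring

theorem Setup.sup_le_normalizer (h : Setup S) :
    maxSub S ≤ normalizer ((signalizer S ⊔ S : Subgroup G) : Set G) :=
  sup_le (le_sup_left.trans le_normalizer) fun n hn => by
    have h1 := mem_normalizer_iff_map_conj_eq.1 (h.normalizer_le_normalizer_signalizer hn)
    have h2 := mem_normalizer_iff_map_conj_eq.1 hn
    rw [mem_normalizer_iff_map_conj_eq, Subgroup.map_sup, h1, h2]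

/-- `W S` has index seven in the strongly embedded subgroup, hence contains its commutators. -/
theorem Setup.commutator_le_sup (h : Setup S) :
    ⁅maxSub S, maxSub S⁆ ≤ signalizer S ⊔ S := by
  have : Fact (Nat.Prime 7) := ⟨by norm_num⟩
  set W := signalizer S
  set M := maxSub S
  have hLM : W ⊔ S ≤ M := sup_le (signalizer_le S) h.le_maxSub
  set L := (W ⊔ S).subgroupOf M with hL
  have hn : L.Normal := normal_subgroupOf_of_le_normalizer h.sup_le_normalizer
  have hcard : Nat.card ↥(W ⊔ S) = 8 * Nat.card W := by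
    set T := W ⊔ S
    have hWn : (W.subgroupOf T).Normal :=
      normal_subgroupOf_of_le_normalizer (hLM.trans h.le_normalizer_signalizer)
    have h1 := Cores.card_sup_mul_card_inf (S.subgroupOf T) (W.subgroupOf T)
    rw [← subgroupOf_sup (show S ≤ T from le_sup_right) (show W ≤ T from le_sup_left), sup_comm,
      show W ⊔ S = T from rfl, subgroupOf_self, card_top, show S.subgroupOf T ⊓ W.subgroupOf T = (S ⊓ W).subgroupOf T from
        (comap_inf S W T.subtype).symm,
      h.inf_signalizer_eq_bot, bot_subgroupOf, Subgroup.card_bot, mul_one,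
      Nat.card_congr (subgroupOfEquivOfLe (show S ≤ T from le_sup_right)).toEquiv,
      Nat.card_congr (subgroupOfEquivOfLe (show W ≤ T from le_sup_left)).toEquiv, h.card] at h1
    exact h1
  have hidx : L.index = 7 := by
    have h1 := L.card_mul_index
    rw [hL, Nat.card_congr (subgroupOfEquivOfLe hLM).toEquiv, hcard, h.card_maxSub] at h1
    refine Nat.eq_of_mul_eq_mul_left (n := 8 * Nat.card W) (Nat.mul_pos (by norm_num) Nat.card_pos) ?_
    rw [h1]; ring
  have hcq : IsMulCommutative (M ⧸ L) := by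
    have : IsCyclic (M ⧸ L) := isCyclic_of_prime_card (p := 7) (by rw [← index_eq_card, hidx])
    exact ⟨⟨fun a b => IsCyclic.commGroup.mul_comm a b⟩⟩
  have hcl := Normal.quotient_commutative_iff_commutator_le.mp hcq
  rw [← map_subtype_commutator M]
  exact (map_mono hcl).trans (le_of_eq (map_subgroupOf_eq_of_le hLM))

/-- A Sylow subgroup of odd order of the strongly embedded subgroup, for the part of `W` moved by
`S`, is a Sylow subgroup of `G` and controls fusion. -/
structure Ctrl (S : Subgroup G) (p : ℕ) (R : Subgroup G) : Prop where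
  sylow : ∃ P : Sylow p G, (P : Subgroup G) = R
  le_signalizer : R ≤ signalizer S
  invariant : S ≤ normalizer (R : Set G)
  fix : ∀ y ∈ maxSub S, (∃ k, y ^ p ^ k = 1) → ∀ g : G, g * y * g⁻¹ ∈ maxSub S →
    centralizer ({y} : Set G) ≤ maxSub S → g ∈ maxSub S

theorem Setup.exists_conj_mem_of_isPGroup (h : Setup S) {p : ℕ} [Fact p.Prime]
    (P : Sylow p G) (hPM : (P : Subgroup G) ≤ maxSub S) {y : G} (hy : y ∈ maxSub S)
    (hyp : ∃ k, y ^ p ^ k = 1) : ∃ m ∈ maxSub S, m * y * m⁻¹ ∈ (P : Subgroup G) := by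
  set M := maxSub S
  obtain ⟨k, hk⟩ := hyp
  have hz : IsPGroup p (zpowers (⟨y, hy⟩ : M)) := by
    refine IsPGroup.of_card_dvd_pow (n := k) ?_
    rw [Nat.card_zpowers]
    exact orderOf_dvd_of_pow_eq_one (Subtype.ext hk)
  obtain ⟨Q, hQ⟩ := hz.exists_le_sylow
  obtain ⟨m, hm⟩ := MulAction.exists_smul_eq M Q (P.subtype hPM)
  refine ⟨m, m.2, ?_⟩
  have : m * ⟨y, hy⟩ * m⁻¹ ∈ ((P.subtype hPM : Sylow p M) : Subgroup M) := by
    rw [← hm]
    show _ ∈ ((m • Q : Sylow p M) : Set M)
    rw [Sylow.coe_smul]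
    exact ⟨_, hQ (mem_zpowers _), rfl⟩
  exact this

theorem Setup.ctrl (h : Setup S) {p : ℕ} [hp : Fact p.Prime] {R : Subgroup G}
    (hRW : R ≤ signalizer S) (hRs : ∃ Q : Sylow p (signalizer S),
      (Q : Subgroup (signalizer S)).map (signalizer S).subtype = R)
    (hRS : S ≤ normalizer (R : Set G)) (hns : ¬ R ≤ centralizer (S : Set G)) : Ctrl S p R := by
  set W := signalizer S
  set M := maxSub S with hM
  have hWM : W ≤ M := signalizer_le S
  have hRM : R ≤ M := hRW.trans hWM
  obtain ⟨Q, hQR⟩ := hRs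
  have hRp : IsPGroup p R := hQR ▸ Q.2.map _
  have hp2 : p ≠ 2 := by
    rintro rfl
    refine hns fun r hr => ?_
    obtain ⟨k, hk⟩ := hRp.exists_card_eq
    have hodd : Odd (Nat.card R) := h.signalizer_spec.1.of_dvd_nat (card_dvd_of_le hRW)
    rcases k with _ | k
    · have : R = ⊥ := Subgroup.card_eq_one.1 (by rw [hk, pow_zero])
      rw [this, mem_bot] at hr
      exact hr ▸ one_mem _
    · rw [hk] at hodd
      exact absurd hodd (Nat.not_odd_iff_even.2 ⟨2 ^ k, by ring⟩)
  -- the core is odd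
  set K := Cfsg.pPrimeCore p M with hK
  have hKn : K.Normal := Cores.pPrimeCore_normal (p := p)
  have hKcop : (Nat.card K).Coprime p := Cores.pPrimeCore_card_coprime p
  have hKodd : Odd (Nat.card K) := by
    by_contra hev
    rw [Nat.not_odd_iff_even, even_iff_two_dvd] at hev
    have : Fact (Nat.Prime 2) := ⟨Nat.prime_two⟩
    obtain ⟨x, hx⟩ := exists_prime_orderOf_dvd_card' 2 hev
    have hx2 : orderOf ((x : M) : G) = 2 := by rw [Subgroup.orderOf_coe, Subgroup.orderOf_coe, hx]
    obtain ⟨m, hm, hs⟩ := h.exists_conj_mem (x : M).2 hx2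
    have hs1 : m * ((x : M) : G) * m⁻¹ ≠ 1 := fun h1 =>
      Involutions.Basic.ne_one hx2 (conj_eq_one_iff.1 h1)
    have hsK : m * ((x : M) : G) * m⁻¹ ∈ K.map M.subtype :=
      ⟨_, hKn.conj_mem x x.2 ⟨m, hm⟩, rfl⟩
    have hKM : M ≤ normalizer ((K.map M.subtype : Subgroup G) : Set G) := fun y hy =>
      le_normalizer_map M.subtype ⟨⟨y, hy⟩, (normalizer_eq_top_iff.2 hKn).ge (mem_top _), rfl⟩
    have hSK : S ≤ K.map M.subtype := fun t ht => by
      by_cases ht1 : t = 1
      · exact ht1 ▸ one_mem _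
      obtain ⟨n, hn, rfl⟩ := h.trans _ hs hs1 t ht ht1
      exact (mem_normalizer_iff.1 (hKM (mem_sup_right hn)) _).1 hsK
    refine hns fun r hr => mem_centralizer_iff.2 fun s hs => ?_
    have h1 : s * r * s⁻¹ * r⁻¹ ∈ R ⊓ K.map M.subtype := by
      refine mem_inf.2 ⟨mul_mem ((mem_normalizer_iff.1 (hRS hs) r).1 hr) (inv_mem hr), ?_⟩
      have := mul_mem (hSK hs) ((mem_normalizer_iff.1 (hKM (hRM hr)) _).1 (inv_mem (hSK hs)))
      rwa [← mul_assoc, ← mul_assoc] at this
    obtain ⟨k, hk⟩ := hRp.exists_card_eq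
    have hone : Nat.card ↥(R ⊓ K.map M.subtype) = 1 := by
      refine Nat.eq_one_of_dvd_coprimes (hKcop.pow_right k) ?_ (hk ▸ card_dvd_of_le inf_le_left)
      exact (card_dvd_of_le inf_le_right).trans (by rw [card_map_of_injective M.subtype_injective])
    rw [Subgroup.card_eq_one.1 hone, mem_bot, mul_inv_eq_one, mul_inv_eq_iff_eq_mul] at h1
    exact h1
  obtain ⟨T, hT⟩ := (hRp.comap_subtype (K := M)).exists_le_sylow
  set TG := (T : Subgroup M).map M.subtype with hTG
  set Z := Cfsg.centerThompsonOf p TG with hZ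
  have hZmap : Z = (Cfsg.centerThompsonOf p (T : Subgroup M)).map M.subtype := by
    rw [hZ, hTG]
    show PLocal.ThompsonComplement.Z _ = (PLocal.ThompsonComplement.Z _).map _
    rw [← PLocal.ThompsonComplement.map_J M.subtype_injective.injOn,
      PLocal.ThompsonComplement.map_Z M.subtype_injective.injOn]
  have hRT : R ≤ TG := fun r hr => ⟨⟨r, hRM hr⟩, hT (mem_subgroupOf.2 hr), rfl⟩
  have hRne : R ≠ ⊥ := fun hb => hns (hb ▸ bot_le)
  have hTne : TG ≠ ⊥ := fun hb => hRne (le_bot_iff.1 (hb ▸ hRT))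
  have hTp : IsPGroup p TG := T.2.map _
  have hZne : Z ≠ ⊥ := PLocal.ThompsonComplement.Z_ne_bot
    (hTp.to_le (PLocal.ThompsonComplement.J_le TG)) (PLocal.ThompsonComplement.J_ne_bot hTp hTne)
  have hZT : Z ≤ TG := inf_le_left.trans (PLocal.ThompsonComplement.J_le _)
  have hNtop : normalizer (Z : Set G) ≠ ⊤ := fun htop => by
    rcases IsSimpleGroup.eq_bot_or_eq_top_of_normal Z (normalizer_eq_top_iff.1 htop) with hb | ht
    · exact hZne hb
    · have : Group.IsNilpotent TG := hTp.isNilpotent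
      refine h.nonsolvable (Group.isSolvable_of_surjective (G := TG) (f := TG.subtype) fun x => ?_)
      exact ⟨⟨x, hZT (ht ▸ mem_top x)⟩, rfl⟩
  -- the normaliser contains a Sylow 2-subgroup
  have hfr : K ⊔ normalizer (Cfsg.centerThompsonOf p (T : Subgroup M) : Set M) = ⊤ :=
    zj_frattini (h.solvable M h.maxSub_ne_top) hp2 (h.abelianTwo.subgroup M) T
  have hNM : normalizer (Z : Set G) ≤ M := by
    have : Fact (Nat.Prime 2) := ⟨Nat.prime_two⟩
    set NT := normalizer (Cfsg.centerThompsonOf p (T : Subgroup M) : Set M) with hNT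
    have h8 : 2 ^ 2 ∣ Nat.card NT := by
      have h1 := Cores.card_sup_dvd_mul NT K
      rw [sup_comm, hfr, card_top] at h1
      have h2 : 2 ^ 2 ∣ Nat.card M :=
        (show 2 ^ 2 ∣ Nat.card S by rw [h.card]; norm_num).trans (card_dvd_of_le h.le_maxSub)
      exact (Nat.Coprime.pow_left 2 (Nat.coprime_two_left.2 hKodd)).dvd_of_dvd_mul_right (h2.trans h1)
    obtain ⟨U, hU⟩ := Sylow.exists_subgroup_card_pow_prime 2 h8
    have hUN : (U.map NT.subtype).map M.subtype ≤ normalizer (Z : Set G) := by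
      rw [hZmap]
      exact (map_mono (map_subtype_le _)).trans (le_normalizer_map M.subtype)
    refine h.le_of_four hNtop (map_subtype_le _) (((IsPGroup.of_card hU).map _).map _) ?_ hUN
    rw [card_map_of_injective M.subtype_injective, card_map_of_injective NT.subtype_injective, hU]
    norm_num
  obtain ⟨P, hTP⟩ := hTp.exists_le_sylow
  have hPT : (P : Subgroup G) = TG := by
    by_contra hne
    haveI : Group.IsNilpotent (P : Subgroup G) := P.2.isNilpotent
    have hlt := Group.normalizerCondition_of_isNilpotent (G := (P : Subgroup G)) (TG.subgroupOf P)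
      (lt_top_iff_ne_top.2 fun h => hne (le_antisymm (subgroupOf_eq_top.1 h) hTP))
    obtain ⟨⟨w, hwP⟩, hw, hwT⟩ := SetLike.exists_of_lt hlt
    rw [mem_subgroupOf] at hwT
    have hwN : w ∈ normalizer (TG : Set G) := by
      refine mem_normalizer_iff.2 fun v => ⟨fun hv => ?_, fun hv => ?_⟩
      · exact mem_subgroupOf.1 ((mem_normalizer_iff.1 hw ⟨v, hTP hv⟩).1 (mem_subgroupOf.2 hv))
      · have hvP : v ∈ (P : Subgroup G) := by
          have := mul_mem (mul_mem (inv_mem hwP) (hTP hv)) hwP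
          rwa [show w⁻¹ * (w * v * w⁻¹) * w = v by group] at this
        exact mem_subgroupOf.1 ((mem_normalizer_iff.1 hw ⟨v, hvP⟩).2 (mem_subgroupOf.2 hv))
    have hwM : w ∈ M := hNM ((PLocal.ThompsonComplement.normalizer_le_J TG).trans
      (PLocal.ThompsonComplement.normalizer_le_Z _) hwN)
    have hle : ((P : Subgroup G).subgroupOf M) = T :=
      T.is_maximal' (P.2.comap_subtype) fun v hv => mem_subgroupOf.2 (hTP ⟨v, hv, rfl⟩)
    exact hwT ⟨⟨w, hwM⟩, hle ▸ mem_subgroupOf.2 hwP, rfl⟩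
  have hPM : (P : Subgroup G) ≤ M := hPT ▸ map_subtype_le _
  have hctl : ∀ a ∈ (P : Subgroup G), ∀ g : G, g * a * g⁻¹ ∈ (P : Subgroup G) →
      ∃ x ∈ M, g * a * g⁻¹ = x * a * x⁻¹ := fun a ha g hg => by
    obtain ⟨x, hx, he⟩ := fusion hp2 h.abelianTwo P ha hg
    rw [hPT] at hx
    exact ⟨x, hNM hx, he⟩
  -- `p ≠ 7`, by the focal subgroup theorem
  have hfocal : (P : Subgroup G) ≤ W ⊔ S := by
    have hcomm : _root_.commutator G = ⊤ := by
      rcases IsSimpleGroup.eq_bot_or_eq_top_of_normal (_root_.commutator G) inferInstance with hb | ht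
      · refine absurd (Group.isSolvable_of_comm fun a b => ?_) h.nonsolvable
        exact commutatorElement_eq_one_iff_mul_comm.1 (mem_bot.1
          (hb ▸ commutator_mem_commutator (mem_top a) (mem_top b)))
      · exact ht
    have hP := Subgroup.commutator_inf_eq_focalSubgroup P
    rw [hcomm, top_inf_eq] at hP
    rw [hP, focalSubgroup_def, closure_le]
    rintro _ ⟨hx, x, hxP, u, rfl⟩
    have hu : u * x⁻¹ * u⁻¹ ∈ (P : Subgroup G) := by
      have := mul_mem (inv_mem hxP) hx
      rwa [commutatorElement_def, show x⁻¹ * (x * u * x⁻¹ * u⁻¹) = u * x⁻¹ * u⁻¹ by group] at this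
    obtain ⟨m, hm, he⟩ := hctl x⁻¹ (inv_mem hxP) u hu
    refine h.commutator_le_sup ?_
    have : ⁅x, u⁆ = ⁅x, m⁆ := by
      rw [commutatorElement_def, commutatorElement_def, mul_assoc x u, mul_assoc x,
        mul_assoc x m, mul_assoc x]
      exact congrArg (x * ·) he
    show ⁅x, u⁆ ∈ ⁅maxSub S, maxSub S⁆
    exact this ▸ commutator_mem_commutator (hPM hxP) hm
  have hPR : (P : Subgroup G) = R := by
    refine le_antisymm (fun x hx => ?_) (hPT ▸ hRT)
    -- a `p`-element of `W S` lies in `W`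
    have hxW : x ∈ W := by
      have hxWS := hfocal hx
      rw [← SetLike.mem_coe, coe_mul_of_right_le_normalizer_left W S
        (le_normalizer.trans h.normalizer_le_normalizer_signalizer)] at hxWS
      obtain ⟨w, hw, s, hs, rfl⟩ := hxWS
      obtain ⟨k, hk⟩ := P.2 ⟨w * s, hx⟩
      have hk' : (w * s) ^ p ^ k = 1 := congrArg Subtype.val hk
      -- modulo `W`, `s` has order dividing two and a power of `p`
      have hWn : (W.subgroupOf M).Normal := normal_subgroupOf_of_le_normalizer h.le_normalizer_signalizer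
      set f := QuotientGroup.mk' (W.subgroupOf M) with hf
      have hsM : s ∈ M := h.le_maxSub hs
      have hfw : f ⟨w, hWM hw⟩ = 1 := (QuotientGroup.eq_one_iff _).2 (mem_subgroupOf.2 hw)
      have h1 : f ⟨s, hsM⟩ ^ p ^ k = 1 := by
        rw [show f ⟨s, hsM⟩ = f (⟨w, hWM hw⟩ * ⟨s, hsM⟩) by rw [map_mul, hfw, one_mul], ← map_pow,
          show ((⟨w, hWM hw⟩ * ⟨s, hsM⟩ : M)) ^ p ^ k = 1 from Subtype.ext hk', map_one]
      have h2 : f ⟨s, hsM⟩ ^ 2 = 1 := by
        rw [← map_pow, show (⟨s, hsM⟩ : M) ^ 2 = 1 from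
          Subtype.ext (by rw [SubgroupClass.coe_pow, pow_two, h.sq s hs]; rfl), map_one]
      have hd := Nat.dvd_gcd (orderOf_dvd_of_pow_eq_one h1) (orderOf_dvd_of_pow_eq_one h2)
      rw [(Nat.Coprime.pow_left k ((Nat.coprime_primes hp.out Nat.prime_two).2 hp2)).gcd_eq_one,
        Nat.dvd_one, orderOf_eq_one_iff] at hd
      exact mul_mem hw (mem_subgroupOf.1 ((QuotientGroup.eq_one_iff _).1 hd))
    have hmax := Q.is_maximal' (P.2.comap_subtype (K := W)) fun v hv =>
      mem_subgroupOf.2 ((hPT ▸ hRT) (hQR ▸ ⟨v, hv, rfl⟩))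
    rw [← hQR]
    exact ⟨⟨x, hxW⟩, hmax ▸ mem_subgroupOf.2 hx, rfl⟩
  refine ⟨⟨P, hPR⟩, hRW, hRS, fun y hy hyp g hg hgood => ?_⟩
  obtain ⟨m, hm, hmy⟩ := h.exists_conj_mem_of_isPGroup P hPM hy hyp
  obtain ⟨m', hm', hmy'⟩ := h.exists_conj_mem_of_isPGroup P hPM hg (by
    obtain ⟨k, hk⟩ := hyp
    exact ⟨k, by rw [conj_pow, hk, mul_one, mul_inv_cancel]⟩)
  have heq : m' * g * m⁻¹ * (m * y * m⁻¹) * (m' * g * m⁻¹)⁻¹ = m' * (g * y * g⁻¹) * m'⁻¹ := by group
  obtain ⟨x, hx, he⟩ := hctl _ hmy (m' * g * m⁻¹) (heq ▸ hmy')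
  have hc : m⁻¹ * x⁻¹ * m' * g ∈ centralizer ({y} : Set G) := by
    rw [mem_centralizer_singleton_iff, ← mul_inv_eq_iff_eq_mul]
    calc m⁻¹ * x⁻¹ * m' * g * y * (m⁻¹ * x⁻¹ * m' * g)⁻¹
        = m⁻¹ * x⁻¹ * (m' * g * m⁻¹ * (m * y * m⁻¹) * (m' * g * m⁻¹)⁻¹) * x * m := by group
      _ = m⁻¹ * x⁻¹ * (x * (m * y * m⁻¹) * x⁻¹) * x * m := by rw [he]
      _ = y := by group
  have := mul_mem (mul_mem (mul_mem (inv_mem hm') hx) hm) (hgood hc)
  rwa [show m'⁻¹ * x * m * (m⁻¹ * x⁻¹ * m' * g) = g by group] at this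

end Cfsg.Agent.Hall.Numbers.Seven
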