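import Mathlib

/-!
Elementary lemmas on commuting involutions acting on groups of odd order.
-/

set_option autoImplicit false

namespace Cfsg.Agent.Hall.Numbers.Seven

open Subgroup
open scoped commutatorElement

variable {G : Type*} [Group G]

/-- If the product of two elements outside `B` lies in `B`, then `B` has index at most two in `A`. -/
theorem card_le_two_mul [Finite G] {A B : Subgroup G}
    (h : ∀ a ∈ A, ∀ b ∈ A, a ∉ B → b ∉ B → a * b ∈ B) : Nat.card A ≤ 2 * Nat.card B := by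
  classical
  by_cases hAB : A ≤ B
  · have := card_le_of_le hAB; omega
  obtain ⟨a, ha, haB⟩ := SetLike.not_le_iff_exists.1 hAB
  have hinj : Function.Injective (fun x : A => if hx : (x : G) ∈ B then ((⟨x, hx⟩ : B), false)
      else (⟨a * x, h a ha x x.2 haB hx⟩, true)) := by
    intro x y hxy
    by_cases hx : (x : G) ∈ B <;> by_cases hy : (y : G) ∈ B <;>
      simp only [dif_pos, dif_neg, hx, hy, not_false_iff, Prod.mk.injEq, Subtype.mk.injEq,
        mul_right_inj, Bool.false_eq_true, Bool.true_eq_false, and_false, and_true] at hxy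
    all_goals exact Subtype.ext hxy
  refine (Nat.card_le_card_of_injective _ hinj).trans ?_
  rw [Nat.card_prod, Nat.card_eq_fintype_card (α := Bool), Fintype.card_bool, mul_comm]

/-- Commuting involutions have a common eigenvector outside a given proper subgroup. -/
theorem exists_eigen [Finite G] {V X : Subgroup G} (hXV : ¬ V ≤ X)
    (hV : ∀ a ∈ V, ∀ b ∈ V, a * b = b * a) (hodd : ∀ v ∈ V, Odd (orderOf v)) :
    ∀ L : List G, (∀ t ∈ L, ∀ v ∈ V, t * v * t⁻¹ ∈ V) → (∀ t ∈ L, ∀ t' ∈ L, t * t' = t' * t) →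
      (∀ t ∈ L, t * t = 1) →
      ∃ y ∈ V, y ∉ X ∧ ∀ t ∈ L, t * y * t⁻¹ = y ∨ t * y * t⁻¹ = y⁻¹ := by
  intro L
  induction L with
  | nil =>
    intros
    obtain ⟨y, hy, hyX⟩ := SetLike.not_le_iff_exists.1 hXV
    exact ⟨y, hy, hyX, by simp⟩
  | cons t L ih =>
    intro hn hc hs
    obtain ⟨y, hy, hyX, heig⟩ := ih (fun a ha => hn a (List.mem_cons_of_mem _ ha))
      (fun a ha b hb => hc a (List.mem_cons_of_mem _ ha) b (List.mem_cons_of_mem _ hb))
      (fun a ha => hs a (List.mem_cons_of_mem _ ha))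
    set s := t * y * t⁻¹ with hsdef
    have hsV : s ∈ V := hn t List.mem_cons_self y hy
    have hts : t * s * t⁻¹ = y := by
      have ht := hs t List.mem_cons_self
      calc t * s * t⁻¹ = (t * t) * y * (t * t)⁻¹ := by rw [hsdef]; group
        _ = y := by rw [ht]; group
    have hmove : ∀ a ∈ L, ∀ e : G, (a * y * a⁻¹ = e) → a * s * a⁻¹ = t * e * t⁻¹ := by
      intro a ha e he
      have hat := hc a (List.mem_cons_of_mem _ ha) t List.mem_cons_self
      calc a * s * a⁻¹ = (a * t) * y * (a * t)⁻¹ := by rw [hsdef]; group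
        _ = (t * a) * y * (t * a)⁻¹ := by rw [hat]
        _ = t * (a * y * a⁻¹) * t⁻¹ := by group
        _ = t * e * t⁻¹ := by rw [he]
    have hys : Commute y s := hV y hy s hsV
    have hsi : t * y⁻¹ * t⁻¹ = s⁻¹ := by rw [hsdef]; group
    have hsq : ¬ y * y ∈ X := fun h => hyX (by
      obtain ⟨k, hk⟩ := hodd y hy
      have h1 : (y * y) ^ (k + 1) = y := by
        rw [← pow_two, ← pow_mul, show 2 * (k + 1) = orderOf y + 1 by omega, pow_succ,
          pow_orderOf_eq_one, one_mul]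
      exact h1 ▸ pow_mem h _)
    by_cases h1 : y * s ∈ X
    · refine ⟨y * s⁻¹, mul_mem hy (inv_mem hsV), fun h2 => hsq ?_, fun a ha => ?_⟩
      · have := mul_mem h1 h2
        rwa [show y * s * (y * s⁻¹) = y * y by
          rw [← mul_assoc, mul_assoc y s y, ← hys.eq]; group] at this
      · rcases List.mem_cons.1 ha with rfl | ha
        · refine Or.inr ?_
          rw [← conj_mul, ← conj_inv, ← hsdef, hts, mul_inv_rev, inv_inv]
        · rcases heig a ha with he | he
          · refine Or.inl ?_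
            rw [← conj_mul, ← conj_inv, he, hmove a ha y he]
          · refine Or.inr ?_
            rw [← conj_mul, ← conj_inv, he, hmove a ha _ he, hsi, inv_inv, mul_inv_rev, inv_inv]
            exact hys.inv_left.eq
    · refine ⟨y * s, mul_mem hy hsV, h1, fun a ha => ?_⟩
      rcases List.mem_cons.1 ha with rfl | ha
      · refine Or.inl ?_
        rw [← conj_mul, ← hsdef, hts]
        exact hys.eq.symm
      · rcases heig a ha with he | he
        · refine Or.inl ?_
          rw [← conj_mul, he, hmove a ha y he]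
        · refine Or.inr ?_
          rw [← conj_mul, he, hmove a ha _ he, hsi]
          exact hys.inv_left.inv_right.eq.trans (mul_inv_rev y s).symm

/-- The same statement for a subgroup of commuting involutions. -/
theorem exists_eigen_subgroup [Finite G] {S V X : Subgroup G} (hXV : ¬ V ≤ X)
    (hV : ∀ a ∈ V, ∀ b ∈ V, a * b = b * a) (hodd : ∀ v ∈ V, Odd (orderOf v))
    (hSV : S ≤ normalizer (V : Set G)) (hS : ∀ s ∈ S, s * s = 1) :
    ∃ y ∈ V, y ∉ X ∧ ∀ t ∈ S, t * y * t⁻¹ = y ∨ t * y * t⁻¹ = y⁻¹ := by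
  classical
  have hmem : ∀ t, t ∈ (Set.toFinite (S : Set G)).toFinset.toList ↔ t ∈ S := by simp
  obtain ⟨y, hy, hyX, h⟩ := exists_eigen hXV hV hodd (Set.toFinite (S : Set G)).toFinset.toList
    (fun t ht v hv => (mem_normalizer_iff.1 (hSV ((hmem t).1 ht)) v).1 hv)
    (fun a ha b hb => by
      have hi : ∀ s ∈ S, s⁻¹ = s := fun s hs => inv_eq_of_mul_eq_one_right (hS s hs)
      have ha' := (hmem a).1 ha
      have hb' := (hmem b).1 hb
      calc a * b = (a * b)⁻¹ := (hi _ (mul_mem ha' hb')).symm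
        _ = b * a := by rw [mul_inv_rev, hi _ ha', hi _ hb'])
    (fun t ht => hS t ((hmem t).1 ht))
  exact ⟨y, hy, hyX, fun t ht => h t ((hmem t).2 ht)⟩

/-- The same statement modulo a subgroup. -/
theorem exists_eigen_mod [Finite G] {S V Z : Subgroup G} (hne : ¬ V ≤ Z)
    (hab : ∀ a ∈ V, ∀ b ∈ V, ⁅a, b⁆ ∈ Z) (hodd : ∀ v ∈ V, Odd (orderOf v))
    (hVZ : V ≤ normalizer (Z : Set G)) (hSZ : S ≤ normalizer (Z : Set G))
    (hSV : S ≤ normalizer (V : Set G)) (hS : ∀ s ∈ S, s * s = 1) :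
    ∃ y ∈ V, y ∉ Z ∧ ∀ t ∈ S, t * y * t⁻¹ * y⁻¹ ∈ Z ∨ t * y * t⁻¹ * y ∈ Z := by
  set N := normalizer (Z : Set G)
  set f := QuotientGroup.mk' (Z.subgroupOf N) with hf
  have hone : ∀ x : N, f x = 1 ↔ (x : G) ∈ Z := fun x =>
    (QuotientGroup.eq_one_iff x).trans mem_subgroupOf
  set Vb := (V.subgroupOf N).map f
  have h1 : ¬ Vb ≤ ⊥ := fun hle =>
    hne fun v hv => (hone ⟨v, hVZ hv⟩).1 (mem_bot.1 (hle ⟨_, hv, rfl⟩))
  have h2 : ∀ a ∈ Vb, ∀ b ∈ Vb, a * b = b * a := by
    rintro _ ⟨a, ha, rfl⟩ _ ⟨b, hb, rfl⟩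
    rw [← commutatorElement_eq_one_iff_mul_comm, ← map_commutatorElement, hone]
    exact hab _ ha _ hb
  have h3 : ∀ v ∈ Vb, Odd (orderOf v) := by
    rintro _ ⟨a, ha, rfl⟩
    exact (hodd _ ha).of_dvd_nat ((orderOf_map_dvd f a).trans (Subgroup.orderOf_coe a).symm.dvd)
  have h4 : (S.subgroupOf N).map f ≤ normalizer (Vb : Set (N ⧸ Z.subgroupOf N)) := by
    rintro _ ⟨t, ht, rfl⟩
    refine le_normalizer_map f ⟨t, mem_normalizer_iff.2 fun x => ?_, rfl⟩
    exact mem_normalizer_iff.1 (hSV ht) (x : G)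
  have h5 : ∀ t ∈ (S.subgroupOf N).map f, t * t = 1 := by
    rintro _ ⟨t, ht, rfl⟩
    rw [← map_mul, show t * t = 1 from Subtype.ext (hS _ ht), map_one]
  obtain ⟨yb, hyb, hy1, heig⟩ := exists_eigen_subgroup h1 h2 h3 h4 h5
  obtain ⟨y, hy, rfl⟩ := hyb
  refine ⟨y, hy, fun h => hy1 (mem_bot.2 ((hone y).2 h)), fun t ht => ?_⟩
  rcases heig (f ⟨t, hSZ ht⟩) ⟨_, ht, rfl⟩ with he | he
  · left
    refine (hone (⟨t, hSZ ht⟩ * y * ⟨t, hSZ ht⟩⁻¹ * y⁻¹)).1 ?_
    rw [map_mul, map_mul, map_mul, map_inv, map_inv, he, mul_inv_cancel]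
  · right
    refine (hone (⟨t, hSZ ht⟩ * y * ⟨t, hSZ ht⟩⁻¹ * y)).1 ?_
    rw [map_mul, map_mul, map_mul, map_inv, he, inv_mul_cancel]

/-- Products in a group of class two and odd prime exponent. -/
theorem mul_pow_eq_one {p : ℕ} (hp : p.Prime) (hp2 : p ≠ 2) {a b c : G} (hab : b * a = a * b * c)
    (hca : Commute c a) (hcb : Commute c b) (ha : a ^ p = 1) (hb : b ^ p = 1) (hc : c ^ p = 1) :
    (a * b) ^ p = 1 := by
  have hmove : ∀ n : ℕ, b ^ n * a = a * b ^ n * c ^ n := by
    intro n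
    induction n with
    | zero => simp
    | succ n ih =>
      calc b ^ (n + 1) * a = b ^ n * (b * a) := by rw [pow_succ, mul_assoc]
        _ = b ^ n * a * (b * c) := by rw [hab]; group
        _ = a * b ^ n * (c ^ n * b) * c := by rw [ih]; group
        _ = a * b ^ n * (b * c ^ n) * c := by rw [(hcb.pow_left n).eq]
        _ = a * b ^ (n + 1) * c ^ (n + 1) := by simp only [pow_succ, mul_assoc]
  have hpow : ∀ n : ℕ, (a * b) ^ n = a ^ n * b ^ n * c ^ n.choose 2 := by
    intro n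
    induction n with
    | zero => simp
    | succ n ih =>
      rw [pow_succ, ih, Nat.choose_succ_succ', Nat.choose_one_right]
      calc a ^ n * b ^ n * c ^ n.choose 2 * (a * b)
          = a ^ n * b ^ n * (c ^ n.choose 2 * a) * b := by group
        _ = a ^ n * (b ^ n * a) * (c ^ n.choose 2 * b) := by rw [(hca.pow_left _).eq]; group
        _ = a ^ n * a * b ^ n * (c ^ n * c ^ n.choose 2 * b) := by rw [hmove]; group
        _ = a ^ n * a * b ^ n * (b * (c ^ n * c ^ n.choose 2)) := by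
            rw [((hcb.pow_left n).mul_left (hcb.pow_left _)).eq]
        _ = _ := by simp only [pow_succ, pow_add, mul_assoc]
  obtain ⟨k, hk⟩ := hp.dvd_choose_self (by norm_num : (2 : ℕ) ≠ 0) (lt_of_le_of_ne hp.two_le hp2.symm)
  rw [hpow, ha, hb, hk, pow_mul, hc, one_pow, one_mul, one_mul]

end Cfsg.Agent.Hall.Numbers.Seven
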