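import Cfsg.Agent.Lib.Hall.NumbersSevenReduce
import Cfsg.Agent.S0217
import Cfsg.Agent.InvChar.Solvable
import Cfsg.Agent.Lib.Coprime.Generation
import Cfsg.Agent.Lib.Transfer.NormalPComplement
import Cfsg.Agent.Lib.Involutions.StronglyEmbedded

/-!
The minimal counterexample has a strongly embedded subgroup which contains every proper subgroup
meeting it in a subgroup with a noncyclic Sylow 2-subgroup.
-/

set_option autoImplicit false

namespace Cfsg.Agent.Hall.Numbers.Seven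

open Subgroup

universe u

variable {G : Type u} [Group G] [Finite G] [IsSimpleGroup G] {S : Subgroup G}

theorem Setup.centralizer_ne_top (h : Setup S) {x : G} (hx : x ≠ 1) :
    centralizer ({x} : Set G) ≠ ⊤ := by
  intro htop
  have hxc : x ∈ center G := mem_center_iff.2 fun g =>
    mem_centralizer_singleton_iff.1 (htop ▸ mem_top g : g ∈ centralizer ({x} : Set G))
  rcases IsSimpleGroup.eq_bot_or_eq_top_of_normal (center G) inferInstance with hb | ht
  · exact hx (mem_bot.1 (hb ▸ hxc))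
  · exact h.nonsolvable (Group.isSolvable_of_comm fun a b =>
      (mem_center_iff.1 (ht ▸ mem_top b : b ∈ center G) a))

theorem Setup.comm (h : Setup S) : IsMulCommutative S := isMulCommutative_of_sq h.sq

theorem Setup.mul_comm' (h : Setup S) {a b : G} (ha : a ∈ S) (hb : b ∈ S) : a * b = b * a :=
  congrArg Subtype.val (h.comm.is_comm.comm ⟨a, ha⟩ ⟨b, hb⟩)

theorem Setup.orderOf_two (h : Setup S) {a : G} (ha : a ∈ S) (ha1 : a ≠ 1) : orderOf a = 2 :=
  orderOf_eq_prime (by rw [pow_two, h.sq a ha]) ha1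

theorem Setup.abelianTwo (h : Setup S) : PLocal.Quadratic.AbelianTwo G := by
  intro T
  have : Fact (Nat.Prime 2) := ⟨Nat.prime_two⟩
  obtain ⟨T0, rfl⟩ := h.sylow
  have := h.comm
  obtain ⟨e⟩ := (⟨T.equiv T0⟩ : Nonempty ((T : Subgroup G) ≃* (T0 : Subgroup G)))
  exact ⟨⟨fun a b => e.injective (by rw [map_mul, map_mul, this.is_comm.comm])⟩⟩

/-- Every 2-subgroup is conjugate into `S`. -/
theorem Setup.exists_conj_le (h : Setup S) {Q : Subgroup G} (hQ : IsPGroup 2 Q) :
    ∃ g : G, ∀ x ∈ Q, g * x * g⁻¹ ∈ S := by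
  have : Fact (Nat.Prime 2) := ⟨Nat.prime_two⟩
  obtain ⟨T0, rfl⟩ := h.sylow
  obtain ⟨T, hT⟩ := hQ.exists_le_sylow
  obtain ⟨g, hg⟩ := MulAction.exists_smul_eq G T T0
  refine ⟨g, fun x hx => ?_⟩
  rw [← hg]
  show g * x * g⁻¹ ∈ ((g • T : Sylow 2 G) : Set G)
  rw [Sylow.coe_smul]
  exact ⟨x, hT hx, rfl⟩

/-- The odd part of the centralizer of `a`. -/
def theta (a : G) : Subgroup G :=
  (Cfsg.oddCore (centralizer ({a} : Set G))).map (centralizer ({a} : Set G)).subtype

theorem theta_le (a : G) : theta a ≤ centralizer ({a} : Set G) := map_subtype_le _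

theorem theta_odd (a : G) : Odd (Nat.card (theta a)) := by
  rw [theta, card_map_of_injective (subtype_injective _)]
  exact Cores.oddCore_odd

/-- `C(a)` has a normal 2-complement with complement `S`. -/
theorem Setup.centralizer_eq (h : Setup S) {a : G} (ha : a ∈ S) (ha1 : a ≠ 1) :
    theta a ⊔ S = centralizer ({a} : Set G) := by
  have : Fact (Nat.Prime 2) := ⟨Nat.prime_two⟩
  obtain ⟨T0, hT0⟩ := h.sylow
  set C := centralizer ({a} : Set G) with hC
  have hSC : S ≤ C := fun s hs => mem_centralizer_singleton_iff.2 (h.mul_comm' hs ha)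
  let T : Sylow 2 C := T0.subtype (hT0 ▸ hSC)
  have hT : (T : Subgroup C).map C.subtype = S := by
    simp only [T, Sylow.coe_subtype, hT0]
    exact map_subgroupOf_eq_of_le hSC
  have hnc : normalizer ((T : Subgroup C) : Set C) ≤ centralizer ((T : Subgroup C) : Set C) := by
    intro n hn
    have hnS : (n : G) ∈ normalizer (S : Set G) := by
      rw [← hT]
      exact le_normalizer_map C.subtype ⟨n, hn, rfl⟩
    have hfix := h.fix n hnS a ha ha1 (mem_centralizer_singleton_iff.1 n.2)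
    refine mem_centralizer_iff.2 fun x hx => Subtype.ext ?_
    exact mem_centralizer_iff.1 hfix x (hT ▸ ⟨x, hx, rfl⟩)
  obtain ⟨P, N, hN, hNP⟩ := Transfer.NormalPComplement.hasNormalPComplement_of_normalizer_le_centralizer T hnc
  have hNodd : Odd (Nat.card N) := by
    rw [← Nat.not_even_iff_odd, even_iff_two_dvd, ← hNP.index_eq_card]
    exact P.not_dvd_index
  have := hN
  have hsup : Cfsg.oddCore C ⊔ (T : Subgroup C) = ⊤ := by
    obtain ⟨c, hc⟩ := MulAction.exists_smul_eq C P T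
    rw [← hc]
    refine top_unique fun x _ => ?_
    have hx : c⁻¹ * x * c ∈ Cfsg.oddCore C ⊔ (P : Subgroup C) :=
      (show N ⊔ (P : Subgroup C) ≤ _ from sup_le_sup_right (Cores.le_oddCore hNodd) _)
        (hNP.sup_eq_top.ge (mem_top _))
    obtain ⟨u, hu, v, hv, huv⟩ := mem_sup_of_normal_left.1 hx
    rw [show x = c * u * c⁻¹ * (c * v * c⁻¹) by
      rw [show c * u * c⁻¹ * (c * v * c⁻¹) = c * (u * v) * c⁻¹ by group, huv]; group]
    refine mul_mem_sup ((Cores.pPrimeCore_normal (p := 2)).conj_mem u hu c) ?_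
    show c * v * c⁻¹ ∈ ((c • P : Sylow 2 C) : Set C)
    rw [Sylow.coe_smul]
    exact ⟨v, hv, rfl⟩
  rw [theta, ← hT, ← Subgroup.map_sup, hsup, ← MonoidHom.range_eq_map, range_subtype]

theorem Setup.mem_theta_iff (h : Setup S) {a : G} (ha : a ∈ S) (ha1 : a ≠ 1) {x : G} :
    x ∈ theta a ↔ x ∈ centralizer ({a} : Set G) ∧ Odd (orderOf x) := by
  refine ⟨fun hx => ⟨theta_le a hx, (theta_odd a).of_dvd_nat (orderOf_dvd_natCard _ hx)⟩,
    fun ⟨hxC, hxo⟩ => ?_⟩
  set C := centralizer ({a} : Set G) with hC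
  obtain ⟨y, hy⟩ : ∃ y : C, (y : G) = x := ⟨⟨x, hxC⟩, rfl⟩
  refine ⟨y, ?_, hy⟩
  set O := Cfsg.oddCore C with hO
  show y ∈ O
  have : O.Normal := Cores.pPrimeCore_normal (p := 2)
  rw [← QuotientGroup.eq_one_iff, ← orderOf_eq_one_iff]
  have h1 : orderOf (QuotientGroup.mk' O y) ∣ orderOf x := by
    rw [← hy, Subgroup.orderOf_coe]; exact orderOf_map_dvd _ _
  have h2 : orderOf (QuotientGroup.mk' O y) ∣ 2 := by
    have hy' : (y : G) ∈ theta a ⊔ S := (h.centralizer_eq ha ha1).symm ▸ y.2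
    have hSC : S ≤ C := le_sup_right.trans (h.centralizer_eq ha ha1).le
    have : y ∈ O ⊔ S.subgroupOf C := by
      rw [← map_subgroupOf_eq_of_le hSC, theta, ← Subgroup.map_sup] at hy'
      exact (mem_map_iff_mem C.subtype_injective).1 hy'
    obtain ⟨u, hu, v, hv, rfl⟩ := mem_sup_of_normal_left.1 this
    rw [map_mul, (QuotientGroup.eq_one_iff u).2 hu |> fun e => (show QuotientGroup.mk' O u = 1 from e),
      one_mul]
    refine orderOf_dvd_of_pow_eq_one ?_
    rw [← map_pow, pow_two, show v * v = 1 from Subtype.ext (h.sq _ hv), map_one]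
  exact Nat.dvd_one.1 ((Nat.coprime_two_right.2 hxo).gcd_eq_one ▸ Nat.dvd_gcd h1 h2)

/-- The signalizer. -/
def signalizer (S : Subgroup G) : Subgroup G := ⨆ a : {a : G // a ∈ S ∧ a ≠ 1}, theta a.1

/-- The strongly embedded subgroup. -/
def maxSub (S : Subgroup G) : Subgroup G := signalizer S ⊔ normalizer (S : Set G)

theorem Setup.signalizer_spec (h : Setup S) : Odd (Nat.card (signalizer S)) ∧
    ∀ a ∈ S, a ≠ 1 → signalizer S ⊓ centralizer ({a} : Set G) = theta a := by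
  have : Fact (Nat.Prime 2) := ⟨Nat.prime_two⟩
  obtain ⟨h1, h2⟩ := Cfsg.Agent.S0217.result (p := 2) S (fun a ha b hb => h.mul_comm' ha hb)
    (fun a ha => by rw [pow_two, h.sq a ha]) (by rw [h.card]; norm_num) theta (fun a _ _ => theta_le a)
    (fun a _ _ h2 => Nat.not_even_iff_odd.2 (theta_odd a) (even_iff_two_dvd.2 h2))
    (fun a ha ha1 b hb x hx => by
      rw [h.mem_theta_iff ha ha1] at hx ⊢
      refine ⟨mul_mem (mul_mem ?_ hx.1) (inv_mem ?_), by
        rw [Involutions.Basic.orderOf_conj]; exact hx.2⟩ <;>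
      exact mem_centralizer_singleton_iff.2 (h.mul_comm' hb ha))
    (fun a _ ha1 =>
      have := h.solvable _ (h.centralizer_ne_top ha1)
      Group.isSolvable_of_isSolvable_injective (inclusion_injective (theta_le a)))
    (fun a ha ha1 b hb hb1 x hx => (h.mem_theta_iff hb hb1).2
      ⟨hx.2, ((h.mem_theta_iff ha ha1).1 hx.1).2⟩)
  exact ⟨Nat.not_even_iff_odd.1 fun he => h1 (even_iff_two_dvd.1 he), h2⟩

theorem Setup.normalizer_le_normalizer_signalizer (h : Setup S) :
    normalizer (S : Set G) ≤ normalizer (signalizer S : Set G) := by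
  have key : ∀ n ∈ normalizer (S : Set G), ∀ x ∈ signalizer S, n * x * n⁻¹ ∈ signalizer S := by
    intro n hn
    suffices signalizer S ≤ (signalizer S).comap (MulAut.conj n).toMonoidHom from this
    refine iSup_le fun ⟨a, ha, ha1⟩ x hx => ?_
    have hb : n * a * n⁻¹ ∈ S := (mem_normalizer_iff.1 hn a).1 ha
    have hb1 : n * a * n⁻¹ ≠ 1 := fun h1 => ha1 (conj_eq_one_iff.1 h1)
    refine mem_iSup_of_mem (⟨_, hb, hb1⟩ : {a : G // a ∈ S ∧ a ≠ 1}) ?_
    show n * x * n⁻¹ ∈ theta (n * a * n⁻¹)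
    rw [h.mem_theta_iff ha ha1] at hx
    rw [h.mem_theta_iff hb hb1, mem_centralizer_singleton_iff, Involutions.Basic.orderOf_conj]
    exact ⟨(show Commute x a from mem_centralizer_singleton_iff.1 hx.1).map
      (MulAut.conj n).toMonoidHom |>.eq, hx.2⟩
  intro n hn
  refine mem_normalizer_iff.2 fun x => ⟨key n hn x, fun hx => ?_⟩
  have := key n⁻¹ (inv_mem hn) _ hx
  rwa [show n⁻¹ * (n * x * n⁻¹) * n⁻¹⁻¹ = x by group] at this

theorem Setup.maxSub_ne_top (h : Setup S) : maxSub S ≠ ⊤ := by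
  intro htop
  have hn : normalizer (signalizer S : Set G) = ⊤ := top_unique (htop ▸
    sup_le le_normalizer h.normalizer_le_normalizer_signalizer)
  rcases IsSimpleGroup.eq_bot_or_eq_top_of_normal (signalizer S) (normalizer_eq_top_iff.1 hn) with
    hb | ht
  · rw [maxSub, hb, bot_sup_eq, normalizer_eq_top_iff] at htop
    rcases IsSimpleGroup.eq_bot_or_eq_top_of_normal S htop with hb | ht
    · have := h.card
      rw [hb, Subgroup.card_bot] at this
      omega
    · refine h.nonsolvable (Group.isSolvable_of_comm fun a b => ?_)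
      exact h.mul_comm' (ht ▸ mem_top a) (ht ▸ mem_top b)
  · have h1 := h.signalizer_spec.1
    rw [ht, card_top] at h1
    refine Nat.not_even_iff_odd.2 h1 (even_iff_two_dvd.2 ?_)
    exact (show 2 ∣ Nat.card S by rw [h.card]; norm_num).trans S.card_subgroup_dvd_card

theorem Setup.le_maxSub (h : Setup S) : S ≤ maxSub S :=
  le_sup_of_le_right le_normalizer

theorem Setup.centralizer_le_maxSub (h : Setup S) {a : G} (ha : a ∈ S) (ha1 : a ≠ 1) :
    centralizer ({a} : Set G) ≤ maxSub S := by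
  rw [← h.centralizer_eq ha ha1]
  exact sup_le (le_sup_of_le_left (le_iSup (fun b : {a : G // a ∈ S ∧ a ≠ 1} => theta b.1) ⟨a, ha, ha1⟩))
    h.le_maxSub

/-- A 2-subgroup of `maxSub S` is conjugate in it into `S`. -/
theorem Setup.exists_conj_le_maxSub (h : Setup S) {Q : Subgroup G} (hQ : IsPGroup 2 Q)
    (hQM : Q ≤ maxSub S) : ∃ m ∈ maxSub S, ∀ x ∈ Q, m * x * m⁻¹ ∈ S := by
  have : Fact (Nat.Prime 2) := ⟨Nat.prime_two⟩
  obtain ⟨T0, hT0⟩ := h.sylow
  set M := maxSub S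
  let T : Sylow 2 M := T0.subtype (hT0 ▸ h.le_maxSub)
  obtain ⟨T', hT'⟩ := (hQ.comap_subtype (K := M)).exists_le_sylow
  obtain ⟨m, hm⟩ := MulAction.exists_smul_eq M T' T
  refine ⟨m, m.2, fun x hx => ?_⟩
  have : m * ⟨x, hQM hx⟩ * m⁻¹ ∈ (T : Subgroup M) := by
    rw [← hm]
    show _ ∈ ((m • T' : Sylow 2 M) : Set M)
    rw [Sylow.coe_smul]
    exact ⟨⟨x, hQM hx⟩, hT' (mem_subgroupOf.2 hx), rfl⟩
  rw [← hT0]
  exact this

theorem Setup.exists_conj_mem (h : Setup S) {x : G} (hxM : x ∈ maxSub S) (hx : orderOf x = 2) :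
    ∃ m ∈ maxSub S, m * x * m⁻¹ ∈ S := by
  have : Fact (Nat.Prime 2) := ⟨Nat.prime_two⟩
  obtain ⟨m, hm, hmx⟩ := h.exists_conj_le_maxSub
    (IsPGroup.of_card (n := 1) (by rw [Nat.card_zpowers, hx, pow_one]) : IsPGroup 2 (zpowers x))
    (zpowers_le.2 hxM)
  exact ⟨m, hm, hmx x (mem_zpowers x)⟩

/-- `maxSub S` is strongly embedded. -/
theorem Setup.stronglyEmbedded (h : Setup S) : Cfsg.IsStronglyEmbedded (maxSub S) := by
  have heven : Even (Nat.card (maxSub S)) := even_iff_two_dvd.2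
    ((show 2 ∣ Nat.card S by rw [h.card]; norm_num).trans (card_dvd_of_le h.le_maxSub))
  refine Involutions.StronglyEmbedded.of_conj h.maxSub_ne_top heven fun t ht ht2 g hg => ?_
  obtain ⟨m, hm, hs⟩ := h.exists_conj_mem ht ht2
  obtain ⟨m', hm', hs'⟩ := h.exists_conj_mem hg (by rw [Involutions.Basic.orderOf_conj, ht2])
  have hne : ∀ y z : G, orderOf z = 2 → y * z * y⁻¹ ≠ 1 := fun y z hz h1 =>
    Involutions.Basic.ne_one hz (conj_eq_one_iff.1 h1)
  have hs1 := hne m t ht2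
  obtain ⟨n, hn, hns⟩ := h.trans _ hs hs1 _ hs' (hne m' _ (by rw [Involutions.Basic.orderOf_conj, ht2]))
  have hc : n⁻¹ * m' * g * m⁻¹ ∈ centralizer ({m * t * m⁻¹} : Set G) := by
    rw [mem_centralizer_singleton_iff, ← mul_inv_eq_iff_eq_mul]
    calc n⁻¹ * m' * g * m⁻¹ * (m * t * m⁻¹) * (n⁻¹ * m' * g * m⁻¹)⁻¹
        = n⁻¹ * (m' * (g * t * g⁻¹) * m'⁻¹) * n := by group
      _ = m * t * m⁻¹ := by rw [← hns]; group
  have := mul_mem (mul_mem (mul_mem (inv_mem hm') (mem_sup_right hn : n ∈ maxSub S))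
    (h.centralizer_le_maxSub hs hs1 hc)) hm
  rwa [show m'⁻¹ * n * (n⁻¹ * m' * g * m⁻¹) * m = g by group] at this

theorem Setup.le_of_four_aux (h : Setup S) {H U : Subgroup G} (hH : H ≠ ⊤) (hUS : U ≤ S) (hUH : U ≤ H)
    (h4 : 4 ∣ Nat.card U) : H ≤ maxSub S := by
  have : Fact (Nat.Prime 2) := ⟨Nat.prime_two⟩
  have hSH := h.solvable H hH
  set O := (Cfsg.oddCore H).map H.subtype with hO
  have hUcomm : IsMulCommutative U :=
    ⟨⟨fun a b => Subtype.ext (h.mul_comm' (hUS a.2) (hUS b.2))⟩⟩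
  have hUc : ¬ IsCyclic U := fun hc => by
    obtain ⟨g, hg⟩ := hc.exists_ofOrder_eq_natCard
    have h2 : orderOf g ∣ 2 := orderOf_dvd_of_pow_eq_one (Subtype.ext (by
      simp [pow_two, h.sq _ (hUS g.2)]))
    rw [hg] at h2
    exact absurd (Nat.le_of_dvd (by norm_num) (h4.trans h2)) (by norm_num)
  have hUO : U ≤ normalizer (O : Set G) := fun u hu =>
    le_normalizer_map H.subtype ⟨⟨u, hUH hu⟩,
      (normalizer_eq_top_iff.2 (Cores.pPrimeCore_normal (p := 2))).ge (mem_top _), rfl⟩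
  have hOodd : Odd (Nat.card O) := by
    rw [hO, card_map_of_injective (subtype_injective _)]; exact Cores.oddCore_odd
  obtain ⟨k, hk⟩ : ∃ k, Nat.card U = 2 ^ k :=
    ((show IsPGroup 2 S from IsPGroup.of_card (n := 3) (by rw [h.card]; norm_num)).to_le hUS).exists_card_eq
  have hOM : O ≤ maxSub S := by
    rw [← Coprime.fixedGen_eq hUc hUO (hk ▸ (Nat.coprime_two_left.2 hOodd).pow_left k)]
    exact iSup₂_le fun a ha => inf_le_right.trans (h.centralizer_le_maxSub (hUS ha.1) ha.2)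
  -- the Sylow subgroup of the quotient is normal
  obtain ⟨T, hT⟩ := (((IsPGroup.of_card hk).comap_subtype (K := H))).exists_le_sylow
  set f := QuotientGroup.mk' (Cfsg.oddCore H) with hf
  have hX : Cfsg.oddCore (H ⧸ Cfsg.oddCore H) = ⊥ := Cores.pPrimeCore_quotient_self 2
  have hC := InvChar.Solvable.centralizer_pCore_two_le
    (Group.isSolvable_of_surjective (QuotientGroup.mk'_surjective _) : Group.IsSolvable (H ⧸ Cfsg.oddCore H)) hX
  set Tb := T.mapSurjective (QuotientGroup.mk'_surjective (Cfsg.oddCore H)) with hTb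
  have hQT := Cores.pCore_le_sylow (p := 2) Tb
  have hTQ : (Tb : Subgroup (H ⧸ Cfsg.oddCore H)) ≤ Cfsg.pCore 2 (H ⧸ Cfsg.oddCore H) := by
    refine le_trans (fun y hy => mem_centralizer_iff.2 fun q hq => ?_) hC
    have := (h.abelianTwo.subgroup H).of_surjective (QuotientGroup.mk'_surjective (Cfsg.oddCore H)) Tb
    exact congrArg Subtype.val (this.is_comm.comm ⟨q, hQT hq⟩ ⟨y, hy⟩)
  set P := (Cfsg.pCore 2 (H ⧸ Cfsg.oddCore H)).comap f with hP
  have hTP : (T : Subgroup H) ≤ P := fun x hx => hTQ (by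
    rw [hTb, Sylow.coe_mapSurjective]; exact ⟨x, hx, rfl⟩)
  have : P.Normal := (Cores.pCore_normal (p := 2)).comap f
  have htop := Sylow.normalizer_sup_eq_top (T.subtype hTP)
  rw [Sylow.coe_subtype, map_subgroupOf_eq_of_le hTP] at htop
  have hTG := h.exists_conj_le (T.2.map H.subtype)
  obtain ⟨g, hgT⟩ := hTG
  obtain ⟨a, haU, ha1⟩ : ∃ a ∈ U, a ≠ 1 := by
    obtain ⟨a, ha⟩ := (Subgroup.ne_bot_iff_exists_ne_one).1 (fun hb : U = ⊥ => by
      rw [hb, Subgroup.card_bot] at h4; norm_num at h4)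
    exact ⟨a, a.2, fun h1 => ha (Subtype.ext h1)⟩
  have haT : (⟨a, hUH haU⟩ : H) ∈ (T : Subgroup H) := hT (mem_subgroupOf.2 haU)
  have hTM : ∀ x ∈ (T : Subgroup H), (x : G) ∈ maxSub S := by
    intro x hx
    refine h.centralizer_le_maxSub (hUS haU) ha1 (mem_centralizer_singleton_iff.2 ?_)
    have hcm := h.mul_comm' (hgT _ ⟨x, hx, rfl⟩) (hgT _ ⟨_, haT, rfl⟩)
    have : g * ((x : G) * a) * g⁻¹ = g * (a * (x : G)) * g⁻¹ := by
      simp only [coe_subtype] at hcm
      calc g * ((x : G) * a) * g⁻¹ = g * x * g⁻¹ * (g * a * g⁻¹) := by group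
        _ = g * a * g⁻¹ * (g * x * g⁻¹) := hcm
        _ = _ := by group
    exact mul_left_cancel (mul_right_cancel this)
  intro x hx
  obtain ⟨n, hn, w, hw, hnw⟩ := mem_sup_of_normal_right.1 (htop.ge (mem_top (⟨x, hx⟩ : H)))
  have hwM : (w : G) ∈ maxSub S := by
    have hw' : f w ∈ (Tb : Subgroup (H ⧸ Cfsg.oddCore H)) := hQT hw
    rw [hTb, Sylow.coe_mapSurjective] at hw'
    obtain ⟨t, ht, htw⟩ := hw'
    have ho : t⁻¹ * w ∈ Cfsg.oddCore H := QuotientGroup.eq.1 htw
    have := mul_mem (hTM t ht) (hOM ⟨_, ho, rfl⟩)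
    simpa using this
  have hnM : (n : G) ∈ maxSub S := by
    have hn' : n * ⟨a, hUH haU⟩ * n⁻¹ ∈ (T : Subgroup H) := (mem_normalizer_iff.1 hn _).1 haT
    exact Involutions.StronglyEmbedded.mem_of_conj h.stronglyEmbedded (h.le_maxSub (hUS haU))
      (h.orderOf_two (hUS haU) ha1) (hTM _ hn')
  have := mul_mem hnM hwM
  rwa [← Subgroup.coe_mul, hnw] at this

/-- A proper subgroup sharing a noncyclic 2-subgroup with `maxSub S` lies in it. -/
theorem Setup.le_of_four (h : Setup S) {H U : Subgroup G} (hH : H ≠ ⊤) (hUM : U ≤ maxSub S)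
    (hU : IsPGroup 2 U) (h4 : 4 ∣ Nat.card U) (hUH : U ≤ H) : H ≤ maxSub S := by
  obtain ⟨m, hm, hmU⟩ := h.exists_conj_le_maxSub hU hUM
  have hinj := (MulAut.conj m).injective
  have hle := h.le_of_four_aux (H := H.map (MulAut.conj m).toMonoidHom)
    (U := U.map (MulAut.conj m).toMonoidHom) ?_ ?_ (map_mono hUH) ?_
  · intro x hx
    have := hle ⟨x, hx, rfl⟩
    have h' := mul_mem (mul_mem (inv_mem hm) this) hm
    simpa [mul_assoc] using h'
  · intro htop
    refine hH (eq_top_iff.2 fun x _ => ?_)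
    obtain ⟨y, hy, hyx⟩ := htop.ge (mem_top ((MulAut.conj m) x))
    exact hinj hyx ▸ hy
  · rintro _ ⟨x, hx, rfl⟩
    exact hmU x hx
  · rwa [card_map_of_injective hinj]

end Cfsg.Agent.Hall.Numbers.Seven
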