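import Cfsg.Agent.Lib.Hall.NumbersSevenControl
import Cfsg.Agent.Lib.Hall.NumbersSevenEigen
import Cfsg.Agent.Lib.PLocal.CyclicExtension

/-!
A subgroup of index at most `p` of the invariant Sylow subgroup all of whose non-identity elements
have their centralisers inside the strongly embedded subgroup.
-/

set_option autoImplicit false

namespace Cfsg.Agent.Hall.Numbers.Seven

open Subgroup
open scoped commutatorElement

universe u

variable {G : Type u} [Group G] [Finite G] [IsSimpleGroup G] {S : Subgroup G}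

theorem Setup.isPGroup (h : Setup S) : IsPGroup 2 S :=
  IsPGroup.of_card (n := 3) (by rw [h.card]; norm_num)

theorem Setup.four_dvd (h : Setup S) {U : Subgroup G} (hUS : U ≤ S)
    (hle : Nat.card S ≤ 2 * Nat.card U) : 4 ∣ Nat.card U := by
  have : Fact (Nat.Prime 2) := ⟨Nat.prime_two⟩
  obtain ⟨k, hk⟩ := (h.isPGroup.to_le hUS).exists_card_eq
  have hk2 : 2 ≤ k := by
    by_contra hlt
    have := Nat.pow_le_pow_right two_pos (show k ≤ 1 by omega)
    rw [hk, h.card] at hle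
    omega
  exact hk ▸ pow_dvd_pow 2 hk2

/-- An element normalised like this by a four-group of `S` has its centralizer in the strongly
embedded subgroup. -/
theorem Setup.good_of_four (h : Setup S) {U : Subgroup G} (hUS : U ≤ S) (h4 : 4 ∣ Nat.card U)
    {e : G} (he1 : e ≠ 1) (he : ∀ u ∈ U, u * e * u⁻¹ = e ∨ u * e * u⁻¹ = e⁻¹) :
    centralizer ({e} : Set G) ≤ maxSub S := by
  have hH : normalizer (zpowers e : Set G) ≠ ⊤ := fun htop => by
    rcases IsSimpleGroup.eq_bot_or_eq_top_of_normal (zpowers e) (normalizer_eq_top_iff.1 htop) with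
      hb | ht
    · exact he1 (zpowers_eq_bot.1 hb)
    · refine h.nonsolvable (Group.isSolvable_of_comm fun a b => ?_)
      obtain ⟨i, rfl⟩ := mem_zpowers_iff.1 (ht ▸ mem_top a : a ∈ zpowers e)
      obtain ⟨j, rfl⟩ := mem_zpowers_iff.1 (ht ▸ mem_top b : b ∈ zpowers e)
      exact zpow_mul_comm e i j
  have hC : centralizer ({e} : Set G) ≤ normalizer (zpowers e : Set G) := by
    rw [zpowers_eq_closure, ← centralizer_closure]
    exact centralizer_le_normalizer _
  refine hC.trans (h.le_of_four hH (hUS.trans h.le_maxSub) (h.isPGroup.to_le hUS) h4 fun u hu => ?_)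
  rw [mem_normalizer_iff_map_conj_eq, MonoidHom.map_zpowers]
  show zpowers (u * e * u⁻¹) = zpowers e
  rcases he u hu with h1 | h1 <;> rw [h1]
  exact zpowers_inv

/-- A `p`-element commuting with a noncyclic group of good elements is good. -/
theorem Setup.good_of_commute (h : Setup S) {p : ℕ} [hp : Fact p.Prime] (hp2 : p ≠ 2)
    {R : Subgroup G} (c : Ctrl S p R) {z : G} (hzR : z ∈ R) (hzc : ∀ r ∈ R, r * z = z * r)
    (hzp : z ^ p = 1) (hzgood : centralizer ({z} : Set G) ≤ maxSub S)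
    {A : Subgroup G} (hAM : A ≤ maxSub S) (hAp : IsPGroup p A) (hAc : IsMulCommutative A)
    (hAnc : ¬ IsCyclic A) (hAgood : ∀ a ∈ A, a ≠ 1 → centralizer ({a} : Set G) ≤ maxSub S)
    {y : G} (hyM : y ∈ maxSub S) (hy1 : y ≠ 1) (hyp : ∃ k, y ^ p ^ k = 1)
    (hAy : ∀ a ∈ A, a * y = y * a) : centralizer ({y} : Set G) ≤ maxSub S := by
  obtain ⟨P, hPR⟩ := c.sylow
  set M := maxSub S with hM
  set H := centralizer ({y} : Set G) with hH
  have hPM : (P : Subgroup G) ≤ M := hPR ▸ c.le_signalizer.trans (signalizer_le S)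
  -- a Sylow subgroup of `C_M(y)` inside a conjugate of `R`
  obtain ⟨T2⟩ := (inferInstance : Nonempty (Sylow p ↥(H ⊓ M)))
  set T2G := (T2 : Subgroup ↥(H ⊓ M)).map (H ⊓ M).subtype with hT2G
  have hT2p : IsPGroup p T2G := T2.2.map _
  have hT2M : T2G ≤ M := (map_subtype_le _).trans inf_le_right
  have hT2H : T2G ≤ H := (map_subtype_le _).trans inf_le_left
  have hmax : ∀ Q : Subgroup G, IsPGroup p Q → Q ≤ H ⊓ M → T2G ≤ Q → Q ≤ T2G := by
    intro Q hQ hQle hTQ x hx
    have := T2.is_maximal' (hQ.comap_subtype (K := H ⊓ M)) fun v hv =>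
      mem_subgroupOf.2 (hTQ ⟨v, hv, rfl⟩)
    exact ⟨⟨x, hQle hx⟩, this ▸ mem_subgroupOf.2 hx, rfl⟩
  obtain ⟨T', hT'⟩ := (hT2p.comap_subtype (K := M)).exists_le_sylow
  obtain ⟨m, hm⟩ := MulAction.exists_smul_eq M T' (P.subtype hPM)
  have hmR : ∀ x ∈ T2G, (m : G) * x * (m : G)⁻¹ ∈ R := by
    intro x hx
    have : m * ⟨x, hT2M hx⟩ * m⁻¹ ∈ ((P.subtype hPM : Sylow p M) : Subgroup M) := by
      rw [← hm]
      show _ ∈ ((m • T' : Sylow p M) : Set M)
      rw [Sylow.coe_smul]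
      exact ⟨⟨x, hT2M hx⟩, hT' (mem_subgroupOf.2 hx), rfl⟩
    exact hPR ▸ this
  have hyH : y ∈ H := mem_centralizer_singleton_iff.2 rfl
  have hyT : y ∈ T2G := by
    obtain ⟨k, hk⟩ := hyp
    have hyN : y ∈ normalizer (T2G : Set G) := centralizer_le_normalizer _
      (mem_centralizer_iff.2 fun x hx => mem_centralizer_singleton_iff.1 (hT2H hx))
    have hzp' : IsPGroup p (zpowers y) := IsPGroup.of_card_dvd_pow (n := k) (by
      rw [Nat.card_zpowers]; exact orderOf_dvd_of_pow_eq_one hk)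
    exact hmax _ (hzp'.to_sup_of_normal_right' hT2p (zpowers_le.2 hyN))
      (sup_le (zpowers_le.2 ⟨hyH, hyM⟩) (map_subtype_le _)) le_sup_right
      (mem_sup_left (mem_zpowers y))
  set z' := (m : G)⁻¹ * z * m with hz'
  have hzM : z ∈ M := hPM (hPR ▸ hzR)
  have hz'M : z' ∈ M := mul_mem (mul_mem (inv_mem m.2) hzM) m.2
  have hz'c : ∀ x ∈ T2G, x * z' = z' * x := fun x hx => by
    have := hzc _ (hmR x hx)
    calc x * z' = (m : G)⁻¹ * ((m : G) * x * (m : G)⁻¹ * z) * m := by rw [hz']; group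
      _ = (m : G)⁻¹ * (z * ((m : G) * x * (m : G)⁻¹)) * m := by rw [this]
      _ = z' * x := by rw [hz']; group
  have hz'p : z' ^ p = 1 := by
    rw [hz']
    calc ((m : G)⁻¹ * z * m) ^ p = ((m : G)⁻¹ * z * ((m : G)⁻¹)⁻¹) ^ p := by rw [inv_inv]
      _ = 1 := by rw [conj_pow, hzp, mul_one, mul_inv_cancel]
  have hz'good : centralizer ({z'} : Set G) ≤ M := fun g hg => by
    have hg' : (m : G) * g * (m : G)⁻¹ ∈ centralizer ({z} : Set G) := by
      rw [mem_centralizer_singleton_iff] at hg ⊢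
      calc (m : G) * g * (m : G)⁻¹ * z = (m : G) * (g * z') * (m : G)⁻¹ := by rw [hz']; group
        _ = (m : G) * (z' * g) * (m : G)⁻¹ := by rw [hg]
        _ = z * ((m : G) * g * (m : G)⁻¹) := by rw [hz']; group
    have := mul_mem (mul_mem (inv_mem m.2) (hzgood hg')) m.2
    simpa [mul_assoc] using this
  have hz'H : z' ∈ H := mem_centralizer_singleton_iff.2 (hz'c y hyT).symm
  have hz'T : z' ∈ T2G := by
    have hzp' : IsPGroup p (zpowers z') := IsPGroup.of_card_dvd_pow (n := 1) (by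
      rw [Nat.card_zpowers, pow_one]; exact orderOf_dvd_of_pow_eq_one hz'p)
    have hzN : z' ∈ normalizer (T2G : Set G) :=
      centralizer_le_normalizer _ (mem_centralizer_iff.2 fun x hx => hz'c x hx)
    exact hmax _ (hzp'.to_sup_of_normal_right' hT2p (zpowers_le.2 hzN))
      (sup_le (zpowers_le.2 ⟨hz'H, hz'M⟩) (map_subtype_le _)) le_sup_right
      (mem_sup_left (mem_zpowers z'))
  -- it is a Sylow subgroup of `C(y)`
  obtain ⟨T, hT⟩ := (hT2p.comap_subtype (K := H)).exists_le_sylow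
  set TG := (T : Subgroup H).map H.subtype with hTG
  have hle : T2G ≤ TG := fun x hx => ⟨⟨x, hT2H hx⟩, hT (mem_subgroupOf.2 hx), rfl⟩
  have hTT : TG = T2G := by
    by_contra hne
    haveI : Group.IsNilpotent TG := (T.2.map H.subtype).isNilpotent
    have hlt := Group.normalizerCondition_of_isNilpotent (G := TG) (T2G.subgroupOf TG)
      (lt_top_iff_ne_top.2 fun h => hne (le_antisymm (subgroupOf_eq_top.1 h) hle))
    obtain ⟨⟨w, hwT⟩, hw, hwT2⟩ := SetLike.exists_of_lt hlt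
    rw [mem_subgroupOf] at hwT2
    have hwz : w * z' * w⁻¹ ∈ T2G :=
      mem_subgroupOf.1 ((mem_normalizer_iff.1 hw ⟨z', hle hz'T⟩).1 (mem_subgroupOf.2 hz'T))
    have hwM : w ∈ M := c.fix z' hz'M ⟨1, by rwa [pow_one]⟩ w (hT2M hwz) hz'good
    have hwN : w ∈ normalizer (T2G : Set G) := by
      refine mem_normalizer_iff.2 fun v => ⟨fun hv => ?_, fun hv => ?_⟩
      · exact mem_subgroupOf.1 ((mem_normalizer_iff.1 hw ⟨v, hle hv⟩).1 (mem_subgroupOf.2 hv))
      · have hvT : v ∈ TG := by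
          have := mul_mem (mul_mem (inv_mem hwT) (hle hv)) hwT
          rwa [show w⁻¹ * (w * v * w⁻¹) * w = v by group] at this
        exact mem_subgroupOf.1 ((mem_normalizer_iff.1 hw ⟨v, hvT⟩).2 (mem_subgroupOf.2 hv))
    have hwp : IsPGroup p (zpowers w) := (T.2.map H.subtype).to_le (zpowers_le.2 hwT)
    exact hwT2 (hmax _ (hwp.to_sup_of_normal_right' hT2p (zpowers_le.2 hwN))
      (sup_le (zpowers_le.2 ⟨map_subtype_le _ hwT, hwM⟩) (map_subtype_le _)) le_sup_right
      (mem_sup_left (mem_zpowers w)))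
  -- the core is generated by centralizers of good elements
  have hHtop : H ≠ ⊤ := h.centralizer_ne_top hy1
  have hAH : A ≤ H := fun a ha => mem_centralizer_singleton_iff.2 (hAy a ha)
  set K := (Cfsg.pPrimeCore p H).map H.subtype with hK
  have hKM : K ≤ M := by
    have hAK : A ≤ normalizer (K : Set G) := fun a ha =>
      le_normalizer_map H.subtype ⟨⟨a, hAH ha⟩,
        (normalizer_eq_top_iff.2 (Cores.pPrimeCore_normal (p := p))).ge (mem_top _), rfl⟩
    obtain ⟨j, hj⟩ := hAp.exists_card_eq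
    rw [← Coprime.fixedGen_eq hAnc hAK (by
      rw [hj, hK, card_map_of_injective (subtype_injective _)]
      exact (Cores.pPrimeCore_card_coprime p).symm.pow_left j)]
    exact iSup₂_le fun a ha => inf_le_right.trans (hAgood a ha.1 ha.2)
  -- `z'` lies in `Z(J(T))`
  have hzH : (⟨z', hz'H⟩ : H) ∈ Cfsg.centerThompsonOf p (T : Subgroup H) := by
    have hzT : (⟨z', hz'H⟩ : H) ∈ (T : Subgroup H) := hT (mem_subgroupOf.2 hz'T)
    have hcT : ∀ x ∈ (T : Subgroup H), x * ⟨z', hz'H⟩ = ⟨z', hz'H⟩ * x := fun x hx =>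
      Subtype.ext (hz'c x (hTT.le ⟨x, hx, rfl⟩))
    obtain ⟨E, hE⟩ := PLocal.ThompsonComplement.exists_isBig (p := p) (T : Subgroup H)
    have hzE : (⟨z', hz'H⟩ : H) ∈ E := by
      set z0 : H := ⟨z', hz'H⟩
      have hzE0 : ∀ a ∈ E, a * z0 = z0 * a := fun a ha => hcT a (hE.le ha)
      have hz0p : z0 ^ p = 1 := Subtype.ext (by simpa using hz'p)
      have hcomm : E ⊔ zpowers z0 ≤ centralizer ((E ⊔ zpowers z0 : Subgroup H) : Set H) := by
        rw [sup_eq_closure, closure_le]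
        intro a ha
        rw [SetLike.mem_coe, mem_centralizer_iff]
        intro b hb
        induction hb using closure_induction with
        | mem b hb =>
          rcases ha with ha | ha <;> rcases hb with hb | hb
          · exact hE.comm ha b hb
          · obtain ⟨i, rfl⟩ := mem_zpowers_iff.1 hb
            exact ((show Commute z0 a from (hzE0 a ha).symm).zpow_left i).eq
          · obtain ⟨i, rfl⟩ := mem_zpowers_iff.1 ha
            exact ((show Commute b z0 from hzE0 b hb).zpow_right i).eq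
          · obtain ⟨i, rfl⟩ := mem_zpowers_iff.1 hb
            obtain ⟨j, rfl⟩ := mem_zpowers_iff.1 ha
            exact zpow_mul_comm z0 i j
        | one => simp
        | mul b b' _ _ h1 h2 => rw [mul_assoc, h2, ← mul_assoc, h1, mul_assoc]
        | inv b _ h1 => exact ((show Commute b a from h1).inv_left).eq
      have hexp : ∀ a ∈ E ⊔ zpowers z0, a ^ p = 1 := by
        intro a ha
        rw [sup_eq_closure] at ha
        induction ha using closure_induction with
        | mem b hb =>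
          rcases hb with hb | hb
          · exact hE.exp b hb
          · obtain ⟨i, rfl⟩ := mem_zpowers_iff.1 hb
            rw [← zpow_natCast, ← zpow_mul, mul_comm, zpow_mul, zpow_natCast, hz0p, one_zpow]
        | one => exact one_pow p
        | mul b b' hb hb' h1 h2 =>
          rw [← sup_eq_closure] at hb hb'
          rw [(show Commute b b' from (hcomm hb') b hb).mul_pow, h1, h2, one_mul]
        | inv b _ h1 => rw [inv_pow, h1, inv_one]
      rw [eq_of_le_of_card_ge (le_sup_left : E ≤ E ⊔ zpowers z0)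
        (hE.max _ (sup_le hE.le (zpowers_le.2 hzT)) hcomm hexp)]
      exact mem_sup_right (mem_zpowers z0)
    refine ⟨PLocal.ThompsonComplement.le_J hE hzE, ?_⟩
    intro x hx
    exact hcT x (PLocal.ThompsonComplement.J_le _ hx)
  intro x hx
  have hfr := zj_frattini (h.solvable H hHtop) hp2 (h.abelianTwo.subgroup H) T
  have : (Cfsg.pPrimeCore p H).Normal := Cores.pPrimeCore_normal (p := p)
  obtain ⟨k, hk, n, hn, hkn⟩ := mem_sup_of_normal_left.1 (hfr.ge (mem_top (⟨x, hx⟩ : H)))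
  have hnz := (mem_normalizer_iff.1 hn _).1 hzH
  have hnT : (n : G) * z' * (n : G)⁻¹ ∈ T2G :=
    hTT.le ⟨_, PLocal.ThompsonComplement.J_le _ hnz.1, rfl⟩
  have hnM : (n : G) ∈ M := c.fix z' hz'M ⟨1, by rwa [pow_one]⟩ n (hT2M hnT) hz'good
  have := mul_mem (hKM ⟨k, hk, rfl⟩) hnM
  rwa [show (H.subtype k) * (n : G) = x from congrArg Subtype.val hkn] at this

/-- A subgroup of index at most `p` consisting of good elements. -/
theorem Setup.exists_good_subgroup (h : Setup S) {p : ℕ} [hp : Fact p.Prime] (hp2 : p ≠ 2)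
    {R : Subgroup G} (c : Ctrl S p R) (hRne : R ≠ ⊥) :
    ∃ Q ≤ R, Q.relIndex R ≤ p ∧ ∀ y ∈ Q, y ≠ 1 → centralizer ({y} : Set G) ≤ maxSub S := by
  obtain ⟨P, hPR⟩ := c.sylow
  have hRp : IsPGroup p R := hPR ▸ P.2
  have hRM : R ≤ maxSub S := c.le_signalizer.trans (signalizer_le S)
  have hodd : ∀ v ∈ R, Odd (orderOf v) := fun v hv =>
    h.signalizer_spec.1.of_dvd_nat (orderOf_dvd_natCard _ (c.le_signalizer hv))
  have hSmem : ∀ t ∈ S, ∀ v ∈ R, t * v * t⁻¹ ∈ R := fun t ht v hv =>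
    (mem_normalizer_iff.1 (c.invariant ht) v).1 hv
  have hinvS : ∀ t ∈ S, t⁻¹ = t := fun t ht => inv_eq_of_mul_eq_one_right (h.sq t ht)
  -- an eigenvector in the centre
  let V1 : Subgroup G :=
    { carrier := {v | v ∈ R ∧ v ^ p = 1 ∧ ∀ r ∈ R, r * v = v * r}
      one_mem' := ⟨one_mem _, one_pow p, fun r _ => by simp⟩
      mul_mem' := fun {a b} ha hb => ⟨mul_mem ha.1 hb.1, by
        rw [(show Commute a b from (hb.2.2 a ha.1)).mul_pow, ha.2.1, hb.2.1, one_mul],
        fun r hr => by rw [← mul_assoc, ha.2.2 r hr, mul_assoc, hb.2.2 r hr, mul_assoc]⟩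
      inv_mem' := fun {a} ha => ⟨inv_mem ha.1, by rw [inv_pow, ha.2.1, inv_one],
        fun r hr => ((show Commute r a from ha.2.2 r hr).inv_right).eq⟩ }
  have hSV1 : ∀ t ∈ S, ∀ v ∈ V1, t * v * t⁻¹ ∈ V1 := by
    intro t ht v hv
    refine ⟨hSmem t ht v hv.1, by rw [conj_pow, hv.2.1, mul_one, mul_inv_cancel], fun r hr => ?_⟩
    have h1 := hv.2.2 (t⁻¹ * r * t) (by
      have := hSmem t⁻¹ (inv_mem ht) r hr; rwa [inv_inv] at this)
    calc r * (t * v * t⁻¹) = t * (t⁻¹ * r * t * v) * t⁻¹ := by group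
      _ = t * (v * (t⁻¹ * r * t)) * t⁻¹ := by rw [h1]
      _ = t * v * t⁻¹ * r := by group
  have hnormalizer : ∀ {V : Subgroup G}, (∀ t ∈ S, ∀ v ∈ V, t * v * t⁻¹ ∈ V) →
      S ≤ normalizer (V : Set G) := fun {V} hV t ht => mem_normalizer_iff.2 fun v =>
    ⟨hV t ht v, fun hv => by
      have := hV t⁻¹ (inv_mem ht) _ hv
      rwa [show t⁻¹ * (t * v * t⁻¹) * t⁻¹⁻¹ = v by group] at this⟩
  have hV1ne : ¬ V1 ≤ ⊥ := fun hle => by
    have : Nontrivial R := R.nontrivial_iff_ne_bot.2 hRne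
    have := hRp.center_nontrivial
    obtain ⟨k, hk⟩ := (hRp.to_subgroup (center R)).exists_card_eq
    have hk0 : k ≠ 0 := fun h0 => by
      have := Finite.one_lt_card (α := center R); rw [hk, h0, pow_zero] at this; omega
    obtain ⟨z, hz⟩ := exists_prime_orderOf_dvd_card' p (hk ▸ dvd_pow_self p hk0)
    have hzV : ((z : R) : G) ∈ V1 := ⟨(z : R).2, by
      have := pow_orderOf_eq_one z
      rw [hz] at this
      exact congrArg (fun w : center R => ((w : R) : G)) this,
      fun r hr => congrArg Subtype.val (mem_center_iff.1 z.2 ⟨r, hr⟩)⟩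
    have h1 : z = 1 := Subtype.ext (Subtype.ext (mem_bot.1 (hle hzV)))
    rw [h1, orderOf_one] at hz
    exact hp.out.ne_one hz.symm
  obtain ⟨z, hzV, hz1', hzS⟩ := exists_eigen_subgroup hV1ne (fun a ha b hb => hb.2.2 a ha.1)
    (fun v hv => hodd v hv.1) (hnormalizer hSV1) h.sq
  have hz1 : z ≠ 1 := fun e => hz1' (mem_bot.2 e)
  obtain ⟨hzR, hzp, hzc⟩ := hzV
  have hzord : orderOf z = p := orderOf_eq_prime hzp hz1
  -- the four-group fixing `z`
  let Uz : Subgroup G :=
    { carrier := {t | t ∈ S ∧ t * z * t⁻¹ = z}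
      one_mem' := ⟨one_mem _, by group⟩
      mul_mem' := fun {a b} ha hb => ⟨mul_mem ha.1 hb.1, by
        calc a * b * z * (a * b)⁻¹ = a * (b * z * b⁻¹) * a⁻¹ := by group
          _ = z := by rw [hb.2, ha.2]⟩
      inv_mem' := fun {a} ha => ⟨inv_mem ha.1, by
        rw [hinvS a ha.1, inv_eq_of_mul_eq_one_right (h.sq a ha.1) |>.symm]
        exact (by rw [inv_inv]; rw [hinvS a ha.1] at *; simpa [hinvS a ha.1] using ha.2)⟩ }
  have hzgood : centralizer ({z} : Set G) ≤ maxSub S := by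
    refine h.good_of_four (U := Uz) (fun t ht => ht.1) (h.four_dvd (fun t ht => ht.1)
      (card_le_two_mul fun a ha b hb haU hbU => ⟨mul_mem ha hb, ?_⟩)) hz1 (fun u hu => Or.inl hu.2)
    have ha' := (hzS a ha).resolve_left fun e => haU ⟨ha, e⟩
    have hb' := (hzS b hb).resolve_left fun e => hbU ⟨hb, e⟩
    calc a * b * z * (a * b)⁻¹ = a * (b * z * b⁻¹) * a⁻¹ := by group
      _ = (a * z * a⁻¹)⁻¹ := by rw [hb']; group
      _ = z := by rw [ha', inv_inv]
  set Z := zpowers z with hZ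
  have hSZ : ∀ t ∈ S, ∀ v ∈ Z, t * v * t⁻¹ ∈ Z := by
    intro t ht v hv
    obtain ⟨i, rfl⟩ := mem_zpowers_iff.1 hv
    rw [← conj_zpow]
    rcases hzS t ht with e | e <;> rw [e]
    · exact zpow_mem (mem_zpowers z) i
    · exact zpow_mem (inv_mem (mem_zpowers z)) i
  have hZR : Z ≤ R := zpowers_le.2 hzR
  have hZc : ∀ r ∈ R, ∀ v ∈ Z, r * v = v * r := by
    intro r hr v hv
    obtain ⟨i, rfl⟩ := mem_zpowers_iff.1 hv
    exact ((show Commute r z from hzc r hr).zpow_right i).eq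
  have hRZ : R ≤ normalizer (Z : Set G) := fun r hr => centralizer_le_normalizer _
    (mem_centralizer_iff.2 fun v hv => (hZc r hr v hv).symm)
  by_cases hcyc : IsCyclic R
  · -- every element is normalised by the four-group fixing a generator
    obtain ⟨⟨g, hg⟩, hgen⟩ := IsCyclic.exists_generator (α := R)
    refine ⟨R, le_rfl, by rw [relIndex_self]; exact hp.out.one_le, fun y hy hy1 => ?_⟩
    obtain ⟨i, hi⟩ := mem_zpowers_iff.1 (hgen ⟨y, hy⟩)
    have hyg : y = g ^ i := (congrArg Subtype.val hi).symm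
    have hcomm : ∀ a ∈ R, ∀ b ∈ R, a * b = b * a := fun a ha b hb =>
      congrArg Subtype.val (IsCyclic.commGroup.mul_comm (⟨a, ha⟩ : R) ⟨b, hb⟩)
    -- fixed elements and inverted elements
    have hsign : ∀ t ∈ S, t * y * t⁻¹ = y ∨ t * y * t⁻¹ = y⁻¹ := by
      intro t ht
      have hX : ¬ R ≤ zpowers (g ^ p) := fun hle => by
        have h1 := card_le_of_le hle
        rw [Nat.card_zpowers, orderOf_pow] at h1
        have hd : p ∣ orderOf g := by
          obtain ⟨k, hk⟩ := IsPGroup.iff_orderOf.1 hRp ⟨g, hg⟩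
          rw [Subgroup.orderOf_mk] at hk
          refine hk ▸ dvd_pow_self p fun h0 => hz1 ?_
          rw [h0, pow_zero, orderOf_eq_one_iff] at hk
          obtain ⟨j, hj⟩ := mem_zpowers_iff.1 (hgen ⟨z, hzR⟩)
          rw [← show ((⟨g, hg⟩ : R) ^ j : R).1 = z from congrArg Subtype.val hj]
          simp [hk]
        rw [Nat.gcd_eq_right hd] at h1
        have h2 : Nat.card R = orderOf g := by
          rw [← Nat.card_zpowers g]
          exact congrArg (fun K : Subgroup G => Nat.card K) (le_antisymm (fun x hx => by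
            obtain ⟨j, hj⟩ := mem_zpowers_iff.1 (hgen ⟨x, hx⟩)
            exact mem_zpowers_iff.2 ⟨j, congrArg Subtype.val hj⟩) (zpowers_le.2 hg))
        rw [h2] at h1
        exact absurd h1 (not_le.2 (Nat.div_lt_self (orderOf_pos g) hp.out.one_lt))
      have hSt : zpowers t ≤ S := zpowers_le.2 ht
      obtain ⟨w, hwR, hwX, hw⟩ := exists_eigen_subgroup (S := zpowers t) hX hcomm hodd
        (hSt.trans c.invariant) (fun s hs => h.sq s (hSt hs))
      obtain ⟨j, hj⟩ := mem_zpowers_iff.1 (hgen ⟨w, hwR⟩)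
      have hwg : w = g ^ j := (congrArg Subtype.val hj).symm
      -- `w` generates
      have hjp : ¬ (p : ℤ) ∣ j := fun ⟨l, hl⟩ => hwX (mem_zpowers_iff.2 ⟨l, by
        rw [hwg, hl, zpow_mul, zpow_natCast]⟩)
      obtain ⟨k, hk⟩ := IsPGroup.iff_orderOf.1 hRp ⟨g, hg⟩
      rw [Subgroup.orderOf_mk] at hk
      obtain ⟨a, b, hab⟩ : IsCoprime j ((p ^ k : ℕ) : ℤ) := by
        push_cast
        exact (((Nat.prime_iff_prime_int.1 hp.out).coprime_iff_not_dvd.2 hjp).symm).pow_right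
      have hgw : g = w ^ a := by
        rw [hwg, ← zpow_mul]
        calc g = g ^ (a * j + b * ((p ^ k : ℕ) : ℤ)) := by rw [hab, zpow_one]
          _ = g ^ (j * a) := by
            rw [zpow_add, mul_comm b, zpow_mul g ((p ^ k : ℕ) : ℤ), zpow_natCast, ← hk,
              pow_orderOf_eq_one, one_zpow, mul_one, mul_comm]
      rw [hyg, hgw, ← zpow_mul, ← conj_zpow]
      rcases hw t (mem_zpowers t) with e | e <;> rw [e]
      · exact Or.inl rfl
      · exact Or.inr (inv_zpow w _)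
    let Uy : Subgroup G :=
      { carrier := {t | t ∈ S ∧ t * y * t⁻¹ = y}
        one_mem' := ⟨one_mem _, by group⟩
        mul_mem' := fun {a b} ha hb => ⟨mul_mem ha.1 hb.1, by
          calc a * b * y * (a * b)⁻¹ = a * (b * y * b⁻¹) * a⁻¹ := by group
            _ = y := by rw [hb.2, ha.2]⟩
        inv_mem' := fun {a} ha => by rw [hinvS a ha.1]; exact ha }
    refine h.good_of_four (U := Uy) (fun t ht => ht.1) (h.four_dvd (fun t ht => ht.1)
      (card_le_two_mul fun a ha b hb haU hbU => ⟨mul_mem ha hb, ?_⟩)) hy1 (fun u hu => Or.inl hu.2)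
    have ha' := (hsign a ha).resolve_left fun e => haU ⟨ha, e⟩
    have hb' := (hsign b hb).resolve_left fun e => hbU ⟨hb, e⟩
    calc a * b * y * (a * b)⁻¹ = a * (b * y * b⁻¹) * a⁻¹ := by group
      _ = (a * y * a⁻¹)⁻¹ := by rw [hb']; group
      _ = y := by rw [ha', inv_inv]
  -- elements of order `p` central modulo `Z`
  let V : Subgroup G :=
    { carrier := {v | v ∈ R ∧ v ^ p = 1 ∧ ∀ r ∈ R, ⁅v, r⁆ ∈ Z}
      one_mem' := ⟨one_mem _, one_pow p, fun r _ => by simp [commutatorElement_def]⟩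
      mul_mem' := fun {a b} ha hb => ⟨mul_mem ha.1 hb.1, by
          have hcb : ⁅b⁻¹, a⁻¹⁆ ∈ Z := by
            have h1 := hb.2.2 a ha.1
            have hcc : ⁅b⁻¹, a⁻¹⁆ = ⁅b, a⁆ := by
              have hz2 := hZc b hb.1 _ h1
              have hz3 := hZc a ha.1 _ h1
              calc ⁅b⁻¹, a⁻¹⁆ = (a * b)⁻¹ * ⁅b, a⁆ * (a * b) := by
                    rw [commutatorElement_def, commutatorElement_def]; group
                _ = (a * b)⁻¹ * (⁅b, a⁆ * a) * b := by group
                _ = (a * b)⁻¹ * (a * ⁅b, a⁆) * b := by rw [hz3]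
                _ = b⁻¹ * (⁅b, a⁆ * b) := by group
                _ = b⁻¹ * (b * ⁅b, a⁆) := by rw [hz2]
                _ = ⁅b, a⁆ := by group
            rwa [hcc]
          have hcp : ⁅b⁻¹, a⁻¹⁆ ^ p = 1 := by
            obtain ⟨i, hi⟩ := mem_zpowers_iff.1 hcb
            rw [← hi, ← zpow_natCast, ← zpow_mul, mul_comm, zpow_mul, zpow_natCast, hzp, one_zpow]
          exact mul_pow_eq_one hp.out hp2 (c := ⁅b⁻¹, a⁻¹⁆)
            (by rw [commutatorElement_def]; group) ((hZc a ha.1 _ hcb).symm)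
            ((hZc b hb.1 _ hcb).symm) ha.2.1 hb.2.1 hcp,
        fun r hr => by
          rw [show ⁅a * b, r⁆ = a * ⁅b, r⁆ * a⁻¹ * ⁅a, r⁆ by
            simp only [commutatorElement_def]; group]
          refine mul_mem ?_ (ha.2.2 r hr)
          rw [hZc a ha.1 _ (hb.2.2 r hr), mul_inv_cancel_right]
          exact hb.2.2 r hr⟩
      inv_mem' := fun {a} ha => ⟨inv_mem ha.1, by rw [inv_pow, ha.2.1, inv_one], fun r hr => by
        rw [show ⁅a⁻¹, r⁆ = a⁻¹ * ⁅a, r⁆⁻¹ * a by simp only [commutatorElement_def]; group,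
          hZc a⁻¹ (inv_mem ha.1) _ (inv_mem (ha.2.2 r hr)), inv_mul_cancel_right]
        exact inv_mem (ha.2.2 r hr)⟩ }
  have hSV : ∀ t ∈ S, ∀ v ∈ V, t * v * t⁻¹ ∈ V := by
    intro t ht v hv
    refine ⟨hSmem t ht v hv.1, by rw [conj_pow, hv.2.1, mul_one, mul_inv_cancel], fun r hr => ?_⟩
    have h1 := hv.2.2 (t⁻¹ * r * t) (by
      have := hSmem t⁻¹ (inv_mem ht) r hr; rwa [inv_inv] at this)
    have h2 := hSZ t ht _ h1
    rwa [show t * ⁅v, t⁻¹ * r * t⁆ * t⁻¹ = ⁅t * v * t⁻¹, r⁆ by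
      simp only [commutatorElement_def]; group] at h2
  have hVne : ¬ V ≤ Z := by
    by_cases hV1Z : V1 ≤ Z
    swap
    · obtain ⟨v, hv, hvZ⟩ := SetLike.not_le_iff_exists.1 hV1Z
      exact fun hle => hvZ (hle ⟨hv.1, hv.2.1, fun r hr => by
        rw [commutatorElement_eq_one_iff_mul_comm.2 (hv.2.2 r hr).symm]; exact one_mem _⟩)
    intro hle
    obtain ⟨E, -, hEn, hEe, hEc⟩ := PLocal.CyclicExtension.exists_normal_elementaryAbelian_sq hp2 hRp
      (⊤ : Subgroup R) (fun hc => hcyc (topEquiv.isCyclic.1 hc))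
    -- a central element of `E` of order `p` generates `Z`
    set Z' := Z.subgroupOf R with hZ'
    have hZ'n : Z'.Normal := normal_subgroupOf_of_le_normalizer hRZ
    have hEne : E ≠ ⊥ := fun hb => by
      rw [hb, Subgroup.card_bot] at hEc
      exact (Nat.one_lt_pow two_ne_zero hp.out.one_lt).ne hEc
    have : Group.IsNilpotent R := hRp.isNilpotent
    have := hEn
    have hcentral : E ⊓ center R ≠ ⊥ := Cores.inf_center_ne_bot hEne
    obtain ⟨⟨e, he⟩, hene⟩ := (Subgroup.ne_bot_iff_exists_ne_one).1 hcentral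
    have heZ : e ∈ Z' := by
      refine mem_subgroupOf.2 (hV1Z ⟨e.2, congrArg Subtype.val (hEe.2 e he.1), fun r hr => ?_⟩)
      exact congrArg Subtype.val (mem_center_iff.1 he.2 ⟨r, hr⟩)
    have hZ'c : Nat.card Z' = p := by
      rw [hZ', Nat.card_congr (subgroupOfEquivOfLe hZR).toEquiv, hZ, Nat.card_zpowers, hzord]
    have hZE : Z' ≤ E := by
      have h1 : zpowers e = Z' := eq_of_le_of_card_ge (zpowers_le.2 heZ) (by
        rw [hZ'c, Nat.card_zpowers]
        exact (orderOf_eq_prime (hEe.2 e he.1) fun h1 => hene (Subtype.ext h1)).ge)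
      exact h1 ▸ zpowers_le.2 he.1
    -- the image of `E` modulo `Z` is central
    have hquot : Nat.card (E.map (QuotientGroup.mk' Z')) = p := by
      have h1 := PLocal.Cores.card_eq_card_inf_ker_mul_card_map E (QuotientGroup.mk' Z')
      rw [QuotientGroup.ker_mk', inf_eq_right.2 hZE, hZ'c, hEc, pow_two] at h1
      exact (Nat.eq_of_mul_eq_mul_left hp.out.pos h1).symm
    have hcen := PLocal.CyclicExtension.le_center_of_card_eq
      (Z := E.map (QuotientGroup.mk' Z')) (hRp.to_quotient Z') hquot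
    have hEV : ∀ v ∈ E, (v : G) ∈ V := fun v hv => ⟨v.2, congrArg Subtype.val (hEe.2 v hv),
      fun r hr => by
        have h1 := mem_center_iff.1 (hcen ⟨v, hv, rfl⟩) (QuotientGroup.mk' Z' ⟨r, hr⟩)
        have h2 : QuotientGroup.mk' Z' ⁅v, ⟨r, hr⟩⁆ = 1 := by
          rw [map_commutatorElement, commutatorElement_eq_one_iff_mul_comm, h1]
        exact mem_subgroupOf.1 ((QuotientGroup.eq_one_iff _).1 h2)⟩
    have h2 : Nat.card E ≤ Nat.card Z' := card_le_of_le fun v hv => mem_subgroupOf.2 (hle (hEV v hv))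
    rw [hEc, hZ'c, pow_two] at h2
    exact absurd h2 (not_le.2 (lt_mul_self hp.out.one_lt))
  obtain ⟨y0, hy0V, hy0Z, hy0⟩ := exists_eigen_mod hVne (fun a ha b hb => ha.2.2 b hb.1)
    (fun v hv => hodd v hv.1) (fun v hv => hRZ hv.1) (hnormalizer hSZ) (hnormalizer hSV) h.sq
  -- the eigen pair
  set E := Z ⊔ zpowers y0 with hEdef
  have hZy : ∀ v ∈ Z, Commute v y0 := fun v hv => (hZc y0 hy0V.1 v hv).symm
  have hEmem : ∀ e, e ∈ E → ∃ v ∈ Z, ∃ i : ℤ, e = v * y0 ^ i := by
    intro e he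
    rw [hEdef, ← SetLike.mem_coe, coe_mul_of_right_le_normalizer_left] at he
    · obtain ⟨v, hv, w, hw, rfl⟩ := he
      obtain ⟨i, rfl⟩ := mem_zpowers_iff.1 hw
      exact ⟨v, hv, i, rfl⟩
    · exact zpowers_le.2 (hRZ hy0V.1)
  have hEc : ∀ a ∈ E, ∀ b ∈ E, a * b = b * a := by
    intro a ha b hb
    obtain ⟨v, hv, i, rfl⟩ := hEmem a ha
    obtain ⟨w, hw, j, rfl⟩ := hEmem b hb
    have h1 : Commute v w := hZc v (hZR hv) w hw
    exact ((h1.mul_right ((hZy v hv).zpow_right j)).mul_left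
      (((hZy w hw).symm.zpow_left i).mul_right (Commute.zpow_zpow_self y0 i j))).eq
  have hER : E ≤ R := sup_le hZR (zpowers_le.2 hy0V.1)
  have hSE : ∀ t ∈ S, ∀ e ∈ E, t * e * t⁻¹ ∈ E := by
    intro t ht e he
    obtain ⟨v, hv, i, rfl⟩ := hEmem e he
    rw [show t * (v * y0 ^ i) * t⁻¹ = t * v * t⁻¹ * (t * y0 * t⁻¹) ^ i by
      rw [conj_zpow]; group]
    refine mul_mem (mem_sup_left (hSZ t ht v hv)) (zpow_mem ?_ i)
    have hy : y0 ∈ E := mem_sup_right (mem_zpowers y0)
    rcases hy0 t ht with e | e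
    · simpa using mul_mem (mem_sup_left e : _ ∈ E) hy
    · simpa using mul_mem (mem_sup_left e : _ ∈ E) (inv_mem hy)
  obtain ⟨y, hyE, hyZ, hyS⟩ := exists_eigen_subgroup (V := E) (X := Z)
    (fun hle => hy0Z (hle (mem_sup_right (mem_zpowers y0)))) hEc
    (fun v hv => hodd v (hER hv)) (hnormalizer hSE) h.sq
  -- every element of `A` is good
  set A := Z ⊔ zpowers y with hA
  have hAE : A ≤ E := sup_le le_sup_left (zpowers_le.2 hyE)
  have hAcomm : IsMulCommutative A :=
    ⟨⟨fun a b => Subtype.ext (hEc a (hAE a.2) b (hAE b.2))⟩⟩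
  have hyp : y ^ p = 1 := by
    obtain ⟨v, hv, i, rfl⟩ := hEmem y hyE
    rw [((hZy v hv).zpow_right i).mul_pow]
    obtain ⟨j, rfl⟩ := mem_zpowers_iff.1 hv
    rw [← zpow_natCast, ← zpow_natCast, ← zpow_mul, ← zpow_mul, mul_comm j, mul_comm i, zpow_mul,
      zpow_mul, zpow_natCast, zpow_natCast, hzp, hy0V.2.1, one_zpow, one_zpow, one_mul]
  have hAnc : ¬ IsCyclic A := fun hc => by
    obtain ⟨⟨g, hg⟩, hgen⟩ := hc.exists_generator
    have hAeq : A = zpowers g := le_antisymm (fun x hx => by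
      obtain ⟨j, hj⟩ := mem_zpowers_iff.1 (hgen ⟨x, hx⟩)
      exact mem_zpowers_iff.2 ⟨j, congrArg Subtype.val hj⟩) (zpowers_le.2 hg)
    have hgp : g ^ p = 1 := by
      rw [hA, ← SetLike.mem_coe, coe_mul_of_right_le_normalizer_left] at hg
      · obtain ⟨v, hv, w, hw, rfl⟩ := hg
        obtain ⟨j, rfl⟩ := mem_zpowers_iff.1 hw
        have hvy : Commute v y := hEc v (mem_sup_left hv) y hyE
        rw [(hvy.zpow_right j).mul_pow]
        obtain ⟨l, rfl⟩ := mem_zpowers_iff.1 hv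
        rw [← zpow_natCast, ← zpow_natCast, ← zpow_mul, ← zpow_mul, mul_comm l, mul_comm j,
          zpow_mul, zpow_mul, zpow_natCast, zpow_natCast, hzp, hyp, one_zpow, one_zpow, one_mul]
      · exact zpowers_le.2 (hRZ (hER hyE))
    have h1 : Z = A := eq_of_le_of_card_ge le_sup_left (by
      rw [hAeq, hZ, Nat.card_zpowers, Nat.card_zpowers, hzord]
      exact Nat.le_of_dvd hp.out.pos (orderOf_dvd_of_pow_eq_one hgp))
    exact hyZ (h1 ▸ mem_sup_right (mem_zpowers y))
  have hAgood : ∀ e ∈ A, e ≠ 1 → centralizer ({e} : Set G) ≤ maxSub S := by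
    let U : Subgroup G :=
      { carrier := {t | t ∈ S ∧ ((t * z * t⁻¹ = z ∧ t * y * t⁻¹ = y) ∨
          (t * z * t⁻¹ = z⁻¹ ∧ t * y * t⁻¹ = y⁻¹))}
        one_mem' := ⟨one_mem _, Or.inl ⟨by group, by group⟩⟩
        mul_mem' := fun {a b} ha hb => ⟨mul_mem ha.1 hb.1, by
          have key : ∀ x : G, a * b * x * (a * b)⁻¹ = a * (b * x * b⁻¹) * a⁻¹ := fun x => by group
          rw [key, key]
          rcases ha.2 with ⟨a1, a2⟩ | ⟨a1, a2⟩ <;> rcases hb.2 with ⟨b1, b2⟩ | ⟨b1, b2⟩ <;>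
            simp only [b1, b2, ← conj_inv, a1, a2, inv_inv, and_self, true_or, or_true]⟩
        inv_mem' := fun {a} ha => by rw [hinvS a ha.1]; exact ha }
    intro e he he1
    refine h.good_of_four (U := U) (fun t ht => ht.1) (h.four_dvd (fun t ht => ht.1)
      (card_le_two_mul fun a ha b hb haU hbU => ⟨mul_mem ha hb, ?_⟩)) he1 fun u hu => ?_
    · have key : ∀ x : G, a * b * x * (a * b)⁻¹ = a * (b * x * b⁻¹) * a⁻¹ := fun x => by group
      have opp : ∀ c ∈ S, c ∉ U → (c * z * c⁻¹ = z ∧ c * y * c⁻¹ = y⁻¹) ∨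
          (c * z * c⁻¹ = z⁻¹ ∧ c * y * c⁻¹ = y) := by
        intro c hc hcU
        rcases hzS c hc with c1 | c1
        · exact Or.inl ⟨c1, (hyS c hc).resolve_left fun c2 => hcU ⟨hc, Or.inl ⟨c1, c2⟩⟩⟩
        · exact Or.inr ⟨c1, (hyS c hc).resolve_right fun c2 => hcU ⟨hc, Or.inr ⟨c1, c2⟩⟩⟩
      rw [key, key]
      rcases opp a ha haU with ⟨a1, a2⟩ | ⟨a1, a2⟩ <;> rcases opp b hb hbU with ⟨b1, b2⟩ | ⟨b1, b2⟩ <;>
        simp only [b1, b2, ← conj_inv, a1, a2, inv_inv, and_self, true_or, or_true]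
    · rw [hA, ← SetLike.mem_coe, coe_mul_of_right_le_normalizer_left] at he
      · obtain ⟨v, hv, w, hw, rfl⟩ := he
        obtain ⟨j, rfl⟩ := mem_zpowers_iff.1 hw
        obtain ⟨i, rfl⟩ := mem_zpowers_iff.1 hv
        rw [show u * (z ^ i * y ^ j) * u⁻¹ = (u * z * u⁻¹) ^ i * (u * y * u⁻¹) ^ j by
          rw [conj_zpow, conj_zpow]; group]
        rcases hu.2 with ⟨u1, u2⟩ | ⟨u1, u2⟩ <;> rw [u1, u2]
        · exact Or.inl rfl
        · refine Or.inr ?_
          rw [mul_inv_rev, inv_zpow, inv_zpow]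
          exact ((show Commute z y from hEc z (mem_sup_left (mem_zpowers z)) y hyE).zpow_zpow i j).inv_inv.eq
      · exact zpowers_le.2 (hRZ (hER hyE))
  -- `C_R(y)` has index at most `p`
  refine ⟨R ⊓ centralizer ({y} : Set G), inf_le_left, ?_, fun x hx hx1 => ?_⟩
  · rw [inf_relIndex_left, relIndex, index_eq_card]
    set C := (centralizer ({y} : Set G)).subgroupOf R
    have hyc : ∀ r ∈ R, r * y * r⁻¹ * y⁻¹ ∈ Z := by
      intro r hr
      obtain ⟨v, hv, i, rfl⟩ := hEmem y hyE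
      have hc0 : r * y0 * r⁻¹ * y0⁻¹ ∈ Z := by
        have := inv_mem (hy0V.2.2 r hr)
        rwa [commutatorElement_inv, commutatorElement_def] at this
      obtain ⟨w, hw⟩ : ∃ w : Z, r * y0 * r⁻¹ = w * y0 :=
        ⟨⟨_, hc0⟩, by group⟩
      rw [show r * (v * y0 ^ i) * r⁻¹ = r * v * r⁻¹ * (r * y0 * r⁻¹) ^ i by rw [conj_zpow]; group,
        hZc r hr v hv, mul_inv_cancel_right, hw, ((hZy _ w.2)).mul_zpow,
        show v * ((w : G) ^ i * y0 ^ i) * (v * y0 ^ i)⁻¹ = v * (w : G) ^ i * v⁻¹ by group]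
      exact mul_mem (mul_mem hv (zpow_mem w.2 i)) (inv_mem hv)
    refine (Nat.card_le_card_of_injective
      (fun q : R ⧸ C => (⟨_, hyc _ q.out.2⟩ : Z)) fun q q' hqq => ?_).trans
      (by rw [hZ, Nat.card_zpowers, hzord])
    rw [← QuotientGroup.out_eq' q, ← QuotientGroup.out_eq' q']
    refine QuotientGroup.eq.2 (mem_subgroupOf.2 (mem_centralizer_singleton_iff.2 ?_))
    have h1 : (q.out : G) * y * (q.out : G)⁻¹ = (q'.out : G) * y * (q'.out : G)⁻¹ :=
      mul_right_cancel (congrArg Subtype.val hqq)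
    calc ((q.out⁻¹ * q'.out : R) : G) * y
        = (q.out : G)⁻¹ * ((q'.out : G) * y * (q'.out : G)⁻¹) * (q'.out : G) := by simp [mul_assoc]
      _ = (q.out : G)⁻¹ * ((q.out : G) * y * (q.out : G)⁻¹) * (q'.out : G) := by rw [h1]
      _ = y * ((q.out⁻¹ * q'.out : R) : G) := by simp [mul_assoc]
  · obtain ⟨k, hk⟩ := hRp ⟨x, hx.1⟩
    refine h.good_of_commute hp2 c hzR hzc hzp hzgood (hAE.trans (hER.trans hRM))
      (hRp.to_le (hAE.trans hER)) hAcomm hAnc hAgood (hRM hx.1) hx1 ⟨k, congrArg Subtype.val hk⟩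
      fun e he => ?_
    rw [hA, ← SetLike.mem_coe, coe_mul_of_right_le_normalizer_left] at he
    · obtain ⟨v, hv, w, hw, rfl⟩ := he
      obtain ⟨j, rfl⟩ := mem_zpowers_iff.1 hw
      exact ((show Commute v x from (hZc x hx.1 v hv).symm).mul_left
        ((show Commute y x from (mem_centralizer_singleton_iff.1 hx.2).symm).zpow_left j)).eq
    · exact zpowers_le.2 (hRZ (hER hyE))

end Cfsg.Agent.Hall.Numbers.Seven
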