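import Cfsg.Agent.Lib.Hall.NumbersSmall
import Cfsg.Agent.Lib.Hall.MinimalNormal
import Cfsg.Agent.Lib.PLocal.Quadratic

/-!
A minimal nonsolvable group with `16 ∤ |G|`, `9 ∤ |G|` and no element of order three in the
normaliser of a 2-subgroup of order at least four.
-/

set_option autoImplicit false

namespace Cfsg.Agent.Hall.Numbers.Seven

open Subgroup

universe u

/-- The arithmetical hypotheses. -/
structure Hyp (G : Type u) [Group G] : Prop where
  sixteen : ¬ 16 ∣ Nat.card G
  nine : ¬ 9 ∣ Nat.card G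
  three : ∀ Q : Subgroup G, IsPGroup 2 Q → 4 ∣ Nat.card Q → ¬ 3 ∣ Nat.card (normalizer (Q : Set G))

variable {G : Type u} [Group G] [Finite G]

theorem Hyp.subgroup (h : Hyp G) (H : Subgroup G) : Hyp H where
  sixteen h' := h.sixteen (h'.trans H.card_subgroup_dvd_card)
  nine h' := h.nine (h'.trans H.card_subgroup_dvd_card)
  three Q hQ h4 h3 := h.three (Q.map H.subtype) (hQ.map _)
    (by rwa [card_map_of_injective H.subtype_injective])
    (h3.trans (by
      refine dvd_trans (Eq.dvd ?_) (card_dvd_of_le (le_normalizer_map H.subtype))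
      exact (card_map_of_injective H.subtype_injective).symm))

/-- A quotient by a normal subgroup of odd order satisfies the hypotheses again. -/
theorem Hyp.quotient (h : Hyp G) (A : Subgroup G) [A.Normal] (hA : Odd (Nat.card A)) :
    Hyp (G ⧸ A) where
  sixteen h' := h.sixteen (h'.trans A.card_quotient_dvd_card)
  nine h' := h.nine (h'.trans A.card_quotient_dvd_card)
  three Qb hQb h4 h3 := by
    have : Fact (Nat.Prime 2) := ⟨Nat.prime_two⟩
    set f := QuotientGroup.mk' A with hf
    set P := Qb.comap f with hP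
    obtain ⟨k, hk⟩ := hQb.exists_card_eq
    have hcard : Nat.card P = Nat.card A * 2 ^ k := by rw [hP, Cores.card_comap_mk', hk]
    have hfac : (Nat.card P).factorization 2 = k := by
      rw [hcard, Nat.factorization_mul Nat.card_pos.ne' (pow_pos two_pos k).ne', Finsupp.add_apply,
        Nat.factorization_eq_zero_of_not_dvd
          (fun h2 => Nat.not_even_iff_odd.2 hA (even_iff_two_dvd.2 h2)),
        Nat.prime_two.factorization_pow]
      simp
    obtain ⟨T⟩ := (inferInstance : Nonempty (Sylow 2 P))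
    set Q := (T : Subgroup P).map P.subtype with hQ
    have hQcard : Nat.card Q = 2 ^ k := by
      rw [hQ, card_map_of_injective P.subtype_injective, T.card_eq_multiplicity, hfac]
    have hker : f.ker = A := QuotientGroup.ker_mk' A
    have hAP : A ≤ P := hker ▸ f.ker_le_comap Qb
    have hQP : Q ≤ P := map_subtype_le _
    have hQb' : Q.map f = Qb := by
      refine eq_of_le_of_card_ge ((map_mono hQP).trans (map_comap_le _ _)) ?_
      have hinj : Nat.card (Q.map f) = Nat.card Q := by
        refine (Nat.card_congr (Equiv.Set.imageOfInjOn f (Q : Set G) fun x hx y hy hxy => ?_)).symm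
        have hA' : x⁻¹ * y ∈ A := QuotientGroup.eq.1 hxy
        have hd : orderOf (x⁻¹ * y) ∣ Nat.card A := orderOf_dvd_natCard A hA'
        have hd' : orderOf (x⁻¹ * y) ∣ 2 ^ k :=
          hQcard ▸ orderOf_dvd_natCard Q (mul_mem (inv_mem hx) hy)
        have hco : (2 ^ k).Coprime (Nat.card A) :=
          Nat.Coprime.pow_left _ (Nat.prime_two.coprime_iff_not_dvd.2
            fun h2 => Nat.not_even_iff_odd.2 hA (even_iff_two_dvd.2 h2))
        exact inv_mul_eq_one.1 (orderOf_eq_one_iff.1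
          (Nat.dvd_one.1 (hco.gcd_eq_one ▸ Nat.dvd_gcd hd' hd)))
      rw [hinj, hQcard, hk]
    refine h.three Q (T.2.map _) (by rwa [hQcard, ← hk]) (h3.trans ?_)
    -- Frattini: the normaliser of `Qb` is the image of that of `Q`
    have hle : normalizer (Qb : Set (G ⧸ A)) ≤ (normalizer (Q : Set G)).map f := by
      intro nb hnb
      obtain ⟨n, rfl⟩ := QuotientGroup.mk'_surjective A nb
      set c := MulAut.conj n with hc
      have hnP : P.map c.toMonoidHom = P := by
        refine eq_of_le_of_card_ge ?_ (by rw [card_map_of_injective c.injective])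
        rintro _ ⟨x, hx, rfl⟩
        show f (n * x * n⁻¹) ∈ Qb
        rw [map_mul, map_mul, map_inv]
        exact (mem_normalizer_iff.1 hnb (f x)).1 hx
      obtain ⟨a, haP, ha⟩ := Coprime.exists_conj_sylow_map (H := Q.map c.toMonoidHom) (K := P)
        (le_trans (map_mono hQP) hnP.le) T (by
          rw [card_map_of_injective c.injective, hQ, card_map_of_injective P.subtype_injective])
      rw [← hQ] at ha
      obtain ⟨q, hq, hqa⟩ := hQb'.ge (show f a ∈ Qb from haP)
      refine ⟨q * (a⁻¹ * n), mul_mem (le_normalizer hq) ?_, ?_⟩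
      · have hmap : Q.map (MulAut.conj (a⁻¹ * n)).toMonoidHom = Q := by
          have : (MulAut.conj (a⁻¹ * n)).toMonoidHom =
              (MulAut.conj a⁻¹).toMonoidHom.comp c.toMonoidHom := by
            ext x; simp [hc, mul_assoc]
          rw [this, ← Subgroup.map_map, ha]
          ext x
          simp [Subgroup.mem_map, Subgroup.mem_smul_pointwise_iff_exists, MulAut.smul_def, mul_assoc]
        refine mem_normalizer_iff.2 fun x => ⟨fun hx => hmap.le ⟨x, hx, rfl⟩, fun hx => ?_⟩
        obtain ⟨y, hy, hyx⟩ := hmap.ge hx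
        rwa [show x = y from (mul_left_cancel (mul_right_cancel hyx)).symm]
      · rw [map_mul, map_mul, map_inv, hqa, mul_inv_cancel_left]
    exact (card_dvd_of_le hle).trans (card_map_dvd _ _)

/-- The Sylow 2-subgroup of a minimal counterexample and its normaliser. -/
structure Setup (S : Subgroup G) : Prop where
  nonsolvable : ¬ Group.IsSolvable G
  solvable : ∀ H : Subgroup G, H ≠ ⊤ → Group.IsSolvable H
  nine : ¬ 9 ∣ Nat.card G
  sylow : ∃ T : Sylow 2 G, (T : Subgroup G) = S
  card : Nat.card S = 8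
  sq : ∀ s ∈ S, s * s = 1
  trans : ∀ s ∈ S, s ≠ 1 → ∀ t ∈ S, t ≠ 1 → ∃ n ∈ normalizer (S : Set G), n * s * n⁻¹ = t
  fix : ∀ n ∈ normalizer (S : Set G), ∀ t ∈ S, t ≠ 1 → n * t = t * n → n ∈ centralizer (S : Set G)
  index : Nat.card (normalizer (S : Set G)) = 7 * Nat.card (centralizer (S : Set G))

theorem isMulCommutative_of_sq {S : Subgroup G} (h : ∀ s ∈ S, s * s = 1) : IsMulCommutative S :=
  ⟨⟨fun a b => Subtype.ext (by
    have hi : ∀ s ∈ S, s⁻¹ = s := fun s hs => inv_eq_of_mul_eq_one_right (h s hs)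
    calc (a : G) * b = ((a : G) * b)⁻¹ := (hi _ (mul_mem a.2 b.2)).symm
      _ = b * a := by rw [mul_inv_rev, hi _ a.2, hi _ b.2])⟩⟩

/-- A group of order eight with an automorphism of order a power of seven. -/
theorem card_fixed_of_seven {S : Type u} [Group S] [Finite S] (hS : Nat.card S = 8)
    {σ : MulAut S} {j : ℕ} (hσ : σ ^ 7 ^ j = 1) {t : S} (ht : t ≠ 1) (hfix : σ t = t) : σ = 1 := by
  have : Fact (Nat.Prime 7) := ⟨by norm_num⟩
  set F : Subgroup S := MonoidHom.eqLocus σ.toMonoidHom (MonoidHom.id S) with hF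
  have hP : IsPGroup 7 (zpowers σ) := by
    refine IsPGroup.of_card_dvd_pow (n := j) ?_
    rw [Nat.card_zpowers]
    exact orderOf_dvd_of_pow_eq_one hσ
  have hfix' : MulAction.fixedPoints (zpowers σ) S = (F : Set S) := by
    ext x
    refine ⟨fun hx => hx ⟨σ, mem_zpowers σ⟩, fun (hx : σ x = x) => ?_⟩
    rintro ⟨τ, hτ⟩
    have : zpowers σ ≤ MulAction.stabilizer (MulAut S) x := zpowers_le.2 hx
    exact this hτ
  have hmod := hP.card_modEq_card_fixedPoints S
  rw [hfix', hS] at hmod
  have hdvd : Nat.card F ∣ 8 := hS ▸ F.card_subgroup_dvd_card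
  have hne : Nat.card F ≠ 1 := fun h1 => ht (by
    have hbot : F = ⊥ := Subgroup.card_eq_one.1 h1
    exact mem_bot.1 (hbot ▸ (show t ∈ F from hfix)))
  have h8 : Nat.card F = 8 := by
    have hle : Nat.card F ≤ 8 := Nat.le_of_dvd (by norm_num) hdvd
    have hmod' : 8 % 7 = Nat.card F % 7 := hmod
    omega
  ext x
  have : x ∈ F := (eq_top_of_card_eq F (h8.trans hS.symm)).symm ▸ mem_top x
  exact this

/-- The minimal counterexample is simple and has an elementary abelian Sylow 2-subgroup of order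
eight. -/
theorem exists_setup (h : Hyp G) (hns : ¬ Group.IsSolvable G)
    (hsub : ∀ H : Subgroup G, H ≠ ⊤ → Group.IsSolvable H)
    (hquot : ∀ A : Subgroup G, ∀ [A.Normal], A ≠ ⊥ → Odd (Nat.card A) → Group.IsSolvable (G ⧸ A)) :
    IsSimpleGroup G ∧ ∃ S : Subgroup G, Setup S := by
  have : Fact (Nat.Prime 2) := ⟨Nat.prime_two⟩
  obtain ⟨T⟩ := (inferInstance : Nonempty (Sylow 2 G))
  set S : Subgroup G := (T : Subgroup G) with hSdef
  obtain ⟨k, hk⟩ := T.isPGroup'.exists_card_eq
  have hk3 : k ≤ 3 := by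
    by_contra hlt
    exact h.sixteen ((pow_dvd_pow 2 (show 4 ≤ k by omega)).trans (hk ▸ card_subgroup_dvd_card _))
  -- an element acting
  obtain ⟨Q, hQT, g, hg, hgo, hgc⟩ := exists_action hns T
  obtain ⟨a, ha⟩ := (T.isPGroup'.to_le hQT).exists_card_eq
  have hak : a ≤ k := by
    refine (Nat.pow_le_pow_iff_right one_lt_two).1 ?_
    rw [← ha, ← hk]; exact card_le_of_le hQT
  have hno : ∀ n ∈ normalizer (Q : Set G), (orderOf n).Coprime 2 → n ∉ centralizer (Q : Set G) →
      a = 3 ∧ 7 ∣ orderOf n := fun n hn hno hnc => by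
    obtain ⟨ha2, h37⟩ := exists_prime_of_not_centralizes ha (by omega) hn hno hnc
    refine h37.resolve_left fun h3 => h.three Q (T.isPGroup'.to_le hQT) (ha ▸ pow_dvd_pow 2 ha2) ?_
    exact h3.trans (orderOf_dvd_natCard _ hn)
  obtain ⟨rfl, -⟩ := hno g hg hgo hgc
  obtain rfl : k = 3 := by omega
  obtain rfl : Q = S := eq_of_le_of_card_ge hQT (le_of_eq (hk.trans ha.symm))
  have hS8 : Nat.card S = 8 := hk
  set N := normalizer (S : Set G) with hN
  let φ : N →* MulAut S := S.normalizerMonoidHom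
  have hker : ∀ n : N, φ n = 1 ↔ (n : G) ∈ centralizer (S : Set G) := fun n => by
    rw [← MonoidHom.mem_ker, Subgroup.normalizerMonoidHom_ker, mem_subgroupOf]
  -- the action of an element of odd order is of seven-power order
  have hseven : ∀ n : N, (orderOf (n : G)).Coprime 2 → ∃ j, φ n ^ 7 ^ j = 1 := by
    intro n hn
    obtain ⟨j, e, he, hje⟩ := Nat.exists_eq_pow_mul_and_not_dvd
      (orderOf_pos (n : G)).ne' 7 (by norm_num)
    refine ⟨j, ?_⟩
    rw [← map_pow, hker]
    by_contra hnc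
    have ho : orderOf ((n : G) ^ 7 ^ j) = e := by
      rw [orderOf_pow' _ (pow_ne_zero _ (by norm_num)), hje,
        Nat.gcd_eq_right (Dvd.intro e rfl), Nat.mul_div_cancel_left _ (by positivity)]
    refine he (ho ▸ (hno _ (pow_mem n.2 _) ?_ (by simpa using hnc)).2)
    rw [ho]
    exact hn.coprime_dvd_left (hje ▸ Dvd.intro_left _ rfl)
  -- orbit of length seven
  obtain ⟨σ, hσr, hσ1, j, hσ⟩ : ∃ σ ∈ φ.range, σ ≠ 1 ∧ ∃ j, σ ^ 7 ^ j = 1 :=
    ⟨φ ⟨g, hg⟩, ⟨_, rfl⟩, fun h1 => hgc ((hker _).1 h1), hseven ⟨g, hg⟩ hgo⟩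
  have hP : IsPGroup 7 (zpowers σ) := by
    have : Fact (Nat.Prime 7) := ⟨by norm_num⟩
    refine IsPGroup.of_card_dvd_pow (n := j) ?_
    rw [Nat.card_zpowers]
    exact orderOf_dvd_of_pow_eq_one hσ
  have hS1 : Nat.card {x : S // x ≠ 1} = 7 := by
    have hset : Nat.card {x : S // x ≠ 1} = ({1}ᶜ : Set S).ncard := Nat.card_coe_set_eq _
    rw [hset, Set.ncard_compl, Set.ncard_singleton, hS8]
  have horbit : ∀ s t : S, s ≠ 1 → t ≠ 1 → ∃ τ ∈ φ.range, τ s = t := by
    intro s t hs ht
    have : Fact (Nat.Prime 7) := ⟨by norm_num⟩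
    obtain ⟨c, hc⟩ := hP.card_orbit s
    have hsub : MulAction.orbit (zpowers σ) s ⊆ {x : S | x ≠ 1} := by
      rintro _ ⟨⟨τ, hτ⟩, rfl⟩ h1
      exact hs (τ.injective (h1.trans (map_one τ).symm))
    have hc0 : c ≠ 0 := by
      rintro rfl
      refine hσ1 (card_fixed_of_seven hS8 hσ hs ?_)
      rw [pow_zero, Nat.card_eq_one_iff_unique] at hc
      exact congrArg Subtype.val (@Subsingleton.elim _ hc.1
        ⟨σ s, ⟨σ, mem_zpowers σ⟩, rfl⟩ ⟨s, MulAction.mem_orbit_self s⟩)
    have heq : MulAction.orbit (zpowers σ) s = {x : S | x ≠ 1} := by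
      refine Set.eq_of_subset_of_ncard_le hsub ?_
      rw [← Nat.card_coe_set_eq, ← Nat.card_coe_set_eq, hc]
      exact hS1.le.trans (Nat.le_self_pow hc0 7)
    obtain ⟨⟨τ, hτ⟩, hτs⟩ := (heq.ge ht : t ∈ MulAction.orbit (zpowers σ) s)
    exact ⟨τ, zpowers_le.2 hσr hτ, hτs⟩
  have hsq : ∀ s ∈ S, s * s = 1 := by
    obtain ⟨t, ht⟩ := exists_prime_orderOf_dvd_card' 2 (show 2 ∣ Nat.card S by rw [hS8]; norm_num)
    have ht1 : t ≠ 1 := fun h1 => by simp [h1] at ht
    have htt : t * t = 1 := by rw [← sq, ← ht, pow_orderOf_eq_one]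
    intro s hs
    by_cases hs1 : (⟨s, hs⟩ : S) = 1
    · have : s = 1 := congrArg Subtype.val hs1
      simp [this]
    obtain ⟨τ, -, hτ⟩ := horbit t ⟨s, hs⟩ ht1 hs1
    have := congrArg Subtype.val (show τ t * τ t = 1 by rw [← map_mul, htt, map_one])
    rwa [hτ] at this
  have hcomm := isMulCommutative_of_sq hsq
  have hfix : ∀ n : N, ∀ t : S, t ≠ 1 → φ n t = t → φ n = 1 := by
    intro n t ht hnt
    obtain ⟨b, e, he, hne⟩ := Nat.exists_eq_pow_mul_and_not_dvd
      (orderOf_pos (n : G)).ne' 2 (by norm_num)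
    have hpow : ∀ i, (φ n ^ i) t = t := fun i => by
      have : φ n ∈ MulAction.stabilizer (MulAut S) t := hnt
      exact pow_mem this i
    have h1 : φ n ^ 2 ^ b = 1 := by
      obtain ⟨i, hi⟩ := hseven (n ^ 2 ^ b) (by
        rw [SubgroupClass.coe_pow, orderOf_pow' _ (by positivity), hne,
          Nat.gcd_eq_right (Dvd.intro e rfl), Nat.mul_div_cancel_left _ (by positivity)]
        exact (Nat.prime_two.coprime_iff_not_dvd.2 he).symm)
      rw [← map_pow]
      exact card_fixed_of_seven hS8 hi ht (by rw [map_pow]; exact hpow _)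
    have h2 : φ n ^ e = 1 := by
      rw [← map_pow, hker]
      have hxS : ((n : G) ^ e) ∈ S := by
        have hz : IsPGroup 2 (zpowers ((n : G) ^ e)) := by
          refine IsPGroup.of_card_dvd_pow (n := b) ?_
          rw [Nat.card_zpowers]
          exact orderOf_dvd_of_pow_eq_one (by
            rw [← pow_mul, mul_comm, ← hne, pow_orderOf_eq_one])
        have := T.is_maximal' (hz.to_sup_of_normal_right' T.isPGroup'
          (zpowers_le.2 (pow_mem n.2 e))) le_sup_right
        exact this.le (mem_sup_left (mem_zpowers _))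
      rw [SubgroupClass.coe_pow, mem_centralizer_iff]
      exact fun x hx => congrArg Subtype.val (hcomm.is_comm.comm ⟨x, hx⟩ ⟨_, hxS⟩)
    have hd := Nat.dvd_gcd (orderOf_dvd_of_pow_eq_one h1) (orderOf_dvd_of_pow_eq_one h2)
    rw [(Nat.Coprime.pow_left b (Nat.prime_two.coprime_iff_not_dvd.2 he)).gcd_eq_one] at hd
    exact orderOf_eq_one_iff.1 (Nat.dvd_one.1 hd)
  have hsetup : Setup S := by
    refine ⟨hns, hsub, h.nine, ⟨T, rfl⟩, hS8, hsq, fun s hs hs1 t ht ht1 => ?_,
      fun n hn t ht ht1 hc => ?_, ?_⟩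
    · obtain ⟨τ, ⟨n, rfl⟩, hτ⟩ := horbit ⟨s, hs⟩ ⟨t, ht⟩ (fun h1 => hs1 (congrArg Subtype.val h1))
        fun h1 => ht1 (congrArg Subtype.val h1)
      exact ⟨n, n.2, congrArg Subtype.val hτ⟩
    · refine (hker ⟨n, hn⟩).1 (hfix ⟨n, hn⟩ ⟨t, ht⟩ (fun h1 => ht1 (congrArg Subtype.val h1)) ?_)
      exact Subtype.ext (show n * t * n⁻¹ = t by rw [hc, mul_inv_cancel_right])
    · have hr : Nat.card φ.range = 7 := by
        have : Nontrivial S := Finite.one_lt_card_iff_nontrivial.1 (by rw [hS8]; norm_num)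
        obtain ⟨t, ht⟩ := exists_ne (1 : S)
        refine (Nat.card_congr (Equiv.ofBijective (fun τ : φ.range =>
          (⟨(τ : MulAut S) t, fun h1 => ht ((τ : MulAut S).injective (h1.trans (map_one _).symm))⟩ :
            {x : S // x ≠ 1})) ⟨fun τ₁ τ₂ h12 => ?_, fun x => ?_⟩)).trans hS1
        · obtain ⟨_, n₁, rfl⟩ := τ₁
          obtain ⟨_, n₂, rfl⟩ := τ₂
          refine Subtype.ext (eq_of_inv_mul_eq_one ?_)
          rw [← map_inv, ← map_mul]
          refine hfix _ t ht ?_
          rw [map_mul, map_inv, MulAut.mul_apply,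
            ← (show φ n₁ t = φ n₂ t from congrArg Subtype.val h12)]
          exact MulEquiv.symm_apply_apply _ _
        · obtain ⟨τ, hτ, hτt⟩ := horbit t x ht x.2
          exact ⟨⟨τ, hτ⟩, Subtype.ext hτt⟩
      have hk' : Nat.card φ.ker = Nat.card (centralizer (S : Set G)) := by
        rw [Subgroup.normalizerMonoidHom_ker]
        exact Nat.card_congr (subgroupOfEquivOfLe (centralizer_le_normalizer _)).toEquiv
      rw [← Nat.card_congr (QuotientGroup.quotientKerEquivRange φ).toEquiv] at hr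
      rw [card_eq_card_quotient_mul_card_subgroup φ.ker, hr, hk']
  have : Nontrivial G := not_subsingleton_iff_nontrivial.1 fun hss => hns inferInstance
  refine ⟨⟨fun K hK => ?_⟩, S, hsetup⟩
  by_contra hne
  push Not at hne
  obtain ⟨hKbot, hKtop⟩ := hne
  have := hK
  obtain ⟨A, hAn, hAK, hA, hmin⟩ := Hall.exists_minimal_normal K hKbot
  have := hAn
  have : Group.IsSolvable K := hsub K hKtop
  have hAs : Group.IsSolvable A := Group.isSolvable_of_isSolvable_injective (inclusion_injective hAK)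
  obtain ⟨p, hp, -, hpA, -⟩ := Hall.minimal_normal_isElementaryAbelian hA hmin
  have := Fact.mk hp
  obtain ⟨m, hm⟩ := hpA.exists_card_eq
  by_cases hp2 : p = 2
  · subst hp2
    have hAS : A ≤ S := le_sup_left.trans
      (T.is_maximal' (hpA.to_sup_of_normal_left T.isPGroup') le_sup_right).le
    have hSA : S ≤ A := fun t ht => by
      obtain ⟨a, haA, ha1⟩ := A.ne_bot_iff_exists_ne_one.1 hA |>.elim fun a ha =>
        (⟨a, a.2, fun h1 => ha (Subtype.ext h1)⟩ : ∃ x, x ∈ A ∧ x ≠ 1)
      by_cases ht1 : t = 1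
      · exact ht1 ▸ one_mem A
      obtain ⟨n, -, rfl⟩ := hsetup.trans a (hAS haA) ha1 t ht ht1
      exact hAn.conj_mem a haA n
    obtain rfl : A = S := le_antisymm hAS hSA
    have htop : normalizer (S : Set G) = ⊤ := normalizer_eq_top_iff.2 hAn
    have hsol := isSolvable_normalizer (G := G) T.isPGroup' fun h32 => h.sixteen (by
      rw [← hSdef, hS8] at h32
      exact (Nat.dvd_trans (by norm_num) h32))
    rw [← hSdef, htop] at hsol
    exact hns (Group.isSolvable_of_surjective (f := (topEquiv (G := G)).toMonoidHom)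
      topEquiv.surjective)
  · have hodd : Odd (Nat.card A) := hm ▸ (hp.odd_of_ne_two hp2).pow
    have := hquot A hA hodd
    exact hns (Group.isSolvable_of_ker_le_range A.subtype (QuotientGroup.mk' A) (by simp))

end Cfsg.Agent.Hall.Numbers.Seven
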